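import Mathlib
import Cfsg.Agent.Helper17.Cox

set_option autoImplicit false

namespace Cfsg.Agent.Helper17.CoxDataE6

open Cfsg.Agent.Helper17.Cox

abbrev CM : CoxeterMatrix (Fin 6) := CoxeterMatrix.E₆

def A : Fin 6 → Matrix (Fin 6) (Fin 6) ℤ := ![!![-1, 0, 0, 0, 0, 0; 0, 1, 0, 0, 0, 0; 1, 0, 1, 0, 0, 0; 0, 0, 0, 1, 0, 0; 0, 0, 0, 0, 1, 0; 0, 0, 0, 0, 0, 1], !![1, 0, 0, 0, 0, 0; 0, -1, 0, 0, 0, 0; 0, 0, 1, 0, 0, 0; 0, 1, 0, 1, 0, 0; 0, 0, 0, 0, 1, 0; 0, 0, 0, 0, 0, 1], !![1, 0, 1, 0, 0, 0; 0, 1, 0, 0, 0, 0; 0, 0, -1, 0, 0, 0; 0, 0, 1, 1, 0, 0; 0, 0, 0, 0, 1, 0; 0, 0, 0, 0, 0, 1], !![1, 0, 0, 0, 0, 0; 0, 1, 0, 1, 0, 0; 0, 0, 1, 1, 0, 0; 0, 0, 0, -1, 0, 0; 0, 0, 0, 1, 1, 0; 0, 0, 0, 0, 0, 1], !![1, 0, 0, 0, 0, 0; 0, 1, 0, 0, 0, 0; 0, 0, 1, 0, 0, 0; 0, 0, 0, 1, 1, 0; 0, 0, 0, 0, -1, 0; 0, 0, 0, 0, 1,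 1], !![1, 0, 0, 0, 0, 0; 0, 1, 0, 0, 0, 0; 0, 0, 1, 0, 0, 0; 0, 0, 0, 1, 0, 0; 0, 0, 0, 0, 1, 1; 0, 0, 0, 0, 0, -1]]

def L1 : Lvl 6 :=
  { c := 2
    words := [[], [0]]
    tab := [[(1, [])], [(0, [])]]
    rk := [[2], [2]]
    jst := [[0], [1]]
    vecs := [![1, 0, 0, 0, 0, 0], ![-1, 0, 1, 0, 0, 0]] }

def L2 : Lvl 6 :=
  { c := 2
    words := [[], [1]]
    tab := [[(0, [0]), (1, [])], [(1, [0]), (0, [])]]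
    rk := [[1, 2], [3, 2]]
    jst := [[2, 0], [4, 1]]
    vecs := [![0, 1, 0, 0, 0, 0], ![0, -1, 0, 1, 0, 0]] }

def L3 : Lvl 6 :=
  { c := 3
    words := [[], [2], [0, 2]]
    tab := [[(0, [0]), (0, [1]), (1, [])], [(2, []), (1, [1]), (0, [])], [(1, []), (2, [1]), (2, [0])]]
    rk := [[1, 1, 2], [4, 3, 2], [4, 5, 5]]
    jst := [[2, 2, 0], [0, 5, 1], [1, 3, 3]]
    vecs := [![0, 0, 1, 0, 0, 0], ![1, 0, -1, 1, 0, 0], ![-1, 0, 0, 1, 0, 0]] }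

def L4 : Lvl 6 :=
  { c := 10
    words := [[], [3], [1, 3], [2, 3], [2, 1, 3], [0, 2, 3], [0, 2, 1, 3], [3, 2, 1, 3], [3, 0, 2, 1, 3], [2, 3, 0, 2, 1, 3]]
    tab := [[(0, [0]), (0, [1]), (0, [2]), (1, [])], [(1, [0]), (2, []), (3, []), (0, [])], [(2, [0]), (1, []), (4, []), (2, [1])], [(5, []), (4, []), (1, []), (3, [2])], [(6, []), (3, []), (2, []), (7, [])], [(3, []), (6, []), (5, [0]), (5, [2])], [(4, []), (5, []), (6, [0]), (8, [])], [(8, []), (7, [2]), (7, [1]), (4, [])], [(7, []), (8, [2]), (9, []), (6, [])], [(9, [1]), (9, [2]), (8, []), (9, [0])]]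
    rk := [[1, 1, 1, 2], [3, 4, 4, 2], [5, 4, 6, 5], [6, 7, 4, 5], [8, 7, 6, 8], [6, 9, 7, 7], [8, 9, 9, 10], [11, 9, 9, 8], [11, 11, 12, 10], [13, 13, 12, 13]]
    jst := [[2, 2, 2, 0], [6, 0, 0, 1], [4, 1, 0, 4], [0, 5, 1, 5], [0, 5, 1, 0], [1, 3, 3, 3], [1, 3, 3, 0], [6, 6, 6, 1], [6, 6, 0, 1], [5, 5, 1, 5]]
    vecs := [![0, 0, 0, 1, 0, 0], ![0, 1, 1, -1, 1, 0], ![0, -1, 1, 0, 1, 0], ![1, 1, -1, 0, 1, 0], ![1, -1, -1, 1, 1, 0], ![-1, 1, 0, 0, 1, 0], ![-1, -1, 0, 1, 1, 0], ![1, 0, 0, -1, 2, 0], ![-1, 0, 1, -1, 2, 0], ![0, 0, -1, 0, 2, 0]] }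

def L5 : Lvl 6 :=
  { c := 16
    words := [[], [4], [3, 4], [1, 3, 4], [2, 3, 4], [2, 1, 3, 4], [0, 2, 3, 4], [0, 2, 1, 3, 4], [3, 2, 1, 3, 4], [3, 0, 2, 1, 3, 4], [4, 3, 2, 1, 3, 4], [2, 3, 0, 2, 1, 3, 4], [4, 3, 0, 2, 1, 3, 4], [4, 2, 3, 0, 2, 1, 3, 4], [3, 4, 2, 3, 0, 2, 1, 3, 4], [1, 3, 4, 2, 3, 0, 2, 1, 3, 4]]
    tab := [[(0, [0]), (0, [1]), (0, [2]), (0, [3]), (1, [])], [(1, [0]), (1, [1]), (1, [2]), (2, []), (0, [])], [(2, [0]), (3, []), (4, []), (1, []), (2, [3])], [(3, [0]), (2, []), (5, []), (3, [1]), (3, [3])], [(6, []), (5, []), (2, []), (4, [2]), (4, [3])], [(7, []), (4, []), (3, []), (8, []), (5, [3])], [(4, []), (7, []), (6, [0]), (6, [2]), (6, [3])], [(5, []), (6, []), (7, [0]), (9, []), (7, [3])], [(9, []), (8, [2]), (8, [1]), (5, []), (10, [])], [(8, []), (9, [2]), (11, []), (7,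 []), (12, [])], [(12, []), (10, [2]), (10, [1]), (10, [3]), (8, [])], [(11, [1]), (11, [2]), (9, []), (11, [0]), (13, [])], [(10, []), (12, [2]), (13, []), (12, [3]), (9, [])], [(13, [1]), (13, [2]), (12, []), (14, []), (11, [])], [(14, [1]), (15, []), (14, [3]), (13, []), (14, [0])], [(15, [1]), (14, []), (15, [3]), (15, [2]), (15, [0])]]
    rk := [[1, 1, 1, 1, 2], [3, 3, 3, 4, 2], [5, 6, 6, 4, 5], [7, 6, 8, 7, 7], [8, 9, 6, 7, 7], [10, 9, 8, 10, 9], [8, 11, 9, 9, 9], [10, 11, 11, 12, 11], [13, 11, 11, 10, 12], [13, 13, 14, 12, 14], [15, 13, 13, 13, 12], [15, 15, 14, 15, 16], [15, 15, 17, 15, 14], [17, 17, 17, 18, 16], [19, 20, 19, 18, 19], [21, 20, 21, 21, 21]]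
    jst := [[2, 2, 2, 2, 0], [7, 7, 7, 0, 1], [6, 0, 0, 1, 6], [4, 1, 0, 4, 4], [0, 5, 1, 5, 5], [0, 5, 1, 0, 5], [1, 3, 3, 3, 3], [1, 3, 3, 0, 3], [6, 6, 6, 1, 0], [6, 6, 0, 1, 0], [7, 7, 7, 7, 1], [5, 5, 1, 5, 0], [7, 7, 7, 7, 1], [7, 7, 7, 0, 1], [6, 0, 6, 1, 6], [4, 1, 4, 4, 4]]
    vecs := [![0, 0, 0, 0, 1, 0], ![0, 0, 0, 1, -1, 1], ![0, 1, 1, -1, 0, 1], ![0, -1, 1, 0, 0, 1], ![1, 1, -1, 0, 0, 1], ![1, -1, -1, 1, 0, 1], ![-1, 1, 0, 0, 0, 1], ![-1, -1, 0, 1, 0, 1], ![1, 0, 0, -1, 1, 1], ![-1, 0, 1, -1, 1, 1], ![1, 0, 0, 0, -1, 2], ![0, 0, -1, 0, 1, 1], ![-1, 0, 1, 0, -1, 2], ![0, 0, -1, 1, -1, 2], ![0, 1, 0, -1, 0, 2], ![0, -1, 0, 0, 0, 2]] }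

def L6 : Lvl 6 :=
  { c := 27
    words := [[], [5], [4, 5], [3, 4, 5], [1, 3, 4, 5], [2, 3, 4, 5], [2, 1, 3, 4, 5], [0, 2, 3, 4, 5], [0, 2, 1, 3, 4, 5], [3, 2, 1, 3, 4, 5], [3, 0, 2, 1, 3, 4, 5], [4, 3, 2, 1, 3, 4, 5], [2, 3, 0, 2, 1, 3, 4, 5], [4, 3, 0, 2, 1, 3, 4, 5], [5, 4, 3, 2, 1, 3, 4, 5], [4, 2, 3, 0, 2, 1, 3, 4, 5], [5, 4, 3, 0, 2, 1, 3, 4, 5], [3, 4, 2, 3, 0, 2, 1, 3, 4, 5], [5, 4, 2, 3, 0, 2, 1, 3, 4, 5], [1, 3, 4, 2, 3, 0, 2, 1, 3, 4, 5], [5, 3, 4, 2, 3, 0, 2, 1, 3, 4, 5], [5, 1, 3, 4, 2, 3, 0, 2, 1, 3, 4, 5], [4, 5, 3, 4, 2, 3, 0, 2, 1, 3, 4, 5], [4, 5, 1, 3, 4, 2, 3, 0, 2, 1, 3, 4, 5], [3, 4, 5, 1, 3, 4, 2, 3, 0, 2, 1, 3, 4, 5], [2, 3, 4, 5, 1, 3, 4, 2, 3, 0, 2, 1, 3, 4, 5], [0, 2, 3, 4, 5, 1, 3, 4, 2, 3, 0, 2, 1, 3, 4, 5]]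
    tab := [[(0, [0]), (0, [1]), (0, [2]), (0, [3]), (0, [4]), (1, [])], [(1, [0]), (1, [1]), (1, [2]), (1, [3]), (2, []), (0, [])], [(2, [0]), (2, [1]), (2, [2]), (3, []), (1, []), (2, [4])], [(3, [0]), (4, []), (5, []), (2, []), (3, [3]), (3, [4])], [(4, [0]), (3, []), (6, []), (4, [1]), (4, [3]), (4, [4])], [(7, []), (6, []), (3, []), (5, [2]), (5, [3]), (5, [4])], [(8, []), (5, []), (4, []), (9, []), (6, [3]), (6, [4])], [(5, []), (8, []), (7, [0]), (7, [2]), (7, [3]), (7, [4])], [(6, []), (7, []), (8, [0]), (10, []), (8, [3]), (8, [4])], [(10, []), (9, [2]), (9, [1]), (6, []), (11, []), (9, [4])], [(9, []), (10, [2]), (12, []), (8, []), (13, []), (10, [4])], [(13, []), (11, [2]), (11, [1]), (11, [3]), (9, []), (14, [])], [(12, [1]), (12, [2]), (10, []), (12, [0]), (15, []), (12, [4])], [(11,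 []), (13, [2]), (15, []), (13, [3]), (10, []), (16, [])], [(16, []), (14, [2]), (14, [1]), (14, [3]), (14, [4]), (11, [])], [(15, [1]), (15, [2]), (13, []), (17, []), (12, []), (18, [])], [(14, []), (16, [2]), (18, []), (16, [3]), (16, [4]), (13, [])], [(17, [1]), (19, []), (17, [3]), (15, []), (17, [0]), (20, [])], [(18, [1]), (18, [2]), (16, []), (20, []), (18, [4]), (15, [])], [(19, [1]), (17, []), (19, [3]), (19, [2]), (19, [0]), (21, [])], [(20, [1]), (21, []), (20, [3]), (18, []), (22, []), (17, [])], [(21, [1]), (20, []), (21, [3]), (21, [2]), (23, []), (19, [])], [(22, [1]), (23, []), (22, [3]), (22, [4]), (20, []), (22, [0])], [(23, [1]), (22, []), (23, [3]), (24, []), (21, []), (23, [0])], [(24, [1]), (24, [4]), (25, []), (23, []), (24, [2]), (24, [0])], [(26, []), (25, [4]), (24, []), (25,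 [3]), (25, [2]), (25, [0])], [(25, []), (26, [4]), (26, [1]), (26, [3]), (26, [2]), (26, [0])]]
    rk := [[1, 1, 1, 1, 1, 2], [3, 3, 3, 3, 4, 2], [5, 5, 5, 6, 4, 5], [7, 8, 8, 6, 7, 7], [9, 8, 10, 9, 9, 9], [10, 11, 8, 9, 9, 9], [12, 11, 10, 12, 11, 11], [10, 13, 11, 11, 11, 11], [12, 13, 13, 14, 13, 13], [15, 13, 13, 12, 14, 13], [15, 15, 16, 14, 16, 15], [17, 15, 15, 15, 14, 16], [17, 17, 16, 17, 18, 17], [17, 17, 19, 17, 16, 18], [19, 17, 17, 17, 17, 16], [19, 19, 19, 20, 18, 20], [19, 19, 21, 19, 19, 18], [21, 22, 21, 20, 21, 22], [21, 21, 21, 23, 21, 20], [23, 22, 23, 23, 23, 24], [23, 25, 23, 23, 24, 22], [25, 25, 25, 25, 26, 24], [25, 27, 25, 25, 24, 25], [27, 27, 27, 28, 26, 27], [29, 29, 30, 28, 29, 29], [32, 31, 30, 31, 31, 31], [32, 33, 33, 33, 33, 33]]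
    jst := [[2, 2, 2, 2, 2, 0], [8, 8, 8, 8, 0, 1], [7, 7, 7, 0, 1, 7], [6, 0, 0, 1, 6, 6], [4, 1, 0, 4, 4, 4], [0, 5, 1, 5, 5, 5], [0, 5, 1, 0, 5, 5], [1, 3, 3, 3, 3, 3], [1, 3, 3, 0, 3, 3], [6, 6, 6, 1, 0, 6], [6, 6, 0, 1, 0, 6], [7, 7, 7, 7, 1, 0], [5, 5, 1, 5, 0, 5], [7, 7, 7, 7, 1, 0], [8, 8, 8, 8, 8, 1], [7, 7, 7, 0, 1, 0], [8, 8, 8, 8, 8, 1], [6, 0, 6, 1, 6, 0], [8, 8, 8, 8, 8, 1], [4, 1, 4, 4, 4, 0], [8, 8, 8, 8, 0, 1], [8, 8, 8, 8, 0, 1], [7, 7, 7, 7, 1, 7], [7, 7, 7, 0, 1, 7], [6, 6, 0, 1, 6, 6], [0, 5, 1, 5, 5, 5], [1, 3, 3, 3, 3, 3]]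
    vecs := [![0, 0, 0, 0, 0, 1], ![0, 0, 0, 0, 1, -1], ![0, 0, 0, 1, -1, 0], ![0, 1, 1, -1, 0, 0], ![0, -1, 1, 0, 0, 0], ![1, 1, -1, 0, 0, 0], ![1, -1, -1, 1, 0, 0], ![-1, 1, 0, 0, 0, 0], ![-1, -1, 0, 1, 0, 0], ![1, 0, 0, -1, 1, 0], ![-1, 0, 1, -1, 1, 0], ![1, 0, 0, 0, -1, 1], ![0, 0, -1, 0, 1, 0], ![-1, 0, 1, 0, -1, 1], ![1, 0, 0, 0, 0, -1], ![0, 0, -1, 1, -1, 1], ![-1, 0, 1, 0, 0, -1], ![0, 1, 0, -1, 0, 1], ![0, 0, -1, 1, 0, -1], ![0, -1, 0, 0, 0, 1], ![0, 1, 0, -1, 1, -1], ![0, -1, 0, 0, 1, -1], ![0, 1, 0, 0, -1, 0], ![0, -1, 0, 1, -1, 0], ![0, 0, 1, -1, 0, 0], ![1, 0, -1, 0, 0, 0], ![-1, 0, 0, 0, 0, 0]] }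

def Ls : List (Lvl 6) := [L1, L2, L3, L4, L5, L6]

set_option maxHeartbeats 0 in
theorem hA : CM.IsLiftable A := by
  unfold CoxeterMatrix.IsLiftable
  decide +kernel

set_option maxHeartbeats 0 in
theorem hchk : chkAll CM A Ls = true := by decide +kernel

theorem card : Nat.card CM.Group = 51840 := by
  rw [card_group CM A hA Ls hchk]
  decide +kernel

set_option maxHeartbeats 0 in
theorem cox : orderOf (((List.finRange 6).map CM.simple).prod) = 12 := by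
  refine coxeter_order CM A hA Ls hchk 12 (by norm_num) ?_ ?_
  · decide +kernel
  · decide +kernel

end Cfsg.Agent.Helper17.CoxDataE6
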