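import Mathlib
import Cfsg.Agent.Helper17.Cox

set_option autoImplicit false

namespace Cfsg.Agent.Helper17.CoxDataE7

open Cfsg.Agent.Helper17.Cox

abbrev CM : CoxeterMatrix (Fin 7) := CoxeterMatrix.E₇

def A : Fin 7 → Matrix (Fin 7) (Fin 7) ℤ := ![!![-1, 0, 0, 0, 0, 0, 0; 0, 1, 0, 0, 0, 0, 0; 1, 0, 1, 0, 0, 0, 0; 0, 0, 0, 1, 0, 0, 0; 0, 0, 0, 0, 1, 0, 0; 0, 0, 0, 0, 0, 1, 0; 0, 0, 0, 0, 0, 0, 1], !![1, 0, 0, 0, 0, 0, 0; 0, -1, 0, 0, 0, 0, 0; 0, 0, 1, 0, 0, 0, 0; 0, 1, 0, 1, 0, 0, 0; 0, 0, 0, 0, 1, 0, 0; 0, 0, 0, 0, 0, 1, 0; 0, 0, 0, 0, 0, 0, 1], !![1, 0, 1, 0, 0, 0, 0; 0, 1, 0, 0, 0, 0, 0; 0, 0, -1, 0, 0, 0, 0; 0, 0, 1, 1, 0, 0, 0; 0, 0, 0, 0, 1, 0, 0; 0, 0, 0, 0, 0, 1, 0; 0, 0, 0, 0, 0, 0, 1], !![1, 0, 0, 0, 0, 0, 0; 0, 1, 0, 1, 0, 0, 0; 0, 0, 1, 1, 0, 0, 0; 0, 0, 0, -1, 0, 0, 0;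 0, 0, 0, 1, 1, 0, 0; 0, 0, 0, 0, 0, 1, 0; 0, 0, 0, 0, 0, 0, 1], !![1, 0, 0, 0, 0, 0, 0; 0, 1, 0, 0, 0, 0, 0; 0, 0, 1, 0, 0, 0, 0; 0, 0, 0, 1, 1, 0, 0; 0, 0, 0, 0, -1, 0, 0; 0, 0, 0, 0, 1, 1, 0; 0, 0, 0, 0, 0, 0, 1], !![1, 0, 0, 0, 0, 0, 0; 0, 1, 0, 0, 0, 0, 0; 0, 0, 1, 0, 0, 0, 0; 0, 0, 0, 1, 0, 0, 0; 0, 0, 0, 0, 1, 1, 0; 0, 0, 0, 0, 0, -1, 0; 0, 0, 0, 0, 0, 1, 1], !![1, 0, 0, 0, 0, 0, 0; 0, 1, 0, 0, 0, 0, 0; 0, 0, 1, 0, 0, 0, 0; 0, 0, 0, 1, 0, 0, 0; 0, 0, 0, 0, 1, 0, 0; 0, 0, 0, 0, 0, 1, 1; 0, 0, 0, 0, 0, 0, -1]]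

def L1 : Lvl 7 :=
  { c := 2
    words := [[], [0]]
    tab := [[(1, [])], [(0, [])]]
    rk := [[2], [2]]
    jst := [[0], [1]]
    vecs := [![1, 0, 0, 0, 0, 0, 0], ![-1, 0, 1, 0, 0, 0, 0]] }

def L2 : Lvl 7 :=
  { c := 2
    words := [[], [1]]
    tab := [[(0, [0]), (1, [])], [(1, [0]), (0, [])]]
    rk := [[1, 2], [3, 2]]
    jst := [[2, 0], [4, 1]]
    vecs := [![0, 1, 0, 0, 0, 0, 0], ![0, -1, 0, 1, 0, 0, 0]] }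

def L3 : Lvl 7 :=
  { c := 3
    words := [[], [2], [0, 2]]
    tab := [[(0, [0]), (0, [1]), (1, [])], [(2, []), (1, [1]), (0, [])], [(1, []), (2, [1]), (2, [0])]]
    rk := [[1, 1, 2], [4, 3, 2], [4, 5, 5]]
    jst := [[2, 2, 0], [0, 5, 1], [1, 3, 3]]
    vecs := [![0, 0, 1, 0, 0, 0, 0], ![1, 0, -1, 1, 0, 0, 0], ![-1, 0, 0, 1, 0, 0, 0]] }

def L4 : Lvl 7 :=
  { c := 10
    words := [[], [3], [1, 3], [2, 3], [2, 1, 3], [0, 2, 3], [0, 2, 1, 3], [3, 2, 1, 3], [3, 0, 2, 1, 3], [2, 3, 0, 2, 1, 3]]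
    tab := [[(0, [0]), (0, [1]), (0, [2]), (1, [])], [(1, [0]), (2, []), (3, []), (0, [])], [(2, [0]), (1, []), (4, []), (2, [1])], [(5, []), (4, []), (1, []), (3, [2])], [(6, []), (3, []), (2, []), (7, [])], [(3, []), (6, []), (5, [0]), (5, [2])], [(4, []), (5, []), (6, [0]), (8, [])], [(8, []), (7, [2]), (7, [1]), (4, [])], [(7, []), (8, [2]), (9, []), (6, [])], [(9, [1]), (9, [2]), (8, []), (9, [0])]]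
    rk := [[1, 1, 1, 2], [3, 4, 4, 2], [5, 4, 6, 5], [6, 7, 4, 5], [8, 7, 6, 8], [6, 9, 7, 7], [8, 9, 9, 10], [11, 9, 9, 8], [11, 11, 12, 10], [13, 13, 12, 13]]
    jst := [[2, 2, 2, 0], [6, 0, 0, 1], [4, 1, 0, 4], [0, 5, 1, 5], [0, 5, 1, 0], [1, 3, 3, 3], [1, 3, 3, 0], [6, 6, 6, 1], [6, 6, 0, 1], [5, 5, 1, 5]]
    vecs := [![0, 0, 0, 1, 0, 0, 0], ![0, 1, 1, -1, 1, 0, 0], ![0, -1, 1, 0, 1, 0, 0], ![1, 1, -1, 0, 1, 0, 0], ![1, -1, -1, 1, 1, 0, 0], ![-1, 1, 0, 0, 1, 0, 0], ![-1, -1, 0, 1, 1, 0, 0], ![1, 0, 0, -1, 2, 0, 0], ![-1, 0, 1, -1, 2, 0, 0], ![0, 0, -1, 0, 2, 0, 0]] }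

def L5 : Lvl 7 :=
  { c := 16
    words := [[], [4], [3, 4], [1, 3, 4], [2, 3, 4], [2, 1, 3, 4], [0, 2, 3, 4], [0, 2, 1, 3, 4], [3, 2, 1, 3, 4], [3, 0, 2, 1, 3, 4], [4, 3, 2, 1, 3, 4], [2, 3, 0, 2, 1, 3, 4], [4, 3, 0, 2, 1, 3, 4], [4, 2, 3, 0, 2, 1, 3, 4], [3, 4, 2, 3, 0, 2, 1, 3, 4], [1, 3, 4, 2, 3, 0, 2, 1, 3, 4]]
    tab := [[(0, [0]), (0, [1]), (0, [2]), (0, [3]), (1, [])], [(1, [0]), (1, [1]), (1, [2]), (2, []), (0, [])], [(2, [0]), (3, []), (4, []), (1, []), (2, [3])], [(3, [0]), (2, []), (5, []), (3, [1]), (3, [3])], [(6, []), (5, []), (2, []), (4, [2]), (4, [3])], [(7, []), (4, []), (3, []), (8, []), (5, [3])], [(4, []), (7, []), (6, [0]), (6, [2]), (6, [3])], [(5, []), (6, []), (7, [0]), (9, []), (7, [3])], [(9, []), (8, [2]), (8, [1]), (5, []), (10, [])], [(8, []), (9,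 [2]), (11, []), (7, []), (12, [])], [(12, []), (10, [2]), (10, [1]), (10, [3]), (8, [])], [(11, [1]), (11, [2]), (9, []), (11, [0]), (13, [])], [(10, []), (12, [2]), (13, []), (12, [3]), (9, [])], [(13, [1]), (13, [2]), (12, []), (14, []), (11, [])], [(14, [1]), (15, []), (14, [3]), (13, []), (14, [0])], [(15, [1]), (14, []), (15, [3]), (15, [2]), (15, [0])]]
    rk := [[1, 1, 1, 1, 2], [3, 3, 3, 4, 2], [5, 6, 6, 4, 5], [7, 6, 8, 7, 7], [8, 9, 6, 7, 7], [10, 9, 8, 10, 9], [8, 11, 9, 9, 9], [10, 11, 11, 12, 11], [13, 11, 11, 10, 12], [13, 13, 14, 12, 14], [15, 13, 13, 13, 12], [15, 15, 14, 15, 16], [15, 15, 17, 15, 14], [17, 17, 17, 18, 16], [19, 20, 19, 18, 19], [21, 20, 21, 21, 21]]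
    jst := [[2, 2, 2, 2, 0], [7, 7, 7, 0, 1], [6, 0, 0, 1, 6], [4, 1, 0, 4, 4], [0, 5, 1, 5, 5], [0, 5, 1, 0, 5], [1, 3, 3, 3, 3], [1, 3, 3, 0, 3], [6, 6, 6, 1, 0], [6, 6, 0, 1, 0], [7, 7, 7, 7, 1], [5, 5, 1, 5, 0], [7, 7, 7, 7, 1], [7, 7, 7, 0, 1], [6, 0, 6, 1, 6], [4, 1, 4, 4, 4]]
    vecs := [![0, 0, 0, 0, 1, 0, 0], ![0, 0, 0, 1, -1, 1, 0], ![0, 1, 1, -1, 0, 1, 0], ![0, -1, 1, 0, 0, 1, 0], ![1, 1, -1, 0, 0, 1, 0], ![1, -1, -1, 1, 0, 1, 0], ![-1, 1, 0, 0, 0, 1, 0], ![-1, -1, 0, 1, 0, 1, 0], ![1, 0, 0, -1, 1, 1, 0], ![-1, 0, 1, -1, 1, 1, 0], ![1, 0, 0, 0, -1, 2, 0], ![0, 0, -1, 0, 1, 1, 0], ![-1, 0, 1, 0, -1, 2, 0], ![0, 0, -1, 1, -1, 2, 0], ![0, 1, 0, -1, 0, 2, 0], ![0, -1, 0, 0, 0, 2, 0]] }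

def L6 : Lvl 7 :=
  { c := 27
    words := [[], [5], [4, 5], [3, 4, 5], [1, 3, 4, 5], [2, 3, 4, 5], [2, 1, 3, 4, 5], [0, 2, 3, 4, 5], [0, 2, 1, 3, 4, 5], [3, 2, 1, 3, 4, 5], [3, 0, 2, 1, 3, 4, 5], [4, 3, 2, 1, 3, 4, 5], [2, 3, 0, 2, 1, 3, 4, 5], [4, 3, 0, 2, 1, 3, 4, 5], [5, 4, 3, 2, 1, 3, 4, 5], [4, 2, 3, 0, 2, 1, 3, 4, 5], [5, 4, 3, 0, 2, 1, 3, 4, 5], [3, 4, 2, 3, 0, 2, 1, 3, 4, 5], [5, 4, 2, 3, 0, 2, 1, 3, 4, 5], [1, 3, 4, 2, 3, 0, 2, 1, 3, 4, 5], [5, 3, 4, 2, 3, 0, 2, 1, 3, 4, 5], [5, 1, 3, 4, 2, 3, 0, 2, 1, 3, 4, 5], [4, 5, 3, 4, 2, 3, 0, 2, 1, 3, 4, 5], [4, 5, 1, 3, 4, 2, 3, 0, 2, 1, 3, 4, 5], [3, 4, 5, 1, 3, 4, 2, 3, 0, 2, 1, 3, 4, 5], [2, 3, 4, 5, 1, 3, 4, 2, 3, 0, 2, 1, 3, 4, 5], [0, 2, 3, 4, 5, 1, 3, 4, 2, 3, 0, 2, 1, 3, 4, 5]]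
    tab := [[(0, [0]), (0, [1]), (0, [2]), (0, [3]), (0, [4]), (1, [])], [(1, [0]), (1, [1]), (1, [2]), (1, [3]), (2, []), (0, [])], [(2, [0]), (2, [1]), (2, [2]), (3, []), (1, []), (2, [4])], [(3, [0]), (4, []), (5, []), (2, []), (3, [3]), (3, [4])], [(4, [0]), (3, []), (6, []), (4, [1]), (4, [3]), (4, [4])], [(7, []), (6, []), (3, []), (5, [2]), (5, [3]), (5, [4])], [(8, []), (5, []), (4, []), (9, []), (6, [3]), (6, [4])], [(5, []), (8, []), (7, [0]), (7, [2]), (7, [3]), (7, [4])], [(6, []), (7, []), (8, [0]), (10, []), (8, [3]), (8, [4])], [(10, []), (9, [2]), (9, [1]), (6, []), (11, []), (9, [4])], [(9, []), (10, [2]), (12, []), (8, []), (13, []), (10, [4])], [(13, []), (11, [2]), (11, [1]), (11, [3]), (9, []), (14, [])], [(12, [1]), (12, [2]), (10, []), (12, [0]), (15, []), (12,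 [4])], [(11, []), (13, [2]), (15, []), (13, [3]), (10, []), (16, [])], [(16, []), (14, [2]), (14, [1]), (14, [3]), (14, [4]), (11, [])], [(15, [1]), (15, [2]), (13, []), (17, []), (12, []), (18, [])], [(14, []), (16, [2]), (18, []), (16, [3]), (16, [4]), (13, [])], [(17, [1]), (19, []), (17, [3]), (15, []), (17, [0]), (20, [])], [(18, [1]), (18, [2]), (16, []), (20, []), (18, [4]), (15, [])], [(19, [1]), (17, []), (19, [3]), (19, [2]), (19, [0]), (21, [])], [(20, [1]), (21, []), (20, [3]), (18, []), (22, []), (17, [])], [(21, [1]), (20, []), (21, [3]), (21, [2]), (23, []), (19, [])], [(22, [1]), (23, []), (22, [3]), (22, [4]), (20, []), (22, [0])], [(23, [1]), (22, []), (23, [3]), (24, []), (21, []), (23, [0])], [(24, [1]), (24, [4]), (25, []), (23, []), (24, [2]), (24, [0])], [(26,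 []), (25, [4]), (24, []), (25, [3]), (25, [2]), (25, [0])], [(25, []), (26, [4]), (26, [1]), (26, [3]), (26, [2]), (26, [0])]]
    rk := [[1, 1, 1, 1, 1, 2], [3, 3, 3, 3, 4, 2], [5, 5, 5, 6, 4, 5], [7, 8, 8, 6, 7, 7], [9, 8, 10, 9, 9, 9], [10, 11, 8, 9, 9, 9], [12, 11, 10, 12, 11, 11], [10, 13, 11, 11, 11, 11], [12, 13, 13, 14, 13, 13], [15, 13, 13, 12, 14, 13], [15, 15, 16, 14, 16, 15], [17, 15, 15, 15, 14, 16], [17, 17, 16, 17, 18, 17], [17, 17, 19, 17, 16, 18], [19, 17, 17, 17, 17, 16], [19, 19, 19, 20, 18, 20], [19, 19, 21, 19, 19, 18], [21, 22, 21, 20, 21, 22], [21, 21, 21, 23, 21, 20], [23, 22, 23, 23, 23, 24], [23, 25, 23, 23, 24, 22], [25, 25, 25, 25, 26, 24], [25, 27, 25, 25, 24, 25], [27, 27, 27, 28, 26, 27], [29, 29, 30, 28, 29, 29], [32, 31, 30, 31, 31, 31], [32, 33, 33,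 33, 33, 33]]
    jst := [[2, 2, 2, 2, 2, 0], [8, 8, 8, 8, 0, 1], [7, 7, 7, 0, 1, 7], [6, 0, 0, 1, 6, 6], [4, 1, 0, 4, 4, 4], [0, 5, 1, 5, 5, 5], [0, 5, 1, 0, 5, 5], [1, 3, 3, 3, 3, 3], [1, 3, 3, 0, 3, 3], [6, 6, 6, 1, 0, 6], [6, 6, 0, 1, 0, 6], [7, 7, 7, 7, 1, 0], [5, 5, 1, 5, 0, 5], [7, 7, 7, 7, 1, 0], [8, 8, 8, 8, 8, 1], [7, 7, 7, 0, 1, 0], [8, 8, 8, 8, 8, 1], [6, 0, 6, 1, 6, 0], [8, 8, 8, 8, 8, 1], [4, 1, 4, 4, 4, 0], [8, 8, 8, 8, 0, 1], [8, 8, 8, 8, 0, 1], [7, 7, 7, 7, 1, 7], [7, 7, 7, 0, 1, 7], [6, 6, 0, 1, 6, 6], [0, 5, 1, 5, 5, 5], [1, 3, 3, 3, 3, 3]]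
    vecs := [![0, 0, 0, 0, 0, 1, 0], ![0, 0, 0, 0, 1, -1, 1], ![0, 0, 0, 1, -1, 0, 1], ![0, 1, 1, -1, 0, 0, 1], ![0, -1, 1, 0, 0, 0, 1], ![1, 1, -1, 0, 0, 0, 1], ![1, -1, -1, 1, 0, 0, 1], ![-1, 1, 0, 0, 0, 0, 1], ![-1, -1, 0, 1, 0, 0, 1], ![1, 0, 0, -1, 1, 0, 1], ![-1, 0, 1, -1, 1, 0, 1], ![1, 0, 0, 0, -1, 1, 1], ![0, 0, -1, 0, 1, 0, 1], ![-1, 0, 1, 0, -1, 1, 1], ![1, 0, 0, 0, 0, -1, 2], ![0, 0, -1, 1, -1, 1, 1], ![-1, 0, 1, 0, 0, -1, 2], ![0, 1, 0, -1, 0, 1, 1], ![0, 0, -1, 1, 0, -1, 2], ![0, -1, 0, 0, 0, 1, 1], ![0, 1, 0, -1, 1, -1, 2], ![0, -1, 0, 0, 1, -1, 2], ![0, 1, 0, 0, -1, 0, 2], ![0, -1, 0, 1, -1, 0, 2], ![0, 0, 1, -1, 0, 0, 2], ![1, 0, -1, 0, 0, 0, 2], ![-1, 0, 0, 0, 0, 0, 2]] }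

def w7_0 : List (List (Fin 7)) := [[], [6], [5, 6], [4, 5, 6], [3, 4, 5, 6], [1, 3, 4, 5, 6], [2, 3, 4, 5, 6], [2, 1, 3, 4, 5, 6], [0, 2, 3, 4, 5, 6], [0, 2, 1, 3, 4, 5, 6], [3, 2, 1, 3, 4, 5, 6], [3, 0, 2, 1, 3, 4, 5, 6], [4, 3, 2, 1, 3, 4, 5, 6], [2, 3, 0, 2, 1, 3, 4, 5, 6], [4, 3, 0, 2, 1, 3, 4, 5, 6], [5, 4, 3, 2, 1, 3, 4, 5, 6], [4, 2, 3, 0, 2, 1, 3, 4, 5, 6], [5, 4, 3, 0, 2, 1, 3, 4, 5, 6], [6, 5, 4, 3, 2, 1, 3, 4, 5, 6], [3, 4, 2, 3, 0, 2, 1, 3, 4, 5, 6], [5, 4, 2, 3, 0, 2, 1, 3, 4, 5, 6], [6, 5, 4, 3, 0, 2, 1, 3, 4, 5, 6], [1, 3, 4, 2, 3, 0, 2, 1, 3, 4, 5, 6], [5, 3, 4, 2, 3, 0, 2, 1, 3, 4, 5, 6], [6, 5, 4, 2, 3, 0, 2, 1, 3, 4, 5, 6], [5, 1, 3, 4, 2, 3, 0, 2, 1, 3, 4, 5, 6], [4, 5, 3, 4, 2, 3, 0, 2, 1, 3, 4, 5, 6], [6, 5, 3, 4, 2, 3, 0, 2, 1, 3, 4, 5, 6], [4, 5, 1, 3, 4,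 2, 3, 0, 2, 1, 3, 4, 5, 6], [6, 5, 1, 3, 4, 2, 3, 0, 2, 1, 3, 4, 5, 6]]
def w7_1 : List (List (Fin 7)) := [[6, 4, 5, 3, 4, 2, 3, 0, 2, 1, 3, 4, 5, 6], [3, 4, 5, 1, 3, 4, 2, 3, 0, 2, 1, 3, 4, 5, 6], [6, 4, 5, 1, 3, 4, 2, 3, 0, 2, 1, 3, 4, 5, 6], [5, 6, 4, 5, 3, 4, 2, 3, 0, 2, 1, 3, 4, 5, 6], [2, 3, 4, 5, 1, 3, 4, 2, 3, 0, 2, 1, 3, 4, 5, 6], [6, 3, 4, 5, 1, 3, 4, 2, 3, 0, 2, 1, 3, 4, 5, 6], [5, 6, 4, 5, 1, 3, 4, 2, 3, 0, 2, 1, 3, 4, 5, 6], [0, 2, 3, 4, 5, 1, 3, 4, 2, 3, 0, 2, 1, 3, 4, 5, 6], [6, 2, 3, 4, 5, 1, 3, 4, 2, 3, 0, 2, 1, 3, 4, 5, 6], [5, 6, 3, 4, 5, 1, 3, 4, 2, 3, 0, 2, 1, 3, 4, 5, 6], [6, 0, 2, 3, 4, 5, 1, 3, 4, 2, 3, 0, 2, 1, 3, 4, 5, 6], [5, 6, 2, 3, 4, 5, 1, 3, 4, 2, 3, 0, 2, 1, 3, 4, 5, 6], [4, 5, 6, 3, 4, 5, 1, 3, 4, 2, 3, 0, 2, 1, 3, 4, 5, 6], [5, 6, 0, 2, 3, 4, 5,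 1, 3, 4, 2, 3, 0, 2, 1, 3, 4, 5, 6], [4, 5, 6, 2, 3, 4, 5, 1, 3, 4, 2, 3, 0, 2, 1, 3, 4, 5, 6], [4, 5, 6, 0, 2, 3, 4, 5, 1, 3, 4, 2, 3, 0, 2, 1, 3, 4, 5, 6], [3, 4, 5, 6, 2, 3, 4, 5, 1, 3, 4, 2, 3, 0, 2, 1, 3, 4, 5, 6], [3, 4, 5, 6, 0, 2, 3, 4, 5, 1, 3, 4, 2, 3, 0, 2, 1, 3, 4, 5, 6], [1, 3, 4, 5, 6, 2, 3, 4, 5, 1, 3, 4, 2, 3, 0, 2, 1, 3, 4, 5, 6], [1, 3, 4, 5, 6, 0, 2, 3, 4, 5, 1, 3, 4, 2, 3, 0, 2, 1, 3, 4, 5, 6], [2, 3, 4, 5, 6, 0, 2, 3, 4, 5, 1, 3, 4, 2, 3, 0, 2, 1, 3, 4, 5, 6], [2, 1, 3, 4, 5, 6, 0, 2, 3, 4, 5, 1, 3, 4, 2, 3, 0, 2, 1, 3, 4, 5, 6], [3, 2, 1, 3, 4, 5, 6, 0, 2, 3, 4, 5, 1, 3, 4, 2, 3, 0, 2, 1, 3, 4, 5, 6], [4, 3, 2, 1, 3, 4, 5, 6, 0, 2, 3, 4, 5, 1, 3, 4, 2, 3, 0, 2, 1, 3, 4, 5, 6], [5, 4, 3, 2, 1, 3, 4, 5, 6, 0, 2, 3, 4, 5, 1, 3, 4, 2, 3, 0, 2, 1, 3, 4, 5, 6], [6,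 5, 4, 3, 2, 1, 3, 4, 5, 6, 0, 2, 3, 4, 5, 1, 3, 4, 2, 3, 0, 2, 1, 3, 4, 5, 6]]
def t7_0 : List (List (ℕ × List (Fin 7))) := [[(0, [0]), (0, [1]), (0, [2]), (0, [3]), (0, [4]), (0, [5]), (1, [])], [(1, [0]), (1, [1]), (1, [2]), (1, [3]), (1, [4]), (2, []), (0, [])], [(2, [0]), (2, [1]), (2, [2]), (2, [3]), (3, []), (1, []), (2, [5])], [(3, [0]), (3, [1]), (3, [2]), (4, []), (2, []), (3, [4]), (3, [5])], [(4, [0]), (5, []), (6, []), (3, []), (4, [3]), (4, [4]), (4, [5])], [(5, [0]), (4, []), (7, []), (5, [1]), (5, [3]), (5, [4]), (5, [5])], [(8, []), (7, []), (4, []), (6, [2]), (6, [3]), (6, [4]), (6, [5])], [(9, []), (6, []), (5, []), (10, []), (7, [3]), (7, [4]), (7, [5])], [(6, []), (9, []), (8, [0]), (8, [2]), (8, [3]), (8, [4]), (8, [5])], [(7, []), (8, []), (9, [0]), (11, []),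 (9, [3]), (9, [4]), (9, [5])], [(11, []), (10, [2]), (10, [1]), (7, []), (12, []), (10, [4]), (10, [5])], [(10, []), (11, [2]), (13, []), (9, []), (14, []), (11, [4]), (11, [5])], [(14, []), (12, [2]), (12, [1]), (12, [3]), (10, []), (15, []), (12, [5])], [(13, [1]), (13, [2]), (11, []), (13, [0]), (16, []), (13, [4]), (13, [5])], [(12, []), (14, [2]), (16, []), (14, [3]), (11, []), (17, []), (14, [5])], [(17, []), (15, [2]), (15, [1]), (15, [3]), (15, [4]), (12, []), (18, [])], [(16, [1]), (16, [2]), (14, []), (19, []), (13, []), (20, []), (16, [5])], [(15, []), (17, [2]), (20, []), (17, [3]), (17, [4]), (14, []), (21, [])], [(21, []), (18, [2]), (18, [1]), (18, [3]), (18, [4]), (18, [5]), (15, [])], [(19, [1]), (22, []), (19, [3]), (16, []), (19, [0]), (23, []), (19, [5])], [(20,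 [1]), (20, [2]), (17, []), (23, []), (20, [4]), (16, []), (24, [])], [(18, []), (21, [2]), (24, []), (21, [3]), (21, [4]), (21, [5]), (17, [])], [(22, [1]), (19, []), (22, [3]), (22, [2]), (22, [0]), (25, []), (22, [5])], [(23, [1]), (25, []), (23, [3]), (20, []), (26, []), (19, []), (27, [])], [(24, [1]), (24, [2]), (21, []), (27, []), (24, [4]), (24, [5]), (20, [])], [(25, [1]), (23, []), (25, [3]), (25, [2]), (28, []), (22, []), (29, [])], [(26, [1]), (28, []), (26, [3]), (26, [4]), (23, []), (26, [0]), (30, [])], [(27, [1]), (29, []), (27, [3]), (24, []), (30, []), (27, [5]), (23, [])], [(28, [1]), (26, []), (28, [3]), (31, []), (25, []), (28, [0]), (32, [])], [(29, [1]), (27, []), (29, [3]), (29, [2]), (32, []), (29, [5]), (25, [])]]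
def t7_1 : List (List (ℕ × List (Fin 7))) := [[(30, [1]), (32, []), (30, [3]), (30, [4]), (27, []), (33, []), (26, [])], [(31, [1]), (31, [4]), (34, []), (28, []), (31, [2]), (31, [0]), (35, [])], [(32, [1]), (30, []), (32, [3]), (35, []), (29, []), (36, []), (28, [])], [(33, [1]), (36, []), (33, [3]), (33, [4]), (33, [5]), (30, []), (33, [0])], [(37, []), (34, [4]), (31, []), (34, [3]), (34, [2]), (34, [0]), (38, [])], [(35, [1]), (35, [4]), (38, []), (32, []), (35, [2]), (39, []), (31, [])], [(36, [1]), (33, []), (36, [3]), (39, []), (36, [5]), (32, []), (36, [0])], [(34, []), (37, [4]), (37, [1]), (37, [3]), (37, [2]), (37, [0]), (40, [])], [(40, []), (38, [4]), (35, []), (38, [3]), (38, [2]), (41, []), (34, [])], [(39, [1]), (39, [4]), (41, []), (36, []), (42, []), (35, []), (39,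 [0])], [(38, []), (40, [4]), (40, [1]), (40, [3]), (40, [2]), (43, []), (37, [])], [(43, []), (41, [4]), (39, []), (41, [3]), (44, []), (38, []), (41, [0])], [(42, [1]), (42, [4]), (44, []), (42, [5]), (39, []), (42, [2]), (42, [0])], [(41, []), (43, [4]), (43, [1]), (43, [3]), (45, []), (40, []), (43, [0])], [(45, []), (44, [4]), (42, []), (46, []), (41, []), (44, [2]), (44, [0])], [(44, []), (45, [4]), (45, [1]), (47, []), (43, []), (45, [2]), (45, [0])], [(47, []), (48, []), (46, [5]), (44, []), (46, [3]), (46, [2]), (46, [0])], [(46, []), (49, []), (50, []), (45, []), (47, [3]), (47, [2]), (47, [0])], [(49, []), (46, []), (48, [5]), (48, [4]), (48, [3]), (48, [2]), (48, [0])], [(48, []), (47, []), (51, []), (49, [4]), (49, [3]), (49, [2]), (49, [0])], [(50, [5]), (51, []), (47,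 []), (50, [1]), (50, [3]), (50, [2]), (50, [0])], [(51, [5]), (50, []), (49, []), (52, []), (51, [3]), (51, [2]), (51, [0])], [(52, [5]), (52, [1]), (52, [4]), (51, []), (53, []), (52, [2]), (52, [0])], [(53, [5]), (53, [1]), (53, [4]), (53, [3]), (52, []), (54, []), (53, [0])], [(54, [5]), (54, [1]), (54, [4]), (54, [3]), (54, [2]), (53, []), (55, [])], [(55, [5]), (55, [1]), (55, [4]), (55, [3]), (55, [2]), (55, [0]), (54, [])]]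
def r7_0 : List (List ℕ) := [[1, 1, 1, 1, 1, 1, 2], [3, 3, 3, 3, 3, 4, 2], [5, 5, 5, 5, 6, 4, 5], [7, 7, 7, 8, 6, 7, 7], [9, 10, 10, 8, 9, 9, 9], [11, 10, 12, 11, 11, 11, 11], [12, 13, 10, 11, 11, 11, 11], [14, 13, 12, 14, 13, 13, 13], [12, 15, 13, 13, 13, 13, 13], [14, 15, 15, 16, 15, 15, 15], [17, 15, 15, 14, 16, 15, 15], [17, 17, 18, 16, 18, 17, 17], [19, 17, 17, 17, 16, 18, 17], [19, 19, 18, 19, 20, 19, 19], [19, 19, 21, 19, 18, 20, 19], [21, 19, 19, 19, 19, 18, 20], [21, 21, 21, 22, 20, 22, 21], [21, 21, 23, 21, 21, 20, 22], [23, 21, 21, 21, 21, 21, 20], [23, 24, 23, 22, 23, 24, 23], [23, 23, 23, 25, 23, 22, 24], [23, 23, 25, 23, 23, 23, 22], [25, 24, 25, 25, 25, 26, 25], [25, 27, 25, 25, 26, 24, 26], [25, 25, 25, 27, 25, 25, 24], [27, 27, 27, 27, 28, 26, 28], [27, 29, 27, 27,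 26, 27, 28], [27, 29, 27, 27, 29, 27, 26], [29, 29, 29, 30, 28, 29, 30], [29, 29, 29, 29, 31, 29, 28]]
def r7_1 : List (List ℕ) := [[29, 31, 29, 29, 29, 30, 28], [31, 31, 32, 30, 31, 31, 32], [31, 31, 31, 33, 31, 32, 30], [31, 33, 31, 31, 31, 30, 31], [34, 33, 32, 33, 33, 33, 34], [33, 33, 35, 33, 33, 34, 32], [33, 33, 33, 35, 33, 32, 33], [34, 35, 35, 35, 35, 35, 36], [37, 35, 35, 35, 35, 36, 34], [35, 35, 37, 35, 36, 34, 35], [37, 37, 37, 37, 37, 38, 36], [39, 37, 37, 37, 38, 36, 37], [37, 37, 39, 37, 36, 37, 37], [39, 39, 39, 39, 40, 38, 39], [41, 39, 39, 40, 38, 39, 39], [41, 41, 41, 42, 40, 41, 41], [43, 42, 41, 40, 41, 41, 41], [43, 44, 44, 42, 43, 43, 43], [45, 42, 43, 43, 43, 43, 43], [45, 44, 46, 45, 45, 45, 45], [45, 47, 44, 45, 45, 45, 45], [47, 47, 46, 48, 47, 47, 47],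 [49, 49, 49, 48, 50, 49, 49], [51, 51, 51, 51, 50, 52, 51], [53, 53, 53, 53, 53, 52, 54], [55, 55, 55, 55, 55, 55, 54]]
def j7_0 : List (List ℕ) := [[2, 2, 2, 2, 2, 2, 0], [9, 9, 9, 9, 9, 0, 1], [8, 8, 8, 8, 0, 1, 8], [7, 7, 7, 0, 1, 7, 7], [6, 0, 0, 1, 6, 6, 6], [4, 1, 0, 4, 4, 4, 4], [0, 5, 1, 5, 5, 5, 5], [0, 5, 1, 0, 5, 5, 5], [1, 3, 3, 3, 3, 3, 3], [1, 3, 3, 0, 3, 3, 3], [6, 6, 6, 1, 0, 6, 6], [6, 6, 0, 1, 0, 6, 6], [7, 7, 7, 7, 1, 0, 7], [5, 5, 1, 5, 0, 5, 5], [7, 7, 7, 7, 1, 0, 7], [8, 8, 8, 8, 8, 1, 0], [7, 7, 7, 0, 1, 0, 7], [8, 8, 8, 8, 8, 1, 0], [9, 9, 9, 9, 9, 9, 1], [6, 0, 6, 1, 6, 0, 6], [8, 8, 8, 8, 8, 1, 0], [9, 9, 9, 9, 9, 9, 1], [4, 1, 4, 4, 4, 0, 4], [8, 8, 8, 8, 0, 1, 0], [9, 9, 9, 9, 9, 9, 1], [8, 8, 8, 8, 0, 1, 0], [7, 7, 7, 7, 1, 7, 0], [9, 9, 9, 9, 9, 9, 1],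 [7, 7, 7, 0, 1, 7, 0], [9, 9, 9, 9, 9, 9, 1]]
def j7_1 : List (List ℕ) := [[9, 9, 9, 9, 9, 0, 1], [6, 6, 0, 1, 6, 6, 0], [9, 9, 9, 9, 9, 0, 1], [8, 8, 8, 8, 8, 1, 8], [0, 5, 1, 5, 5, 5, 0], [9, 9, 9, 9, 9, 0, 1], [8, 8, 8, 8, 8, 1, 8], [1, 3, 3, 3, 3, 3, 0], [9, 9, 9, 9, 9, 0, 1], [8, 8, 8, 8, 0, 1, 8], [9, 9, 9, 9, 9, 0, 1], [8, 8, 8, 8, 0, 1, 8], [7, 7, 7, 7, 1, 7, 7], [8, 8, 8, 8, 0, 1, 8], [7, 7, 7, 0, 1, 7, 7], [7, 7, 7, 0, 1, 7, 7], [6, 0, 6, 1, 6, 6, 6], [6, 0, 0, 1, 6, 6, 6], [4, 1, 4, 4, 4, 4, 4], [4, 1, 0, 4, 4, 4, 4], [5, 5, 1, 5, 5, 5, 5], [5, 5, 1, 0, 5, 5, 5], [6, 6, 6, 1, 0, 6, 6], [7, 7, 7, 7, 1, 0, 7], [8, 8, 8, 8, 8, 1, 0], [9, 9, 9, 9, 9, 9, 1]]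
def v7_0 : List (Fin 7 → ℤ) := [![0, 0, 0, 0, 0, 0, 1], ![0, 0, 0, 0, 0, 1, -1], ![0, 0, 0, 0, 1, -1, 0], ![0, 0, 0, 1, -1, 0, 0], ![0, 1, 1, -1, 0, 0, 0], ![0, -1, 1, 0, 0, 0, 0], ![1, 1, -1, 0, 0, 0, 0], ![1, -1, -1, 1, 0, 0, 0], ![-1, 1, 0, 0, 0, 0, 0], ![-1, -1, 0, 1, 0, 0, 0], ![1, 0, 0, -1, 1, 0, 0], ![-1, 0, 1, -1, 1, 0, 0], ![1, 0, 0, 0, -1, 1, 0], ![0, 0, -1, 0, 1, 0, 0], ![-1, 0, 1, 0, -1, 1, 0], ![1, 0, 0, 0, 0, -1, 1], ![0, 0, -1, 1, -1, 1, 0], ![-1, 0, 1, 0, 0, -1, 1], ![1, 0, 0, 0, 0, 0, -1], ![0, 1, 0, -1, 0, 1, 0], ![0, 0, -1, 1, 0, -1, 1], ![-1, 0, 1, 0, 0, 0, -1], ![0, -1, 0, 0, 0, 1, 0], ![0, 1, 0, -1, 1, -1, 1], ![0, 0, -1, 1, 0, 0, -1], ![0, -1, 0, 0, 1, -1, 1], ![0, 1, 0, 0, -1, 0, 1], ![0, 1, 0, -1, 1, 0, -1], ![0, -1, 0, 1, -1, 0, 1], ![0, -1, 0, 0, 1, 0, -1]]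
def v7_1 : List (Fin 7 → ℤ) := [![0, 1, 0, 0, -1, 1, -1], ![0, 0, 1, -1, 0, 0, 1], ![0, -1, 0, 1, -1, 1, -1], ![0, 1, 0, 0, 0, -1, 0], ![1, 0, -1, 0, 0, 0, 1], ![0, 0, 1, -1, 0, 1, -1], ![0, -1, 0, 1, 0, -1, 0], ![-1, 0, 0, 0, 0, 0, 1], ![1, 0, -1, 0, 0, 1, -1], ![0, 0, 1, -1, 1, -1, 0], ![-1, 0, 0, 0, 0, 1, -1], ![1, 0, -1, 0, 1, -1, 0], ![0, 0, 1, 0, -1, 0, 0], ![-1, 0, 0, 0, 1, -1, 0], ![1, 0, -1, 1, -1, 0, 0], ![-1, 0, 0, 1, -1, 0, 0], ![1, 1, 0, -1, 0, 0, 0], ![-1, 1, 1, -1, 0, 0, 0], ![1, -1, 0, 0, 0, 0, 0], ![-1, -1, 1, 0, 0, 0, 0], ![0, 1, -1, 0, 0, 0, 0], ![0, -1, -1, 1, 0, 0, 0], ![0, 0, 0, -1, 1, 0, 0], ![0, 0, 0, 0, -1, 1, 0], ![0, 0, 0, 0, 0, -1, 1], ![0, 0, 0, 0, 0, 0, -1]]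
def L7 : Lvl 7 :=
  { c := 56
    words := w7_0 ++ w7_1
    tab := t7_0 ++ t7_1
    rk := r7_0 ++ r7_1
    jst := j7_0 ++ j7_1
    vecs := v7_0 ++ v7_1 }

def Ls : List (Lvl 7) := [L1, L2, L3, L4, L5, L6, L7]

set_option maxHeartbeats 0 in
theorem hA : CM.IsLiftable A := by
  unfold CoxeterMatrix.IsLiftable
  decide +kernel

set_option maxHeartbeats 0 in
theorem hchk : chkAll CM A Ls = true := by decide +kernel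

theorem card : Nat.card CM.Group = 2903040 := by
  rw [card_group CM A hA Ls hchk]
  decide +kernel

set_option maxHeartbeats 0 in
theorem cox : orderOf (((List.finRange 7).map CM.simple).prod) = 18 := by
  refine coxeter_order CM A hA Ls hchk 18 (by norm_num) ?_ ?_
  · decide +kernel
  · decide +kernel

end Cfsg.Agent.Helper17.CoxDataE7
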