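import Mathlib
import Cfsg.Agent.Helper17.Cox

set_option autoImplicit false

namespace Cfsg.Agent.Helper17.CoxDataE8

open Cfsg.Agent.Helper17.Cox

abbrev CM : CoxeterMatrix (Fin 8) := CoxeterMatrix.E₈

def A : Fin 8 → Matrix (Fin 8) (Fin 8) ℤ := ![!![-1, 0, 0, 0, 0, 0, 0, 0; 0, 1, 0, 0, 0, 0, 0, 0; 1, 0, 1, 0, 0, 0, 0, 0; 0, 0, 0, 1, 0, 0, 0, 0; 0, 0, 0, 0, 1, 0, 0, 0; 0, 0, 0, 0, 0, 1, 0, 0; 0, 0, 0, 0, 0, 0, 1, 0; 0, 0, 0, 0, 0, 0, 0, 1], !![1, 0, 0, 0, 0, 0, 0, 0; 0, -1, 0, 0, 0, 0, 0, 0; 0, 0, 1, 0, 0, 0, 0, 0; 0, 1, 0, 1, 0, 0, 0, 0; 0, 0, 0, 0, 1, 0, 0, 0; 0, 0, 0, 0, 0, 1, 0, 0; 0, 0, 0, 0, 0, 0, 1, 0; 0, 0, 0, 0, 0, 0, 0, 1], !![1, 0, 1, 0, 0, 0, 0, 0; 0, 1, 0, 0, 0, 0, 0, 0; 0, 0, -1, 0, 0, 0, 0, 0; 0, 0, 1, 1, 0, 0, 0, 0; 0, 0, 0, 0, 1, 0, 0, 0; 0, 0, 0,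 0, 0, 1, 0, 0; 0, 0, 0, 0, 0, 0, 1, 0; 0, 0, 0, 0, 0, 0, 0, 1], !![1, 0, 0, 0, 0, 0, 0, 0; 0, 1, 0, 1, 0, 0, 0, 0; 0, 0, 1, 1, 0, 0, 0, 0; 0, 0, 0, -1, 0, 0, 0, 0; 0, 0, 0, 1, 1, 0, 0, 0; 0, 0, 0, 0, 0, 1, 0, 0; 0, 0, 0, 0, 0, 0, 1, 0; 0, 0, 0, 0, 0, 0, 0, 1], !![1, 0, 0, 0, 0, 0, 0, 0; 0, 1, 0, 0, 0, 0, 0, 0; 0, 0, 1, 0, 0, 0, 0, 0; 0, 0, 0, 1, 1, 0, 0, 0; 0, 0, 0, 0, -1, 0, 0, 0; 0, 0, 0, 0, 1, 1, 0, 0; 0, 0, 0, 0, 0, 0, 1, 0; 0, 0, 0, 0, 0, 0, 0, 1], !![1, 0, 0, 0, 0, 0, 0, 0; 0, 1, 0, 0, 0, 0, 0, 0; 0, 0, 1, 0, 0, 0, 0, 0; 0, 0, 0, 1, 0, 0, 0, 0; 0, 0, 0, 0, 1, 1, 0, 0; 0, 0, 0, 0, 0, -1, 0, 0; 0, 0, 0, 0, 0, 1, 1, 0; 0, 0, 0, 0, 0, 0, 0, 1], !![1, 0, 0, 0, 0, 0, 0, 0; 0, 1, 0, 0, 0, 0, 0, 0; 0, 0, 1, 0, 0, 0, 0, 0; 0, 0, 0, 1, 0, 0, 0, 0; 0, 0, 0, 0, 1, 0, 0,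 0; 0, 0, 0, 0, 0, 1, 1, 0; 0, 0, 0, 0, 0, 0, -1, 0; 0, 0, 0, 0, 0, 0, 1, 1], !![1, 0, 0, 0, 0, 0, 0, 0; 0, 1, 0, 0, 0, 0, 0, 0; 0, 0, 1, 0, 0, 0, 0, 0; 0, 0, 0, 1, 0, 0, 0, 0; 0, 0, 0, 0, 1, 0, 0, 0; 0, 0, 0, 0, 0, 1, 0, 0; 0, 0, 0, 0, 0, 0, 1, 1; 0, 0, 0, 0, 0, 0, 0, -1]]

def L1 : Lvl 8 :=
  { c := 2
    words := [[], [0]]
    tab := [[(1, [])], [(0, [])]]
    rk := [[2], [2]]
    jst := [[0], [1]]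
    vecs := [![1, 0, 0, 0, 0, 0, 0, 0], ![-1, 0, 1, 0, 0, 0, 0, 0]] }

def L2 : Lvl 8 :=
  { c := 2
    words := [[], [1]]
    tab := [[(0, [0]), (1, [])], [(1, [0]), (0, [])]]
    rk := [[1, 2], [3, 2]]
    jst := [[2, 0], [4, 1]]
    vecs := [![0, 1, 0, 0, 0, 0, 0, 0], ![0, -1, 0, 1, 0, 0, 0, 0]] }

def L3 : Lvl 8 :=
  { c := 3
    words := [[], [2], [0, 2]]
    tab := [[(0, [0]), (0, [1]), (1, [])], [(2, []), (1, [1]), (0, [])], [(1, []), (2, [1]), (2, [0])]]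
    rk := [[1, 1, 2], [4, 3, 2], [4, 5, 5]]
    jst := [[2, 2, 0], [0, 5, 1], [1, 3, 3]]
    vecs := [![0, 0, 1, 0, 0, 0, 0, 0], ![1, 0, -1, 1, 0, 0, 0, 0], ![-1, 0, 0, 1, 0, 0, 0, 0]] }

def L4 : Lvl 8 :=
  { c := 10
    words := [[], [3], [1, 3], [2, 3], [2, 1, 3], [0, 2, 3], [0, 2, 1, 3], [3, 2, 1, 3], [3, 0, 2, 1, 3], [2, 3, 0, 2, 1, 3]]
    tab := [[(0, [0]), (0, [1]), (0, [2]), (1, [])], [(1, [0]), (2, []), (3, []), (0, [])], [(2, [0]), (1, []), (4, []), (2, [1])], [(5, []), (4, []), (1, []), (3, [2])], [(6, []), (3, []), (2, []), (7, [])], [(3, []), (6, []), (5, [0]), (5, [2])], [(4, []), (5, []), (6, [0]), (8, [])], [(8, []), (7, [2]), (7, [1]), (4, [])], [(7, []), (8, [2]), (9, []), (6, [])], [(9, [1]), (9, [2]), (8, []), (9, [0])]]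
    rk := [[1, 1, 1, 2], [3, 4, 4, 2], [5, 4, 6, 5], [6, 7, 4, 5], [8, 7, 6, 8], [6, 9, 7, 7], [8, 9, 9, 10], [11, 9, 9, 8], [11, 11, 12, 10], [13, 13, 12, 13]]
    jst := [[2, 2, 2, 0], [6, 0, 0, 1], [4, 1, 0, 4], [0, 5, 1, 5], [0, 5, 1, 0], [1, 3, 3, 3], [1, 3, 3, 0], [6, 6, 6, 1], [6, 6, 0, 1], [5, 5, 1, 5]]
    vecs := [![0, 0, 0, 1, 0, 0, 0, 0], ![0, 1, 1, -1, 1, 0, 0, 0], ![0, -1, 1, 0, 1, 0, 0, 0], ![1, 1, -1, 0, 1, 0, 0, 0], ![1, -1, -1, 1, 1, 0, 0, 0], ![-1, 1, 0, 0, 1, 0, 0, 0], ![-1, -1, 0, 1, 1, 0, 0, 0], ![1, 0, 0, -1, 2, 0, 0, 0], ![-1, 0, 1, -1, 2, 0, 0, 0], ![0, 0, -1, 0, 2, 0, 0, 0]] }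

def L5 : Lvl 8 :=
  { c := 16
    words := [[], [4], [3, 4], [1, 3, 4], [2, 3, 4], [2, 1, 3, 4], [0, 2, 3, 4], [0, 2, 1, 3, 4], [3, 2, 1, 3, 4], [3, 0, 2, 1, 3, 4], [4, 3, 2, 1, 3, 4], [2, 3, 0, 2, 1, 3, 4], [4, 3, 0, 2, 1, 3, 4], [4, 2, 3, 0, 2, 1, 3, 4], [3, 4, 2, 3, 0, 2, 1, 3, 4], [1, 3, 4, 2, 3, 0, 2, 1, 3, 4]]
    tab := [[(0, [0]), (0, [1]), (0, [2]), (0, [3]), (1, [])], [(1, [0]), (1, [1]), (1, [2]), (2, []), (0, [])], [(2, [0]), (3, []), (4, []), (1, []), (2, [3])], [(3, [0]), (2, []), (5, []), (3, [1]), (3, [3])], [(6, []), (5, []), (2, []), (4, [2]), (4, [3])], [(7, []), (4, []), (3, []), (8, []), (5, [3])], [(4, []), (7, []), (6, [0]), (6, [2]), (6, [3])], [(5, []), (6, []), (7, [0]), (9, []), (7, [3])], [(9, []), (8, [2]), (8, [1]), (5, []), (10, [])],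 [(8, []), (9, [2]), (11, []), (7, []), (12, [])], [(12, []), (10, [2]), (10, [1]), (10, [3]), (8, [])], [(11, [1]), (11, [2]), (9, []), (11, [0]), (13, [])], [(10, []), (12, [2]), (13, []), (12, [3]), (9, [])], [(13, [1]), (13, [2]), (12, []), (14, []), (11, [])], [(14, [1]), (15, []), (14, [3]), (13, []), (14, [0])], [(15, [1]), (14, []), (15, [3]), (15, [2]), (15, [0])]]
    rk := [[1, 1, 1, 1, 2], [3, 3, 3, 4, 2], [5, 6, 6, 4, 5], [7, 6, 8, 7, 7], [8, 9, 6, 7, 7], [10, 9, 8, 10, 9], [8, 11, 9, 9, 9], [10, 11, 11, 12, 11], [13, 11, 11, 10, 12], [13, 13, 14, 12, 14], [15, 13, 13, 13, 12], [15, 15, 14, 15, 16], [15, 15, 17, 15, 14], [17, 17, 17, 18, 16], [19, 20, 19, 18, 19], [21, 20, 21, 21, 21]]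
    jst := [[2, 2, 2, 2, 0], [7, 7, 7, 0, 1], [6, 0, 0, 1, 6], [4, 1, 0, 4, 4], [0, 5, 1, 5, 5], [0, 5, 1, 0, 5], [1, 3, 3, 3, 3], [1, 3, 3, 0, 3], [6, 6, 6, 1, 0], [6, 6, 0, 1, 0], [7, 7, 7, 7, 1], [5, 5, 1, 5, 0], [7, 7, 7, 7, 1], [7, 7, 7, 0, 1], [6, 0, 6, 1, 6], [4, 1, 4, 4, 4]]
    vecs := [![0, 0, 0, 0, 1, 0, 0, 0], ![0, 0, 0, 1, -1, 1, 0, 0], ![0, 1, 1, -1, 0, 1, 0, 0], ![0, -1, 1, 0, 0, 1, 0, 0], ![1, 1, -1, 0, 0, 1, 0, 0], ![1, -1, -1, 1, 0, 1, 0, 0], ![-1, 1, 0, 0, 0, 1, 0, 0], ![-1, -1, 0, 1, 0, 1, 0, 0], ![1, 0, 0, -1, 1, 1, 0, 0], ![-1, 0, 1, -1, 1, 1, 0, 0], ![1, 0, 0, 0, -1, 2, 0, 0], ![0, 0, -1, 0, 1, 1, 0, 0], ![-1, 0, 1, 0, -1, 2, 0, 0], ![0, 0, -1, 1, -1, 2, 0, 0], ![0, 1, 0, -1, 0, 2, 0, 0], ![0, -1, 0, 0, 0, 2, 0, 0]] }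

def L6 : Lvl 8 :=
  { c := 27
    words := [[], [5], [4, 5], [3, 4, 5], [1, 3, 4, 5], [2, 3, 4, 5], [2, 1, 3, 4, 5], [0, 2, 3, 4, 5], [0, 2, 1, 3, 4, 5], [3, 2, 1, 3, 4, 5], [3, 0, 2, 1, 3, 4, 5], [4, 3, 2, 1, 3, 4, 5], [2, 3, 0, 2, 1, 3, 4, 5], [4, 3, 0, 2, 1, 3, 4, 5], [5, 4, 3, 2, 1, 3, 4, 5], [4, 2, 3, 0, 2, 1, 3, 4, 5], [5, 4, 3, 0, 2, 1, 3, 4, 5], [3, 4, 2, 3, 0, 2, 1, 3, 4, 5], [5, 4, 2, 3, 0, 2, 1, 3, 4, 5], [1, 3, 4, 2, 3, 0, 2, 1, 3, 4, 5], [5, 3, 4, 2, 3, 0, 2, 1, 3, 4, 5], [5, 1, 3, 4, 2, 3, 0, 2, 1, 3, 4, 5], [4, 5, 3, 4, 2, 3, 0, 2, 1, 3, 4, 5], [4, 5, 1, 3, 4, 2, 3, 0, 2, 1, 3, 4, 5], [3, 4, 5, 1, 3, 4, 2, 3, 0, 2, 1, 3, 4, 5], [2, 3, 4, 5, 1, 3, 4, 2, 3, 0, 2, 1, 3, 4, 5], [0, 2, 3, 4, 5, 1, 3, 4, 2, 3, 0, 2, 1, 3, 4, 5]]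
    tab := [[(0, [0]), (0, [1]), (0, [2]), (0, [3]), (0, [4]), (1, [])], [(1, [0]), (1, [1]), (1, [2]), (1, [3]), (2, []), (0, [])], [(2, [0]), (2, [1]), (2, [2]), (3, []), (1, []), (2, [4])], [(3, [0]), (4, []), (5, []), (2, []), (3, [3]), (3, [4])], [(4, [0]), (3, []), (6, []), (4, [1]), (4, [3]), (4, [4])], [(7, []), (6, []), (3, []), (5, [2]), (5, [3]), (5, [4])], [(8, []), (5, []), (4, []), (9, []), (6, [3]), (6, [4])], [(5, []), (8, []), (7, [0]), (7, [2]), (7, [3]), (7, [4])], [(6, []), (7, []), (8, [0]), (10, []), (8, [3]), (8, [4])], [(10, []), (9, [2]), (9, [1]), (6, []), (11, []), (9, [4])], [(9, []), (10, [2]), (12, []), (8, []), (13, []), (10, [4])], [(13, []), (11, [2]), (11, [1]), (11, [3]), (9, []), (14, [])], [(12, [1]), (12, [2]), (10, []), (12, [0]),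 (15, []), (12, [4])], [(11, []), (13, [2]), (15, []), (13, [3]), (10, []), (16, [])], [(16, []), (14, [2]), (14, [1]), (14, [3]), (14, [4]), (11, [])], [(15, [1]), (15, [2]), (13, []), (17, []), (12, []), (18, [])], [(14, []), (16, [2]), (18, []), (16, [3]), (16, [4]), (13, [])], [(17, [1]), (19, []), (17, [3]), (15, []), (17, [0]), (20, [])], [(18, [1]), (18, [2]), (16, []), (20, []), (18, [4]), (15, [])], [(19, [1]), (17, []), (19, [3]), (19, [2]), (19, [0]), (21, [])], [(20, [1]), (21, []), (20, [3]), (18, []), (22, []), (17, [])], [(21, [1]), (20, []), (21, [3]), (21, [2]), (23, []), (19, [])], [(22, [1]), (23, []), (22, [3]), (22, [4]), (20, []), (22, [0])], [(23, [1]), (22, []), (23, [3]), (24, []), (21, []), (23, [0])], [(24, [1]), (24, [4]), (25, []), (23,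 []), (24, [2]), (24, [0])], [(26, []), (25, [4]), (24, []), (25, [3]), (25, [2]), (25, [0])], [(25, []), (26, [4]), (26, [1]), (26, [3]), (26, [2]), (26, [0])]]
    rk := [[1, 1, 1, 1, 1, 2], [3, 3, 3, 3, 4, 2], [5, 5, 5, 6, 4, 5], [7, 8, 8, 6, 7, 7], [9, 8, 10, 9, 9, 9], [10, 11, 8, 9, 9, 9], [12, 11, 10, 12, 11, 11], [10, 13, 11, 11, 11, 11], [12, 13, 13, 14, 13, 13], [15, 13, 13, 12, 14, 13], [15, 15, 16, 14, 16, 15], [17, 15, 15, 15, 14, 16], [17, 17, 16, 17, 18, 17], [17, 17, 19, 17, 16, 18], [19, 17, 17, 17, 17, 16], [19, 19, 19, 20, 18, 20], [19, 19, 21, 19, 19, 18], [21, 22, 21, 20, 21, 22], [21, 21, 21, 23, 21, 20], [23, 22, 23, 23, 23, 24], [23, 25, 23, 23, 24, 22], [25, 25, 25, 25, 26, 24], [25, 27, 25, 25, 24, 25], [27, 27, 27, 28, 26, 27], [29, 29, 30,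 28, 29, 29], [32, 31, 30, 31, 31, 31], [32, 33, 33, 33, 33, 33]]
    jst := [[2, 2, 2, 2, 2, 0], [8, 8, 8, 8, 0, 1], [7, 7, 7, 0, 1, 7], [6, 0, 0, 1, 6, 6], [4, 1, 0, 4, 4, 4], [0, 5, 1, 5, 5, 5], [0, 5, 1, 0, 5, 5], [1, 3, 3, 3, 3, 3], [1, 3, 3, 0, 3, 3], [6, 6, 6, 1, 0, 6], [6, 6, 0, 1, 0, 6], [7, 7, 7, 7, 1, 0], [5, 5, 1, 5, 0, 5], [7, 7, 7, 7, 1, 0], [8, 8, 8, 8, 8, 1], [7, 7, 7, 0, 1, 0], [8, 8, 8, 8, 8, 1], [6, 0, 6, 1, 6, 0], [8, 8, 8, 8, 8, 1], [4, 1, 4, 4, 4, 0], [8, 8, 8, 8, 0, 1], [8, 8, 8, 8, 0, 1], [7, 7, 7, 7, 1, 7], [7, 7, 7, 0, 1, 7], [6, 6, 0, 1, 6, 6], [0, 5, 1, 5, 5, 5], [1, 3, 3, 3, 3, 3]]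
    vecs := [![0, 0, 0, 0, 0, 1, 0, 0], ![0, 0, 0, 0, 1, -1, 1, 0], ![0, 0, 0, 1, -1, 0, 1, 0], ![0, 1, 1, -1, 0, 0, 1, 0], ![0, -1, 1, 0, 0, 0, 1, 0], ![1, 1, -1, 0, 0, 0, 1, 0], ![1, -1, -1, 1, 0, 0, 1, 0], ![-1, 1, 0, 0, 0, 0, 1, 0], ![-1, -1, 0, 1, 0, 0, 1, 0], ![1, 0, 0, -1, 1, 0, 1, 0], ![-1, 0, 1, -1, 1, 0, 1, 0], ![1, 0, 0, 0, -1, 1, 1, 0], ![0, 0, -1, 0, 1, 0, 1, 0], ![-1, 0, 1, 0, -1, 1, 1, 0], ![1, 0, 0, 0, 0, -1, 2, 0], ![0, 0, -1, 1, -1, 1, 1, 0], ![-1, 0, 1, 0, 0, -1, 2, 0], ![0, 1, 0, -1, 0, 1, 1, 0], ![0, 0, -1, 1, 0, -1, 2, 0], ![0, -1, 0, 0, 0, 1, 1, 0], ![0, 1, 0, -1, 1, -1, 2, 0], ![0, -1, 0, 0, 1, -1, 2, 0], ![0, 1, 0, 0, -1, 0, 2, 0], ![0, -1, 0, 1, -1, 0, 2, 0], ![0, 0, 1, -1, 0, 0, 2, 0], ![1, 0, -1, 0, 0, 0, 2, 0], ![-1, 0, 0, 0, 0, 0, 2, 0]]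 }

def w7_0 : List (List (Fin 8)) := [[], [6], [5, 6], [4, 5, 6], [3, 4, 5, 6], [1, 3, 4, 5, 6], [2, 3, 4, 5, 6], [2, 1, 3, 4, 5, 6], [0, 2, 3, 4, 5, 6], [0, 2, 1, 3, 4, 5, 6], [3, 2, 1, 3, 4, 5, 6], [3, 0, 2, 1, 3, 4, 5, 6], [4, 3, 2, 1, 3, 4, 5, 6], [2, 3, 0, 2, 1, 3, 4, 5, 6], [4, 3, 0, 2, 1, 3, 4, 5, 6], [5, 4, 3, 2, 1, 3, 4, 5, 6], [4, 2, 3, 0, 2, 1, 3, 4, 5, 6], [5, 4, 3, 0, 2, 1, 3, 4, 5, 6], [6, 5, 4, 3, 2, 1, 3, 4, 5, 6], [3, 4, 2, 3, 0, 2, 1, 3, 4, 5, 6], [5, 4, 2, 3, 0, 2, 1, 3, 4, 5, 6], [6, 5, 4, 3, 0, 2, 1, 3, 4, 5, 6], [1, 3, 4, 2, 3, 0, 2, 1, 3, 4, 5, 6], [5, 3, 4, 2, 3, 0, 2, 1, 3, 4, 5, 6], [6, 5, 4, 2, 3, 0, 2, 1, 3, 4, 5, 6], [5, 1, 3, 4, 2, 3, 0, 2, 1, 3, 4, 5, 6], [4, 5, 3, 4, 2, 3, 0, 2, 1, 3, 4, 5, 6], [6, 5, 3, 4, 2, 3, 0, 2, 1, 3, 4, 5, 6],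 [4, 5, 1, 3, 4, 2, 3, 0, 2, 1, 3, 4, 5, 6], [6, 5, 1, 3, 4, 2, 3, 0, 2, 1, 3, 4, 5, 6]]
def w7_1 : List (List (Fin 8)) := [[6, 4, 5, 3, 4, 2, 3, 0, 2, 1, 3, 4, 5, 6], [3, 4, 5, 1, 3, 4, 2, 3, 0, 2, 1, 3, 4, 5, 6], [6, 4, 5, 1, 3, 4, 2, 3, 0, 2, 1, 3, 4, 5, 6], [5, 6, 4, 5, 3, 4, 2, 3, 0, 2, 1, 3, 4, 5, 6], [2, 3, 4, 5, 1, 3, 4, 2, 3, 0, 2, 1, 3, 4, 5, 6], [6, 3, 4, 5, 1, 3, 4, 2, 3, 0, 2, 1, 3, 4, 5, 6], [5, 6, 4, 5, 1, 3, 4, 2, 3, 0, 2, 1, 3, 4, 5, 6], [0, 2, 3, 4, 5, 1, 3, 4, 2, 3, 0, 2, 1, 3, 4, 5, 6], [6, 2, 3, 4, 5, 1, 3, 4, 2, 3, 0, 2, 1, 3, 4, 5, 6], [5, 6, 3, 4, 5, 1, 3, 4, 2, 3, 0, 2, 1, 3, 4, 5, 6], [6, 0, 2, 3, 4, 5, 1, 3, 4, 2, 3, 0, 2, 1, 3, 4, 5, 6], [5, 6, 2, 3, 4, 5, 1, 3, 4, 2, 3, 0, 2, 1, 3, 4, 5, 6], [4, 5, 6, 3, 4, 5, 1, 3, 4, 2, 3, 0, 2, 1, 3,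 4, 5, 6], [5, 6, 0, 2, 3, 4, 5, 1, 3, 4, 2, 3, 0, 2, 1, 3, 4, 5, 6], [4, 5, 6, 2, 3, 4, 5, 1, 3, 4, 2, 3, 0, 2, 1, 3, 4, 5, 6], [4, 5, 6, 0, 2, 3, 4, 5, 1, 3, 4, 2, 3, 0, 2, 1, 3, 4, 5, 6], [3, 4, 5, 6, 2, 3, 4, 5, 1, 3, 4, 2, 3, 0, 2, 1, 3, 4, 5, 6], [3, 4, 5, 6, 0, 2, 3, 4, 5, 1, 3, 4, 2, 3, 0, 2, 1, 3, 4, 5, 6], [1, 3, 4, 5, 6, 2, 3, 4, 5, 1, 3, 4, 2, 3, 0, 2, 1, 3, 4, 5, 6], [1, 3, 4, 5, 6, 0, 2, 3, 4, 5, 1, 3, 4, 2, 3, 0, 2, 1, 3, 4, 5, 6], [2, 3, 4, 5, 6, 0, 2, 3, 4, 5, 1, 3, 4, 2, 3, 0, 2, 1, 3, 4, 5, 6], [2, 1, 3, 4, 5, 6, 0, 2, 3, 4, 5, 1, 3, 4, 2, 3, 0, 2, 1, 3, 4, 5, 6], [3, 2, 1, 3, 4, 5, 6, 0, 2, 3, 4, 5, 1, 3, 4, 2, 3, 0, 2, 1, 3, 4, 5, 6], [4, 3, 2, 1, 3, 4, 5, 6, 0, 2, 3, 4, 5, 1, 3, 4, 2, 3, 0, 2, 1, 3, 4, 5, 6], [5, 4, 3, 2, 1, 3, 4, 5, 6, 0, 2, 3,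 4, 5, 1, 3, 4, 2, 3, 0, 2, 1, 3, 4, 5, 6], [6, 5, 4, 3, 2, 1, 3, 4, 5, 6, 0, 2, 3, 4, 5, 1, 3, 4, 2, 3, 0, 2, 1, 3, 4, 5, 6]]
def t7_0 : List (List (ℕ × List (Fin 8))) := [[(0, [0]), (0, [1]), (0, [2]), (0, [3]), (0, [4]), (0, [5]), (1, [])], [(1, [0]), (1, [1]), (1, [2]), (1, [3]), (1, [4]), (2, []), (0, [])], [(2, [0]), (2, [1]), (2, [2]), (2, [3]), (3, []), (1, []), (2, [5])], [(3, [0]), (3, [1]), (3, [2]), (4, []), (2, []), (3, [4]), (3, [5])], [(4, [0]), (5, []), (6, []), (3, []), (4, [3]), (4, [4]), (4, [5])], [(5, [0]), (4, []), (7, []), (5, [1]), (5, [3]), (5, [4]), (5, [5])], [(8, []), (7, []), (4, []), (6, [2]), (6, [3]), (6, [4]), (6, [5])], [(9, []), (6, []), (5, []), (10, []), (7, [3]), (7, [4]), (7, [5])], [(6, []), (9, []), (8, [0]), (8, [2]), (8, [3]),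 (8, [4]), (8, [5])], [(7, []), (8, []), (9, [0]), (11, []), (9, [3]), (9, [4]), (9, [5])], [(11, []), (10, [2]), (10, [1]), (7, []), (12, []), (10, [4]), (10, [5])], [(10, []), (11, [2]), (13, []), (9, []), (14, []), (11, [4]), (11, [5])], [(14, []), (12, [2]), (12, [1]), (12, [3]), (10, []), (15, []), (12, [5])], [(13, [1]), (13, [2]), (11, []), (13, [0]), (16, []), (13, [4]), (13, [5])], [(12, []), (14, [2]), (16, []), (14, [3]), (11, []), (17, []), (14, [5])], [(17, []), (15, [2]), (15, [1]), (15, [3]), (15, [4]), (12, []), (18, [])], [(16, [1]), (16, [2]), (14, []), (19, []), (13, []), (20, []), (16, [5])], [(15, []), (17, [2]), (20, []), (17, [3]), (17, [4]), (14, []), (21, [])], [(21, []), (18, [2]), (18, [1]), (18, [3]), (18, [4]), (18, [5]), (15, [])], [(19,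 [1]), (22, []), (19, [3]), (16, []), (19, [0]), (23, []), (19, [5])], [(20, [1]), (20, [2]), (17, []), (23, []), (20, [4]), (16, []), (24, [])], [(18, []), (21, [2]), (24, []), (21, [3]), (21, [4]), (21, [5]), (17, [])], [(22, [1]), (19, []), (22, [3]), (22, [2]), (22, [0]), (25, []), (22, [5])], [(23, [1]), (25, []), (23, [3]), (20, []), (26, []), (19, []), (27, [])], [(24, [1]), (24, [2]), (21, []), (27, []), (24, [4]), (24, [5]), (20, [])], [(25, [1]), (23, []), (25, [3]), (25, [2]), (28, []), (22, []), (29, [])], [(26, [1]), (28, []), (26, [3]), (26, [4]), (23, []), (26, [0]), (30, [])], [(27, [1]), (29, []), (27, [3]), (24, []), (30, []), (27, [5]), (23, [])], [(28, [1]), (26, []), (28, [3]), (31, []), (25, []), (28, [0]), (32, [])], [(29, [1]), (27, []), (29,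 [3]), (29, [2]), (32, []), (29, [5]), (25, [])]]
def t7_1 : List (List (ℕ × List (Fin 8))) := [[(30, [1]), (32, []), (30, [3]), (30, [4]), (27, []), (33, []), (26, [])], [(31, [1]), (31, [4]), (34, []), (28, []), (31, [2]), (31, [0]), (35, [])], [(32, [1]), (30, []), (32, [3]), (35, []), (29, []), (36, []), (28, [])], [(33, [1]), (36, []), (33, [3]), (33, [4]), (33, [5]), (30, []), (33, [0])], [(37, []), (34, [4]), (31, []), (34, [3]), (34, [2]), (34, [0]), (38, [])], [(35, [1]), (35, [4]), (38, []), (32, []), (35, [2]), (39, []), (31, [])], [(36, [1]), (33, []), (36, [3]), (39, []), (36, [5]), (32, []), (36, [0])], [(34, []), (37, [4]), (37, [1]), (37, [3]), (37, [2]), (37, [0]), (40, [])], [(40, []), (38, [4]), (35, []), (38, [3]), (38, [2]), (41, []), (34, [])],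 [(39, [1]), (39, [4]), (41, []), (36, []), (42, []), (35, []), (39, [0])], [(38, []), (40, [4]), (40, [1]), (40, [3]), (40, [2]), (43, []), (37, [])], [(43, []), (41, [4]), (39, []), (41, [3]), (44, []), (38, []), (41, [0])], [(42, [1]), (42, [4]), (44, []), (42, [5]), (39, []), (42, [2]), (42, [0])], [(41, []), (43, [4]), (43, [1]), (43, [3]), (45, []), (40, []), (43, [0])], [(45, []), (44, [4]), (42, []), (46, []), (41, []), (44, [2]), (44, [0])], [(44, []), (45, [4]), (45, [1]), (47, []), (43, []), (45, [2]), (45, [0])], [(47, []), (48, []), (46, [5]), (44, []), (46, [3]), (46, [2]), (46, [0])], [(46, []), (49, []), (50, []), (45, []), (47, [3]), (47, [2]), (47, [0])], [(49, []), (46, []), (48, [5]), (48, [4]), (48, [3]), (48, [2]), (48, [0])], [(48, []), (47, []),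 (51, []), (49, [4]), (49, [3]), (49, [2]), (49, [0])], [(50, [5]), (51, []), (47, []), (50, [1]), (50, [3]), (50, [2]), (50, [0])], [(51, [5]), (50, []), (49, []), (52, []), (51, [3]), (51, [2]), (51, [0])], [(52, [5]), (52, [1]), (52, [4]), (51, []), (53, []), (52, [2]), (52, [0])], [(53, [5]), (53, [1]), (53, [4]), (53, [3]), (52, []), (54, []), (53, [0])], [(54, [5]), (54, [1]), (54, [4]), (54, [3]), (54, [2]), (53, []), (55, [])], [(55, [5]), (55, [1]), (55, [4]), (55, [3]), (55, [2]), (55, [0]), (54, [])]]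
def r7_0 : List (List ℕ) := [[1, 1, 1, 1, 1, 1, 2], [3, 3, 3, 3, 3, 4, 2], [5, 5, 5, 5, 6, 4, 5], [7, 7, 7, 8, 6, 7, 7], [9, 10, 10, 8, 9, 9, 9], [11, 10, 12, 11, 11, 11, 11], [12, 13, 10, 11, 11, 11, 11], [14, 13, 12, 14, 13, 13, 13], [12, 15, 13, 13, 13, 13, 13], [14, 15, 15, 16, 15, 15, 15], [17, 15, 15, 14, 16, 15, 15], [17, 17, 18, 16, 18, 17, 17], [19, 17, 17, 17, 16, 18, 17], [19, 19, 18, 19, 20, 19, 19], [19, 19, 21, 19, 18, 20, 19], [21, 19, 19, 19, 19, 18, 20], [21, 21, 21, 22, 20, 22, 21], [21, 21, 23, 21, 21, 20, 22], [23, 21, 21, 21, 21, 21, 20], [23, 24, 23, 22, 23, 24, 23], [23, 23, 23, 25, 23, 22, 24], [23, 23, 25, 23, 23, 23, 22], [25, 24, 25, 25, 25, 26, 25], [25, 27, 25, 25, 26, 24, 26], [25, 25, 25, 27, 25, 25, 24], [27, 27, 27, 27, 28, 26, 28],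 [27, 29, 27, 27, 26, 27, 28], [27, 29, 27, 27, 29, 27, 26], [29, 29, 29, 30, 28, 29, 30], [29, 29, 29, 29, 31, 29, 28]]
def r7_1 : List (List ℕ) := [[29, 31, 29, 29, 29, 30, 28], [31, 31, 32, 30, 31, 31, 32], [31, 31, 31, 33, 31, 32, 30], [31, 33, 31, 31, 31, 30, 31], [34, 33, 32, 33, 33, 33, 34], [33, 33, 35, 33, 33, 34, 32], [33, 33, 33, 35, 33, 32, 33], [34, 35, 35, 35, 35, 35, 36], [37, 35, 35, 35, 35, 36, 34], [35, 35, 37, 35, 36, 34, 35], [37, 37, 37, 37, 37, 38, 36], [39, 37, 37, 37, 38, 36, 37], [37, 37, 39, 37, 36, 37, 37], [39, 39, 39, 39, 40, 38, 39], [41, 39, 39, 40, 38, 39, 39], [41, 41, 41, 42, 40, 41, 41], [43, 42, 41, 40, 41, 41, 41], [43, 44, 44, 42, 43, 43, 43], [45, 42, 43, 43, 43, 43, 43], [45, 44, 46, 45, 45, 45, 45], [45, 47, 44, 45, 45, 45, 45],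 [47, 47, 46, 48, 47, 47, 47], [49, 49, 49, 48, 50, 49, 49], [51, 51, 51, 51, 50, 52, 51], [53, 53, 53, 53, 53, 52, 54], [55, 55, 55, 55, 55, 55, 54]]
def j7_0 : List (List ℕ) := [[2, 2, 2, 2, 2, 2, 0], [9, 9, 9, 9, 9, 0, 1], [8, 8, 8, 8, 0, 1, 8], [7, 7, 7, 0, 1, 7, 7], [6, 0, 0, 1, 6, 6, 6], [4, 1, 0, 4, 4, 4, 4], [0, 5, 1, 5, 5, 5, 5], [0, 5, 1, 0, 5, 5, 5], [1, 3, 3, 3, 3, 3, 3], [1, 3, 3, 0, 3, 3, 3], [6, 6, 6, 1, 0, 6, 6], [6, 6, 0, 1, 0, 6, 6], [7, 7, 7, 7, 1, 0, 7], [5, 5, 1, 5, 0, 5, 5], [7, 7, 7, 7, 1, 0, 7], [8, 8, 8, 8, 8, 1, 0], [7, 7, 7, 0, 1, 0, 7], [8, 8, 8, 8, 8, 1, 0], [9, 9, 9, 9, 9, 9, 1], [6, 0, 6, 1, 6, 0, 6], [8, 8, 8, 8, 8, 1, 0], [9, 9, 9, 9, 9, 9, 1], [4, 1, 4, 4, 4, 0, 4], [8, 8, 8, 8, 0, 1, 0], [9, 9, 9, 9, 9, 9, 1], [8, 8, 8, 8, 0, 1, 0],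 [7, 7, 7, 7, 1, 7, 0], [9, 9, 9, 9, 9, 9, 1], [7, 7, 7, 0, 1, 7, 0], [9, 9, 9, 9, 9, 9, 1]]
def j7_1 : List (List ℕ) := [[9, 9, 9, 9, 9, 0, 1], [6, 6, 0, 1, 6, 6, 0], [9, 9, 9, 9, 9, 0, 1], [8, 8, 8, 8, 8, 1, 8], [0, 5, 1, 5, 5, 5, 0], [9, 9, 9, 9, 9, 0, 1], [8, 8, 8, 8, 8, 1, 8], [1, 3, 3, 3, 3, 3, 0], [9, 9, 9, 9, 9, 0, 1], [8, 8, 8, 8, 0, 1, 8], [9, 9, 9, 9, 9, 0, 1], [8, 8, 8, 8, 0, 1, 8], [7, 7, 7, 7, 1, 7, 7], [8, 8, 8, 8, 0, 1, 8], [7, 7, 7, 0, 1, 7, 7], [7, 7, 7, 0, 1, 7, 7], [6, 0, 6, 1, 6, 6, 6], [6, 0, 0, 1, 6, 6, 6], [4, 1, 4, 4, 4, 4, 4], [4, 1, 0, 4, 4, 4, 4], [5, 5, 1, 5, 5, 5, 5], [5, 5, 1, 0, 5, 5, 5], [6, 6, 6, 1, 0, 6, 6], [7, 7, 7, 7, 1, 0, 7], [8, 8, 8, 8, 8, 1, 0], [9, 9, 9, 9, 9, 9, 1]]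
def v7_0 : List (Fin 8 → ℤ) := [![0, 0, 0, 0, 0, 0, 1, 0], ![0, 0, 0, 0, 0, 1, -1, 1], ![0, 0, 0, 0, 1, -1, 0, 1], ![0, 0, 0, 1, -1, 0, 0, 1], ![0, 1, 1, -1, 0, 0, 0, 1], ![0, -1, 1, 0, 0, 0, 0, 1], ![1, 1, -1, 0, 0, 0, 0, 1], ![1, -1, -1, 1, 0, 0, 0, 1], ![-1, 1, 0, 0, 0, 0, 0, 1], ![-1, -1, 0, 1, 0, 0, 0, 1], ![1, 0, 0, -1, 1, 0, 0, 1], ![-1, 0, 1, -1, 1, 0, 0, 1], ![1, 0, 0, 0, -1, 1, 0, 1], ![0, 0, -1, 0, 1, 0, 0, 1], ![-1, 0, 1, 0, -1, 1, 0, 1], ![1, 0, 0, 0, 0, -1, 1, 1], ![0, 0, -1, 1, -1, 1, 0, 1], ![-1, 0, 1, 0, 0, -1, 1, 1], ![1, 0, 0, 0, 0, 0, -1, 2], ![0, 1, 0, -1, 0, 1, 0, 1], ![0, 0, -1, 1, 0, -1, 1, 1], ![-1, 0, 1, 0, 0, 0, -1, 2], ![0, -1, 0, 0, 0, 1, 0, 1], ![0, 1, 0, -1, 1, -1, 1, 1], ![0, 0, -1, 1, 0, 0, -1, 2], ![0, -1, 0, 0, 1, -1, 1, 1], ![0,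 1, 0, 0, -1, 0, 1, 1], ![0, 1, 0, -1, 1, 0, -1, 2], ![0, -1, 0, 1, -1, 0, 1, 1], ![0, -1, 0, 0, 1, 0, -1, 2]]
def v7_1 : List (Fin 8 → ℤ) := [![0, 1, 0, 0, -1, 1, -1, 2], ![0, 0, 1, -1, 0, 0, 1, 1], ![0, -1, 0, 1, -1, 1, -1, 2], ![0, 1, 0, 0, 0, -1, 0, 2], ![1, 0, -1, 0, 0, 0, 1, 1], ![0, 0, 1, -1, 0, 1, -1, 2], ![0, -1, 0, 1, 0, -1, 0, 2], ![-1, 0, 0, 0, 0, 0, 1, 1], ![1, 0, -1, 0, 0, 1, -1, 2], ![0, 0, 1, -1, 1, -1, 0, 2], ![-1, 0, 0, 0, 0, 1, -1, 2], ![1, 0, -1, 0, 1, -1, 0, 2], ![0, 0, 1, 0, -1, 0, 0, 2], ![-1, 0, 0, 0, 1, -1, 0, 2], ![1, 0, -1, 1, -1, 0, 0, 2], ![-1, 0, 0, 1, -1, 0, 0, 2], ![1, 1, 0, -1, 0, 0, 0, 2], ![-1, 1, 1, -1, 0, 0, 0, 2], ![1, -1, 0, 0, 0, 0, 0, 2], ![-1, -1, 1, 0, 0, 0, 0, 2], ![0, 1, -1, 0, 0, 0, 0, 2], ![0, -1, -1, 1, 0, 0, 0, 2], ![0,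 0, 0, -1, 1, 0, 0, 2], ![0, 0, 0, 0, -1, 1, 0, 2], ![0, 0, 0, 0, 0, -1, 1, 2], ![0, 0, 0, 0, 0, 0, -1, 3]]
def L7 : Lvl 8 :=
  { c := 56
    words := w7_0 ++ w7_1
    tab := t7_0 ++ t7_1
    rk := r7_0 ++ r7_1
    jst := j7_0 ++ j7_1
    vecs := v7_0 ++ v7_1 }

def w8_0 : List (List (Fin 8)) := [[], [7], [6, 7], [5, 6, 7], [4, 5, 6, 7], [3, 4, 5, 6, 7], [1, 3, 4, 5, 6, 7], [2, 3, 4, 5, 6, 7], [2, 1, 3, 4, 5, 6, 7], [0, 2, 3, 4, 5, 6, 7], [0, 2, 1, 3, 4, 5, 6, 7], [3, 2, 1, 3, 4, 5, 6, 7], [3, 0, 2, 1, 3, 4, 5, 6, 7], [4, 3, 2, 1, 3, 4, 5, 6, 7], [2, 3, 0, 2, 1, 3, 4, 5, 6, 7], [4, 3, 0, 2, 1, 3, 4, 5, 6, 7], [5, 4, 3, 2, 1, 3, 4, 5, 6, 7], [4, 2, 3, 0, 2, 1, 3, 4, 5, 6, 7], [5, 4, 3, 0, 2, 1, 3, 4, 5, 6, 7], [6, 5, 4, 3, 2, 1, 3, 4, 5, 6, 7], [3, 4, 2, 3, 0, 2, 1,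 3, 4, 5, 6, 7], [5, 4, 2, 3, 0, 2, 1, 3, 4, 5, 6, 7], [6, 5, 4, 3, 0, 2, 1, 3, 4, 5, 6, 7], [7, 6, 5, 4, 3, 2, 1, 3, 4, 5, 6, 7], [1, 3, 4, 2, 3, 0, 2, 1, 3, 4, 5, 6, 7], [5, 3, 4, 2, 3, 0, 2, 1, 3, 4, 5, 6, 7], [6, 5, 4, 2, 3, 0, 2, 1, 3, 4, 5, 6, 7], [7, 6, 5, 4, 3, 0, 2, 1, 3, 4, 5, 6, 7], [5, 1, 3, 4, 2, 3, 0, 2, 1, 3, 4, 5, 6, 7], [4, 5, 3, 4, 2, 3, 0, 2, 1, 3, 4, 5, 6, 7]]
def w8_1 : List (List (Fin 8)) := [[6, 5, 3, 4, 2, 3, 0, 2, 1, 3, 4, 5, 6, 7], [7, 6, 5, 4, 2, 3, 0, 2, 1, 3, 4, 5, 6, 7], [4, 5, 1, 3, 4, 2, 3, 0, 2, 1, 3, 4, 5, 6, 7], [6, 5, 1, 3, 4, 2, 3, 0, 2, 1, 3, 4, 5, 6, 7], [6, 4, 5, 3, 4, 2, 3, 0, 2, 1, 3, 4, 5, 6, 7], [7, 6, 5, 3, 4, 2, 3, 0, 2, 1, 3, 4, 5, 6, 7], [3, 4, 5, 1, 3, 4, 2, 3, 0, 2, 1, 3, 4, 5, 6, 7], [6, 4, 5, 1, 3, 4, 2, 3, 0, 2, 1,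 3, 4, 5, 6, 7], [7, 6, 5, 1, 3, 4, 2, 3, 0, 2, 1, 3, 4, 5, 6, 7], [5, 6, 4, 5, 3, 4, 2, 3, 0, 2, 1, 3, 4, 5, 6, 7], [7, 6, 4, 5, 3, 4, 2, 3, 0, 2, 1, 3, 4, 5, 6, 7], [2, 3, 4, 5, 1, 3, 4, 2, 3, 0, 2, 1, 3, 4, 5, 6, 7], [6, 3, 4, 5, 1, 3, 4, 2, 3, 0, 2, 1, 3, 4, 5, 6, 7], [5, 6, 4, 5, 1, 3, 4, 2, 3, 0, 2, 1, 3, 4, 5, 6, 7], [7, 6, 4, 5, 1, 3, 4, 2, 3, 0, 2, 1, 3, 4, 5, 6, 7], [7, 5, 6, 4, 5, 3, 4, 2, 3, 0, 2, 1, 3, 4, 5, 6, 7], [0, 2, 3, 4, 5, 1, 3, 4, 2, 3, 0, 2, 1, 3, 4, 5, 6, 7], [6, 2, 3, 4, 5, 1, 3, 4, 2, 3, 0, 2, 1, 3, 4, 5, 6, 7], [5, 6, 3, 4, 5, 1, 3, 4, 2, 3, 0, 2, 1, 3, 4, 5, 6, 7], [7, 6, 3, 4, 5, 1, 3, 4, 2, 3, 0, 2, 1, 3, 4, 5, 6, 7], [7, 5, 6, 4, 5, 1, 3, 4, 2, 3, 0, 2, 1, 3, 4, 5, 6, 7], [6, 7, 5, 6, 4, 5, 3, 4, 2, 3, 0, 2, 1, 3, 4, 5, 6, 7], [6, 0, 2,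 3, 4, 5, 1, 3, 4, 2, 3, 0, 2, 1, 3, 4, 5, 6, 7], [5, 6, 2, 3, 4, 5, 1, 3, 4, 2, 3, 0, 2, 1, 3, 4, 5, 6, 7], [7, 6, 2, 3, 4, 5, 1, 3, 4, 2, 3, 0, 2, 1, 3, 4, 5, 6, 7], [4, 5, 6, 3, 4, 5, 1, 3, 4, 2, 3, 0, 2, 1, 3, 4, 5, 6, 7], [7, 5, 6, 3, 4, 5, 1, 3, 4, 2, 3, 0, 2, 1, 3, 4, 5, 6, 7], [6, 7, 5, 6, 4, 5, 1, 3, 4, 2, 3, 0, 2, 1, 3, 4, 5, 6, 7], [5, 6, 0, 2, 3, 4, 5, 1, 3, 4, 2, 3, 0, 2, 1, 3, 4, 5, 6, 7], [7, 6, 0, 2, 3, 4, 5, 1, 3, 4, 2, 3, 0, 2, 1, 3, 4, 5, 6, 7]]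
def w8_2 : List (List (Fin 8)) := [[4, 5, 6, 2, 3, 4, 5, 1, 3, 4, 2, 3, 0, 2, 1, 3, 4, 5, 6, 7], [7, 5, 6, 2, 3, 4, 5, 1, 3, 4, 2, 3, 0, 2, 1, 3, 4, 5, 6, 7], [7, 4, 5, 6, 3, 4, 5, 1, 3, 4, 2, 3, 0, 2, 1, 3, 4, 5, 6, 7], [6, 7, 5, 6, 3, 4, 5, 1, 3, 4, 2, 3, 0, 2, 1, 3, 4, 5, 6, 7], [4, 5, 6, 0, 2, 3, 4, 5, 1, 3, 4, 2, 3, 0, 2, 1, 3, 4, 5, 6, 7], [7, 5, 6, 0, 2, 3, 4, 5, 1, 3, 4, 2, 3, 0, 2, 1, 3, 4, 5, 6, 7], [3, 4, 5, 6, 2, 3, 4, 5, 1, 3, 4, 2, 3, 0, 2, 1, 3, 4, 5, 6, 7], [7, 4, 5, 6, 2, 3, 4, 5, 1, 3, 4, 2, 3, 0, 2, 1, 3, 4, 5, 6, 7], [6, 7, 5, 6, 2, 3, 4, 5, 1, 3, 4, 2, 3, 0, 2, 1, 3, 4, 5, 6, 7], [6, 7, 4, 5, 6, 3, 4, 5, 1, 3, 4, 2, 3, 0, 2, 1, 3, 4, 5, 6, 7], [3, 4, 5, 6, 0, 2, 3, 4, 5, 1, 3, 4, 2, 3, 0, 2, 1, 3, 4, 5, 6, 7], [7, 4, 5, 6, 0, 2, 3, 4, 5, 1, 3,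 4, 2, 3, 0, 2, 1, 3, 4, 5, 6, 7], [6, 7, 5, 6, 0, 2, 3, 4, 5, 1, 3, 4, 2, 3, 0, 2, 1, 3, 4, 5, 6, 7], [1, 3, 4, 5, 6, 2, 3, 4, 5, 1, 3, 4, 2, 3, 0, 2, 1, 3, 4, 5, 6, 7], [7, 3, 4, 5, 6, 2, 3, 4, 5, 1, 3, 4, 2, 3, 0, 2, 1, 3, 4, 5, 6, 7], [6, 7, 4, 5, 6, 2, 3, 4, 5, 1, 3, 4, 2, 3, 0, 2, 1, 3, 4, 5, 6, 7], [5, 6, 7, 4, 5, 6, 3, 4, 5, 1, 3, 4, 2, 3, 0, 2, 1, 3, 4, 5, 6, 7], [1, 3, 4, 5, 6, 0, 2, 3, 4, 5, 1, 3, 4, 2, 3, 0, 2, 1, 3, 4, 5, 6, 7], [2, 3, 4, 5, 6, 0, 2, 3, 4, 5, 1, 3, 4, 2, 3, 0, 2, 1, 3, 4, 5, 6, 7], [7, 3, 4, 5, 6, 0, 2, 3, 4, 5, 1, 3, 4, 2, 3, 0, 2, 1, 3, 4, 5, 6, 7], [6, 7, 4, 5, 6, 0, 2, 3, 4, 5, 1, 3, 4, 2, 3, 0, 2, 1, 3, 4, 5, 6, 7], [7, 1, 3, 4, 5, 6, 2, 3, 4, 5, 1, 3, 4, 2, 3, 0, 2, 1, 3, 4, 5, 6, 7], [6, 7, 3, 4, 5, 6, 2, 3, 4, 5, 1, 3, 4, 2, 3,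 0, 2, 1, 3, 4, 5, 6, 7], [5, 6, 7, 4, 5, 6, 2, 3, 4, 5, 1, 3, 4, 2, 3, 0, 2, 1, 3, 4, 5, 6, 7], [2, 1, 3, 4, 5, 6, 0, 2, 3, 4, 5, 1, 3, 4, 2, 3, 0, 2, 1, 3, 4, 5, 6, 7], [7, 1, 3, 4, 5, 6, 0, 2, 3, 4, 5, 1, 3, 4, 2, 3, 0, 2, 1, 3, 4, 5, 6, 7], [7, 2, 3, 4, 5, 6, 0, 2, 3, 4, 5, 1, 3, 4, 2, 3, 0, 2, 1, 3, 4, 5, 6, 7], [6, 7, 3, 4, 5, 6, 0, 2, 3, 4, 5, 1, 3, 4, 2, 3, 0, 2, 1, 3, 4, 5, 6, 7], [5, 6, 7, 4, 5, 6, 0, 2, 3, 4, 5, 1, 3, 4, 2, 3, 0, 2, 1, 3, 4, 5, 6, 7], [6, 7, 1, 3, 4, 5, 6, 2, 3, 4, 5, 1, 3, 4, 2, 3, 0, 2, 1, 3, 4, 5, 6, 7]]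
def w8_3 : List (List (Fin 8)) := [[5, 6, 7, 3, 4, 5, 6, 2, 3, 4, 5, 1, 3, 4, 2, 3, 0, 2, 1, 3, 4, 5, 6, 7], [3, 2, 1, 3, 4, 5, 6, 0, 2, 3, 4, 5, 1, 3, 4, 2, 3, 0, 2, 1, 3, 4, 5, 6, 7], [7, 2, 1, 3, 4, 5, 6, 0, 2, 3, 4, 5, 1, 3, 4, 2, 3, 0, 2, 1, 3, 4, 5, 6, 7], [6, 7, 1, 3, 4, 5, 6, 0, 2, 3, 4, 5, 1, 3, 4, 2, 3, 0, 2, 1, 3, 4, 5, 6, 7], [6, 7, 2, 3, 4, 5, 6, 0, 2, 3, 4, 5, 1, 3, 4, 2, 3, 0, 2, 1, 3, 4, 5, 6, 7], [5, 6, 7, 3, 4, 5, 6, 0, 2, 3, 4, 5, 1, 3, 4, 2, 3, 0, 2, 1, 3, 4, 5, 6, 7], [5, 6, 7, 1, 3, 4, 5, 6, 2, 3, 4, 5, 1, 3, 4, 2, 3, 0, 2, 1, 3, 4, 5, 6, 7], [4, 5, 6, 7, 3, 4, 5, 6, 2, 3, 4, 5, 1, 3, 4, 2, 3, 0, 2, 1, 3, 4, 5, 6, 7], [4, 3, 2, 1, 3, 4, 5, 6, 0, 2, 3, 4, 5, 1, 3, 4, 2, 3, 0, 2, 1, 3, 4, 5, 6, 7], [7, 3, 2, 1, 3, 4, 5, 6, 0, 2, 3, 4, 5, 1, 3, 4,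 2, 3, 0, 2, 1, 3, 4, 5, 6, 7], [6, 7, 2, 1, 3, 4, 5, 6, 0, 2, 3, 4, 5, 1, 3, 4, 2, 3, 0, 2, 1, 3, 4, 5, 6, 7], [5, 6, 7, 1, 3, 4, 5, 6, 0, 2, 3, 4, 5, 1, 3, 4, 2, 3, 0, 2, 1, 3, 4, 5, 6, 7], [5, 6, 7, 2, 3, 4, 5, 6, 0, 2, 3, 4, 5, 1, 3, 4, 2, 3, 0, 2, 1, 3, 4, 5, 6, 7], [4, 5, 6, 7, 3, 4, 5, 6, 0, 2, 3, 4, 5, 1, 3, 4, 2, 3, 0, 2, 1, 3, 4, 5, 6, 7], [4, 5, 6, 7, 1, 3, 4, 5, 6, 2, 3, 4, 5, 1, 3, 4, 2, 3, 0, 2, 1, 3, 4, 5, 6, 7], [5, 4, 3, 2, 1, 3, 4, 5, 6, 0, 2, 3, 4, 5, 1, 3, 4, 2, 3, 0, 2, 1, 3, 4, 5, 6, 7], [7, 4, 3, 2, 1, 3, 4, 5, 6, 0, 2, 3, 4, 5, 1, 3, 4, 2, 3, 0, 2, 1, 3, 4, 5, 6, 7], [6, 7, 3, 2, 1, 3, 4, 5, 6, 0, 2, 3, 4, 5, 1, 3, 4, 2, 3, 0, 2, 1, 3, 4, 5, 6, 7], [5, 6, 7, 2, 1, 3, 4, 5, 6, 0, 2, 3, 4, 5, 1, 3, 4, 2, 3, 0, 2, 1, 3, 4, 5, 6, 7], [4, 5, 6, 7,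 1, 3, 4, 5, 6, 0, 2, 3, 4, 5, 1, 3, 4, 2, 3, 0, 2, 1, 3, 4, 5, 6, 7], [4, 5, 6, 7, 2, 3, 4, 5, 6, 0, 2, 3, 4, 5, 1, 3, 4, 2, 3, 0, 2, 1, 3, 4, 5, 6, 7], [3, 4, 5, 6, 7, 1, 3, 4, 5, 6, 2, 3, 4, 5, 1, 3, 4, 2, 3, 0, 2, 1, 3, 4, 5, 6, 7], [6, 5, 4, 3, 2, 1, 3, 4, 5, 6, 0, 2, 3, 4, 5, 1, 3, 4, 2, 3, 0, 2, 1, 3, 4, 5, 6, 7], [7, 5, 4, 3, 2, 1, 3, 4, 5, 6, 0, 2, 3, 4, 5, 1, 3, 4, 2, 3, 0, 2, 1, 3, 4, 5, 6, 7], [6, 7, 4, 3, 2, 1, 3, 4, 5, 6, 0, 2, 3, 4, 5, 1, 3, 4, 2, 3, 0, 2, 1, 3, 4, 5, 6, 7], [5, 6, 7, 3, 2, 1, 3, 4, 5, 6, 0, 2, 3, 4, 5, 1, 3, 4, 2, 3, 0, 2, 1, 3, 4, 5, 6, 7], [4, 5, 6, 7, 2, 1, 3, 4, 5, 6, 0, 2, 3, 4, 5, 1, 3, 4, 2, 3, 0, 2, 1, 3, 4, 5, 6, 7], [3, 4, 5, 6, 7, 1, 3, 4, 5, 6, 0, 2, 3, 4, 5, 1, 3, 4, 2, 3, 0, 2, 1, 3, 4, 5, 6, 7], [3, 4, 5, 6, 7, 2, 3, 4,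 5, 6, 0, 2, 3, 4, 5, 1, 3, 4, 2, 3, 0, 2, 1, 3, 4, 5, 6, 7], [2, 3, 4, 5, 6, 7, 1, 3, 4, 5, 6, 2, 3, 4, 5, 1, 3, 4, 2, 3, 0, 2, 1, 3, 4, 5, 6, 7]]
def w8_4 : List (List (Fin 8)) := [[7, 6, 5, 4, 3, 2, 1, 3, 4, 5, 6, 0, 2, 3, 4, 5, 1, 3, 4, 2, 3, 0, 2, 1, 3, 4, 5, 6, 7], [6, 7, 5, 4, 3, 2, 1, 3, 4, 5, 6, 0, 2, 3, 4, 5, 1, 3, 4, 2, 3, 0, 2, 1, 3, 4, 5, 6, 7], [5, 6, 7, 4, 3, 2, 1, 3, 4, 5, 6, 0, 2, 3, 4, 5, 1, 3, 4, 2, 3, 0, 2, 1, 3, 4, 5, 6, 7], [4, 5, 6, 7, 3, 2, 1, 3, 4, 5, 6, 0, 2, 3, 4, 5, 1, 3, 4, 2, 3, 0, 2, 1, 3, 4, 5, 6, 7], [3, 4, 5, 6, 7, 2, 1, 3, 4, 5, 6, 0, 2, 3, 4, 5, 1, 3, 4, 2, 3, 0, 2, 1, 3, 4, 5, 6, 7], [2, 3, 4, 5, 6, 7, 1, 3, 4, 5, 6, 0, 2, 3, 4, 5, 1, 3, 4, 2, 3, 0, 2, 1, 3, 4, 5, 6, 7], [1, 3, 4, 5, 6, 7, 2, 3, 4, 5, 6, 0, 2, 3, 4, 5, 1, 3, 4, 2,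 3, 0, 2, 1, 3, 4, 5, 6, 7], [0, 2, 3, 4, 5, 6, 7, 1, 3, 4, 5, 6, 2, 3, 4, 5, 1, 3, 4, 2, 3, 0, 2, 1, 3, 4, 5, 6, 7], [6, 7, 6, 5, 4, 3, 2, 1, 3, 4, 5, 6, 0, 2, 3, 4, 5, 1, 3, 4, 2, 3, 0, 2, 1, 3, 4, 5, 6, 7], [5, 6, 7, 5, 4, 3, 2, 1, 3, 4, 5, 6, 0, 2, 3, 4, 5, 1, 3, 4, 2, 3, 0, 2, 1, 3, 4, 5, 6, 7], [4, 5, 6, 7, 4, 3, 2, 1, 3, 4, 5, 6, 0, 2, 3, 4, 5, 1, 3, 4, 2, 3, 0, 2, 1, 3, 4, 5, 6, 7], [3, 4, 5, 6, 7, 3, 2, 1, 3, 4, 5, 6, 0, 2, 3, 4, 5, 1, 3, 4, 2, 3, 0, 2, 1, 3, 4, 5, 6, 7], [1, 3, 4, 5, 6, 7, 2, 1, 3, 4, 5, 6, 0, 2, 3, 4, 5, 1, 3, 4, 2, 3, 0, 2, 1, 3, 4, 5, 6, 7], [2, 3, 4, 5, 6, 7, 2, 1, 3, 4, 5, 6, 0, 2, 3, 4, 5, 1, 3, 4, 2, 3, 0, 2, 1, 3, 4, 5, 6, 7], [0, 2, 3, 4, 5, 6, 7, 1, 3, 4, 5, 6, 0, 2, 3, 4, 5, 1, 3, 4, 2, 3, 0, 2, 1, 3, 4, 5, 6, 7], [5, 6, 7, 6, 5,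 4, 3, 2, 1, 3, 4, 5, 6, 0, 2, 3, 4, 5, 1, 3, 4, 2, 3, 0, 2, 1, 3, 4, 5, 6, 7], [4, 5, 6, 7, 5, 4, 3, 2, 1, 3, 4, 5, 6, 0, 2, 3, 4, 5, 1, 3, 4, 2, 3, 0, 2, 1, 3, 4, 5, 6, 7], [3, 4, 5, 6, 7, 4, 3, 2, 1, 3, 4, 5, 6, 0, 2, 3, 4, 5, 1, 3, 4, 2, 3, 0, 2, 1, 3, 4, 5, 6, 7], [1, 3, 4, 5, 6, 7, 3, 2, 1, 3, 4, 5, 6, 0, 2, 3, 4, 5, 1, 3, 4, 2, 3, 0, 2, 1, 3, 4, 5, 6, 7], [2, 3, 4, 5, 6, 7, 3, 2, 1, 3, 4, 5, 6, 0, 2, 3, 4, 5, 1, 3, 4, 2, 3, 0, 2, 1, 3, 4, 5, 6, 7], [2, 1, 3, 4, 5, 6, 7, 2, 1, 3, 4, 5, 6, 0, 2, 3, 4, 5, 1, 3, 4, 2, 3, 0, 2, 1, 3, 4, 5, 6, 7], [0, 2, 3, 4, 5, 6, 7, 2, 1, 3, 4, 5, 6, 0, 2, 3, 4, 5, 1, 3, 4, 2, 3, 0, 2, 1, 3, 4, 5, 6, 7], [4, 5, 6, 7, 6, 5, 4, 3, 2, 1, 3, 4, 5, 6, 0, 2, 3, 4, 5, 1, 3, 4, 2, 3, 0, 2, 1, 3, 4, 5, 6, 7], [3, 4, 5, 6, 7, 5, 4, 3, 2,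 1, 3, 4, 5, 6, 0, 2, 3, 4, 5, 1, 3, 4, 2, 3, 0, 2, 1, 3, 4, 5, 6, 7], [1, 3, 4, 5, 6, 7, 4, 3, 2, 1, 3, 4, 5, 6, 0, 2, 3, 4, 5, 1, 3, 4, 2, 3, 0, 2, 1, 3, 4, 5, 6, 7], [2, 3, 4, 5, 6, 7, 4, 3, 2, 1, 3, 4, 5, 6, 0, 2, 3, 4, 5, 1, 3, 4, 2, 3, 0, 2, 1, 3, 4, 5, 6, 7], [2, 1, 3, 4, 5, 6, 7, 3, 2, 1, 3, 4, 5, 6, 0, 2, 3, 4, 5, 1, 3, 4, 2, 3, 0, 2, 1, 3, 4, 5, 6, 7], [0, 2, 3, 4, 5, 6, 7, 3, 2, 1, 3, 4, 5, 6, 0, 2, 3, 4, 5, 1, 3, 4, 2, 3, 0, 2, 1, 3, 4, 5, 6, 7], [0, 2, 1, 3, 4, 5, 6, 7, 2, 1, 3, 4, 5, 6, 0, 2, 3, 4, 5, 1, 3, 4, 2, 3, 0, 2, 1, 3, 4, 5, 6, 7], [3, 4, 5, 6, 7, 6, 5, 4, 3, 2, 1, 3, 4, 5, 6, 0, 2, 3, 4, 5, 1, 3, 4, 2, 3, 0, 2, 1, 3, 4, 5, 6, 7]]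
def w8_5 : List (List (Fin 8)) := [[1, 3, 4, 5, 6, 7, 5, 4, 3, 2, 1, 3, 4, 5, 6, 0, 2, 3, 4, 5, 1, 3, 4, 2, 3, 0, 2, 1, 3, 4, 5, 6, 7], [2, 3, 4, 5, 6, 7, 5, 4, 3, 2, 1, 3, 4, 5, 6, 0, 2, 3, 4, 5, 1, 3, 4, 2, 3, 0, 2, 1, 3, 4, 5, 6, 7], [2, 1, 3, 4, 5, 6, 7, 4, 3, 2, 1, 3, 4, 5, 6, 0, 2, 3, 4, 5, 1, 3, 4, 2, 3, 0, 2, 1, 3, 4, 5, 6, 7], [0, 2, 3, 4, 5, 6, 7, 4, 3, 2, 1, 3, 4, 5, 6, 0, 2, 3, 4, 5, 1, 3, 4, 2, 3, 0, 2, 1, 3, 4, 5, 6, 7], [0, 2, 1, 3, 4, 5, 6, 7, 3, 2, 1, 3, 4, 5, 6, 0, 2, 3, 4, 5, 1, 3, 4, 2, 3, 0, 2, 1, 3, 4, 5, 6, 7], [3, 2, 1, 3, 4, 5, 6, 7, 3, 2, 1, 3, 4, 5, 6, 0, 2, 3, 4, 5, 1, 3, 4, 2, 3, 0, 2, 1, 3, 4, 5, 6, 7], [1, 3, 4, 5, 6, 7, 6, 5, 4, 3, 2, 1, 3, 4, 5, 6, 0, 2, 3, 4, 5, 1, 3, 4, 2, 3, 0, 2, 1, 3, 4, 5, 6, 7], [2, 3, 4, 5, 6, 7, 6, 5, 4, 3,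 2, 1, 3, 4, 5, 6, 0, 2, 3, 4, 5, 1, 3, 4, 2, 3, 0, 2, 1, 3, 4, 5, 6, 7], [2, 1, 3, 4, 5, 6, 7, 5, 4, 3, 2, 1, 3, 4, 5, 6, 0, 2, 3, 4, 5, 1, 3, 4, 2, 3, 0, 2, 1, 3, 4, 5, 6, 7], [0, 2, 3, 4, 5, 6, 7, 5, 4, 3, 2, 1, 3, 4, 5, 6, 0, 2, 3, 4, 5, 1, 3, 4, 2, 3, 0, 2, 1, 3, 4, 5, 6, 7], [0, 2, 1, 3, 4, 5, 6, 7, 4, 3, 2, 1, 3, 4, 5, 6, 0, 2, 3, 4, 5, 1, 3, 4, 2, 3, 0, 2, 1, 3, 4, 5, 6, 7], [3, 2, 1, 3, 4, 5, 6, 7, 4, 3, 2, 1, 3, 4, 5, 6, 0, 2, 3, 4, 5, 1, 3, 4, 2, 3, 0, 2, 1, 3, 4, 5, 6, 7], [3, 0, 2, 1, 3, 4, 5, 6, 7, 3, 2, 1, 3, 4, 5, 6, 0, 2, 3, 4, 5, 1, 3, 4, 2, 3, 0, 2, 1, 3, 4, 5, 6, 7], [2, 1, 3, 4, 5, 6, 7, 6, 5, 4, 3, 2, 1, 3, 4, 5, 6, 0, 2, 3, 4, 5, 1, 3, 4, 2, 3, 0, 2, 1, 3, 4, 5, 6, 7], [0, 2, 3, 4, 5, 6, 7, 6, 5, 4, 3, 2, 1, 3, 4, 5, 6, 0, 2, 3, 4, 5, 1, 3, 4,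 2, 3, 0, 2, 1, 3, 4, 5, 6, 7], [0, 2, 1, 3, 4, 5, 6, 7, 5, 4, 3, 2, 1, 3, 4, 5, 6, 0, 2, 3, 4, 5, 1, 3, 4, 2, 3, 0, 2, 1, 3, 4, 5, 6, 7], [3, 2, 1, 3, 4, 5, 6, 7, 5, 4, 3, 2, 1, 3, 4, 5, 6, 0, 2, 3, 4, 5, 1, 3, 4, 2, 3, 0, 2, 1, 3, 4, 5, 6, 7], [3, 0, 2, 1, 3, 4, 5, 6, 7, 4, 3, 2, 1, 3, 4, 5, 6, 0, 2, 3, 4, 5, 1, 3, 4, 2, 3, 0, 2, 1, 3, 4, 5, 6, 7], [4, 3, 2, 1, 3, 4, 5, 6, 7, 4, 3, 2, 1, 3, 4, 5, 6, 0, 2, 3, 4, 5, 1, 3, 4, 2, 3, 0, 2, 1, 3, 4, 5, 6, 7], [2, 3, 0, 2, 1, 3, 4, 5, 6, 7, 3, 2, 1, 3, 4, 5, 6, 0, 2, 3, 4, 5, 1, 3, 4, 2, 3, 0, 2, 1, 3, 4, 5, 6, 7], [0, 2, 1, 3, 4, 5, 6, 7, 6, 5, 4, 3, 2, 1, 3, 4, 5, 6, 0, 2, 3, 4, 5, 1, 3, 4, 2, 3, 0, 2, 1, 3, 4, 5, 6, 7], [3, 2, 1, 3, 4, 5, 6, 7, 6, 5, 4, 3, 2, 1, 3, 4, 5, 6, 0, 2, 3, 4, 5, 1, 3, 4, 2, 3, 0, 2, 1, 3, 4,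 5, 6, 7], [3, 0, 2, 1, 3, 4, 5, 6, 7, 5, 4, 3, 2, 1, 3, 4, 5, 6, 0, 2, 3, 4, 5, 1, 3, 4, 2, 3, 0, 2, 1, 3, 4, 5, 6, 7], [4, 3, 2, 1, 3, 4, 5, 6, 7, 5, 4, 3, 2, 1, 3, 4, 5, 6, 0, 2, 3, 4, 5, 1, 3, 4, 2, 3, 0, 2, 1, 3, 4, 5, 6, 7], [2, 3, 0, 2, 1, 3, 4, 5, 6, 7, 4, 3, 2, 1, 3, 4, 5, 6, 0, 2, 3, 4, 5, 1, 3, 4, 2, 3, 0, 2, 1, 3, 4, 5, 6, 7], [4, 3, 0, 2, 1, 3, 4, 5, 6, 7, 4, 3, 2, 1, 3, 4, 5, 6, 0, 2, 3, 4, 5, 1, 3, 4, 2, 3, 0, 2, 1, 3, 4, 5, 6, 7], [3, 0, 2, 1, 3, 4, 5, 6, 7, 6, 5, 4, 3, 2, 1, 3, 4, 5, 6, 0, 2, 3, 4, 5, 1, 3, 4, 2, 3, 0, 2, 1, 3, 4, 5, 6, 7], [4, 3, 2, 1, 3, 4, 5, 6, 7, 6, 5, 4, 3, 2, 1, 3, 4, 5, 6, 0, 2, 3, 4, 5, 1, 3, 4, 2, 3, 0, 2, 1, 3, 4, 5, 6, 7], [2, 3, 0, 2, 1, 3, 4, 5, 6, 7, 5, 4, 3, 2, 1, 3, 4, 5, 6, 0, 2, 3, 4, 5, 1, 3, 4, 2, 3, 0, 2, 1, 3,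 4, 5, 6, 7], [4, 3, 0, 2, 1, 3, 4, 5, 6, 7, 5, 4, 3, 2, 1, 3, 4, 5, 6, 0, 2, 3, 4, 5, 1, 3, 4, 2, 3, 0, 2, 1, 3, 4, 5, 6, 7]]
def w8_6 : List (List (Fin 8)) := [[5, 4, 3, 2, 1, 3, 4, 5, 6, 7, 5, 4, 3, 2, 1, 3, 4, 5, 6, 0, 2, 3, 4, 5, 1, 3, 4, 2, 3, 0, 2, 1, 3, 4, 5, 6, 7], [4, 2, 3, 0, 2, 1, 3, 4, 5, 6, 7, 4, 3, 2, 1, 3, 4, 5, 6, 0, 2, 3, 4, 5, 1, 3, 4, 2, 3, 0, 2, 1, 3, 4, 5, 6, 7], [2, 3, 0, 2, 1, 3, 4, 5, 6, 7, 6, 5, 4, 3, 2, 1, 3, 4, 5, 6, 0, 2, 3, 4, 5, 1, 3, 4, 2, 3, 0, 2, 1, 3, 4, 5, 6, 7], [4, 3, 0, 2, 1, 3, 4, 5, 6, 7, 6, 5, 4, 3, 2, 1, 3, 4, 5, 6, 0, 2, 3, 4, 5, 1, 3, 4, 2, 3, 0, 2, 1, 3, 4, 5, 6, 7], [5, 4, 3, 2, 1, 3, 4, 5, 6, 7, 6, 5, 4, 3, 2, 1, 3, 4, 5, 6, 0, 2, 3, 4, 5, 1, 3, 4, 2, 3, 0, 2, 1, 3, 4, 5, 6, 7], [4, 2, 3, 0, 2, 1, 3, 4, 5, 6, 7, 5, 4,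 3, 2, 1, 3, 4, 5, 6, 0, 2, 3, 4, 5, 1, 3, 4, 2, 3, 0, 2, 1, 3, 4, 5, 6, 7], [5, 4, 3, 0, 2, 1, 3, 4, 5, 6, 7, 5, 4, 3, 2, 1, 3, 4, 5, 6, 0, 2, 3, 4, 5, 1, 3, 4, 2, 3, 0, 2, 1, 3, 4, 5, 6, 7], [3, 4, 2, 3, 0, 2, 1, 3, 4, 5, 6, 7, 4, 3, 2, 1, 3, 4, 5, 6, 0, 2, 3, 4, 5, 1, 3, 4, 2, 3, 0, 2, 1, 3, 4, 5, 6, 7], [4, 2, 3, 0, 2, 1, 3, 4, 5, 6, 7, 6, 5, 4, 3, 2, 1, 3, 4, 5, 6, 0, 2, 3, 4, 5, 1, 3, 4, 2, 3, 0, 2, 1, 3, 4, 5, 6, 7], [5, 4, 3, 0, 2, 1, 3, 4, 5, 6, 7, 6, 5, 4, 3, 2, 1, 3, 4, 5, 6, 0, 2, 3, 4, 5, 1, 3, 4, 2, 3, 0, 2, 1, 3, 4, 5, 6, 7], [6, 5, 4, 3, 2, 1, 3, 4, 5, 6, 7, 6, 5, 4, 3, 2, 1, 3, 4, 5, 6, 0, 2, 3, 4, 5, 1, 3, 4, 2, 3, 0, 2, 1, 3, 4, 5, 6, 7], [3, 4, 2, 3, 0, 2, 1, 3, 4, 5, 6, 7, 5, 4, 3, 2, 1, 3, 4, 5, 6, 0, 2, 3, 4, 5, 1, 3, 4, 2, 3, 0, 2, 1, 3, 4, 5,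 6, 7], [5, 4, 2, 3, 0, 2, 1, 3, 4, 5, 6, 7, 5, 4, 3, 2, 1, 3, 4, 5, 6, 0, 2, 3, 4, 5, 1, 3, 4, 2, 3, 0, 2, 1, 3, 4, 5, 6, 7], [1, 3, 4, 2, 3, 0, 2, 1, 3, 4, 5, 6, 7, 4, 3, 2, 1, 3, 4, 5, 6, 0, 2, 3, 4, 5, 1, 3, 4, 2, 3, 0, 2, 1, 3, 4, 5, 6, 7], [3, 4, 2, 3, 0, 2, 1, 3, 4, 5, 6, 7, 6, 5, 4, 3, 2, 1, 3, 4, 5, 6, 0, 2, 3, 4, 5, 1, 3, 4, 2, 3, 0, 2, 1, 3, 4, 5, 6, 7], [5, 4, 2, 3, 0, 2, 1, 3, 4, 5, 6, 7, 6, 5, 4, 3, 2, 1, 3, 4, 5, 6, 0, 2, 3, 4, 5, 1, 3, 4, 2, 3, 0, 2, 1, 3, 4, 5, 6, 7], [6, 5, 4, 3, 0, 2, 1, 3, 4, 5, 6, 7, 6, 5, 4, 3, 2, 1, 3, 4, 5, 6, 0, 2, 3, 4, 5, 1, 3, 4, 2, 3, 0, 2, 1, 3, 4, 5, 6, 7], [1, 3, 4, 2, 3, 0, 2, 1, 3, 4, 5, 6, 7, 5, 4, 3, 2, 1, 3, 4, 5, 6, 0, 2, 3, 4, 5, 1, 3, 4, 2, 3, 0, 2, 1, 3, 4, 5, 6, 7], [5, 3, 4, 2, 3, 0, 2, 1, 3, 4, 5, 6, 7, 5,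 4, 3, 2, 1, 3, 4, 5, 6, 0, 2, 3, 4, 5, 1, 3, 4, 2, 3, 0, 2, 1, 3, 4, 5, 6, 7], [1, 3, 4, 2, 3, 0, 2, 1, 3, 4, 5, 6, 7, 6, 5, 4, 3, 2, 1, 3, 4, 5, 6, 0, 2, 3, 4, 5, 1, 3, 4, 2, 3, 0, 2, 1, 3, 4, 5, 6, 7], [5, 3, 4, 2, 3, 0, 2, 1, 3, 4, 5, 6, 7, 6, 5, 4, 3, 2, 1, 3, 4, 5, 6, 0, 2, 3, 4, 5, 1, 3, 4, 2, 3, 0, 2, 1, 3, 4, 5, 6, 7], [6, 5, 4, 2, 3, 0, 2, 1, 3, 4, 5, 6, 7, 6, 5, 4, 3, 2, 1, 3, 4, 5, 6, 0, 2, 3, 4, 5, 1, 3, 4, 2, 3, 0, 2, 1, 3, 4, 5, 6, 7], [5, 1, 3, 4, 2, 3, 0, 2, 1, 3, 4, 5, 6, 7, 5, 4, 3, 2, 1, 3, 4, 5, 6, 0, 2, 3, 4, 5, 1, 3, 4, 2, 3, 0, 2, 1, 3, 4, 5, 6, 7], [4, 5, 3, 4, 2, 3, 0, 2, 1, 3, 4, 5, 6, 7, 5, 4, 3, 2, 1, 3, 4, 5, 6, 0, 2, 3, 4, 5, 1, 3, 4, 2, 3, 0, 2, 1, 3, 4, 5, 6, 7], [5, 1, 3, 4, 2, 3, 0, 2, 1, 3, 4, 5, 6, 7, 6, 5, 4, 3, 2, 1, 3, 4, 5, 6,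 0, 2, 3, 4, 5, 1, 3, 4, 2, 3, 0, 2, 1, 3, 4, 5, 6, 7], [4, 5, 3, 4, 2, 3, 0, 2, 1, 3, 4, 5, 6, 7, 6, 5, 4, 3, 2, 1, 3, 4, 5, 6, 0, 2, 3, 4, 5, 1, 3, 4, 2, 3, 0, 2, 1, 3, 4, 5, 6, 7], [6, 5, 3, 4, 2, 3, 0, 2, 1, 3, 4, 5, 6, 7, 6, 5, 4, 3, 2, 1, 3, 4, 5, 6, 0, 2, 3, 4, 5, 1, 3, 4, 2, 3, 0, 2, 1, 3, 4, 5, 6, 7], [4, 5, 1, 3, 4, 2, 3, 0, 2, 1, 3, 4, 5, 6, 7, 5, 4, 3, 2, 1, 3, 4, 5, 6, 0, 2, 3, 4, 5, 1, 3, 4, 2, 3, 0, 2, 1, 3, 4, 5, 6, 7], [4, 5, 1, 3, 4, 2, 3, 0, 2, 1, 3, 4, 5, 6, 7, 6, 5, 4, 3, 2, 1, 3, 4, 5, 6, 0, 2, 3, 4, 5, 1, 3, 4, 2, 3, 0, 2, 1, 3, 4, 5, 6, 7], [6, 5, 1, 3, 4, 2, 3, 0, 2, 1, 3, 4, 5, 6, 7, 6, 5, 4, 3, 2, 1, 3, 4, 5, 6, 0, 2, 3, 4, 5, 1, 3, 4, 2, 3, 0, 2, 1, 3, 4, 5, 6, 7]]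
def w8_7 : List (List (Fin 8)) := [[6, 4, 5, 3, 4, 2, 3, 0, 2, 1, 3, 4, 5, 6, 7, 6, 5, 4, 3, 2, 1, 3, 4, 5, 6, 0, 2, 3, 4, 5, 1, 3, 4, 2, 3, 0, 2, 1, 3, 4, 5, 6, 7], [3, 4, 5, 1, 3, 4, 2, 3, 0, 2, 1, 3, 4, 5, 6, 7, 5, 4, 3, 2, 1, 3, 4, 5, 6, 0, 2, 3, 4, 5, 1, 3, 4, 2, 3, 0, 2, 1, 3, 4, 5, 6, 7], [3, 4, 5, 1, 3, 4, 2, 3, 0, 2, 1, 3, 4, 5, 6, 7, 6, 5, 4, 3, 2, 1, 3, 4, 5, 6, 0, 2, 3, 4, 5, 1, 3, 4, 2, 3, 0, 2, 1, 3, 4, 5, 6, 7], [6, 4, 5, 1, 3, 4, 2, 3, 0, 2, 1, 3, 4, 5, 6, 7, 6, 5, 4, 3, 2, 1, 3, 4, 5, 6, 0, 2, 3, 4, 5, 1, 3, 4, 2, 3, 0, 2, 1, 3, 4, 5, 6, 7], [5, 6, 4, 5, 3, 4, 2, 3, 0, 2, 1, 3, 4, 5, 6, 7, 6, 5, 4, 3, 2, 1, 3, 4, 5, 6, 0, 2, 3, 4, 5, 1, 3, 4, 2, 3, 0, 2, 1, 3, 4, 5, 6, 7], [2, 3, 4, 5, 1, 3, 4, 2, 3, 0, 2, 1, 3, 4, 5, 6, 7, 5, 4, 3, 2, 1, 3, 4, 5,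 6, 0, 2, 3, 4, 5, 1, 3, 4, 2, 3, 0, 2, 1, 3, 4, 5, 6, 7], [2, 3, 4, 5, 1, 3, 4, 2, 3, 0, 2, 1, 3, 4, 5, 6, 7, 6, 5, 4, 3, 2, 1, 3, 4, 5, 6, 0, 2, 3, 4, 5, 1, 3, 4, 2, 3, 0, 2, 1, 3, 4, 5, 6, 7], [6, 3, 4, 5, 1, 3, 4, 2, 3, 0, 2, 1, 3, 4, 5, 6, 7, 6, 5, 4, 3, 2, 1, 3, 4, 5, 6, 0, 2, 3, 4, 5, 1, 3, 4, 2, 3, 0, 2, 1, 3, 4, 5, 6, 7], [5, 6, 4, 5, 1, 3, 4, 2, 3, 0, 2, 1, 3, 4, 5, 6, 7, 6, 5, 4, 3, 2, 1, 3, 4, 5, 6, 0, 2, 3, 4, 5, 1, 3, 4, 2, 3, 0, 2, 1, 3, 4, 5, 6, 7], [0, 2, 3, 4, 5, 1, 3, 4, 2, 3, 0, 2, 1, 3, 4, 5, 6, 7, 5, 4, 3, 2, 1, 3, 4, 5, 6, 0, 2, 3, 4, 5, 1, 3, 4, 2, 3, 0, 2, 1, 3, 4, 5, 6, 7], [0, 2, 3, 4, 5, 1, 3, 4, 2, 3, 0, 2, 1, 3, 4, 5, 6, 7, 6, 5, 4, 3, 2, 1, 3, 4, 5, 6, 0, 2, 3, 4, 5, 1, 3, 4, 2, 3, 0, 2, 1, 3, 4, 5, 6, 7], [6, 2, 3, 4, 5, 1, 3, 4, 2, 3,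 0, 2, 1, 3, 4, 5, 6, 7, 6, 5, 4, 3, 2, 1, 3, 4, 5, 6, 0, 2, 3, 4, 5, 1, 3, 4, 2, 3, 0, 2, 1, 3, 4, 5, 6, 7], [5, 6, 3, 4, 5, 1, 3, 4, 2, 3, 0, 2, 1, 3, 4, 5, 6, 7, 6, 5, 4, 3, 2, 1, 3, 4, 5, 6, 0, 2, 3, 4, 5, 1, 3, 4, 2, 3, 0, 2, 1, 3, 4, 5, 6, 7], [6, 0, 2, 3, 4, 5, 1, 3, 4, 2, 3, 0, 2, 1, 3, 4, 5, 6, 7, 6, 5, 4, 3, 2, 1, 3, 4, 5, 6, 0, 2, 3, 4, 5, 1, 3, 4, 2, 3, 0, 2, 1, 3, 4, 5, 6, 7], [5, 6, 2, 3, 4, 5, 1, 3, 4, 2, 3, 0, 2, 1, 3, 4, 5, 6, 7, 6, 5, 4, 3, 2, 1, 3, 4, 5, 6, 0, 2, 3, 4, 5, 1, 3, 4, 2, 3, 0, 2, 1, 3, 4, 5, 6, 7], [4, 5, 6, 3, 4, 5, 1, 3, 4, 2, 3, 0, 2, 1, 3, 4, 5, 6, 7, 6, 5, 4, 3, 2, 1, 3, 4, 5, 6, 0, 2, 3, 4, 5, 1, 3, 4, 2, 3, 0, 2, 1, 3, 4, 5, 6, 7], [5, 6, 0, 2, 3, 4, 5, 1, 3, 4, 2, 3, 0, 2, 1, 3, 4, 5, 6, 7, 6, 5, 4, 3, 2, 1, 3, 4, 5, 6, 0, 2,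 3, 4, 5, 1, 3, 4, 2, 3, 0, 2, 1, 3, 4, 5, 6, 7], [4, 5, 6, 2, 3, 4, 5, 1, 3, 4, 2, 3, 0, 2, 1, 3, 4, 5, 6, 7, 6, 5, 4, 3, 2, 1, 3, 4, 5, 6, 0, 2, 3, 4, 5, 1, 3, 4, 2, 3, 0, 2, 1, 3, 4, 5, 6, 7], [4, 5, 6, 0, 2, 3, 4, 5, 1, 3, 4, 2, 3, 0, 2, 1, 3, 4, 5, 6, 7, 6, 5, 4, 3, 2, 1, 3, 4, 5, 6, 0, 2, 3, 4, 5, 1, 3, 4, 2, 3, 0, 2, 1, 3, 4, 5, 6, 7], [3, 4, 5, 6, 2, 3, 4, 5, 1, 3, 4, 2, 3, 0, 2, 1, 3, 4, 5, 6, 7, 6, 5, 4, 3, 2, 1, 3, 4, 5, 6, 0, 2, 3, 4, 5, 1, 3, 4, 2, 3, 0, 2, 1, 3, 4, 5, 6, 7], [3, 4, 5, 6, 0, 2, 3, 4, 5, 1, 3, 4, 2, 3, 0, 2, 1, 3, 4, 5, 6, 7, 6, 5, 4, 3, 2, 1, 3, 4, 5, 6, 0, 2, 3, 4, 5, 1, 3, 4, 2, 3, 0, 2, 1, 3, 4, 5, 6, 7], [1, 3, 4, 5, 6, 2, 3, 4, 5, 1, 3, 4, 2, 3, 0, 2, 1, 3, 4, 5, 6, 7, 6, 5, 4, 3, 2, 1, 3, 4, 5, 6, 0, 2, 3, 4, 5, 1, 3, 4, 2, 3, 0,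 2, 1, 3, 4, 5, 6, 7], [1, 3, 4, 5, 6, 0, 2, 3, 4, 5, 1, 3, 4, 2, 3, 0, 2, 1, 3, 4, 5, 6, 7, 6, 5, 4, 3, 2, 1, 3, 4, 5, 6, 0, 2, 3, 4, 5, 1, 3, 4, 2, 3, 0, 2, 1, 3, 4, 5, 6, 7], [2, 3, 4, 5, 6, 0, 2, 3, 4, 5, 1, 3, 4, 2, 3, 0, 2, 1, 3, 4, 5, 6, 7, 6, 5, 4, 3, 2, 1, 3, 4, 5, 6, 0, 2, 3, 4, 5, 1, 3, 4, 2, 3, 0, 2, 1, 3, 4, 5, 6, 7], [2, 1, 3, 4, 5, 6, 0, 2, 3, 4, 5, 1, 3, 4, 2, 3, 0, 2, 1, 3, 4, 5, 6, 7, 6, 5, 4, 3, 2, 1, 3, 4, 5, 6, 0, 2, 3, 4, 5, 1, 3, 4, 2, 3, 0, 2, 1, 3, 4, 5, 6, 7], [3, 2, 1, 3, 4, 5, 6, 0, 2, 3, 4, 5, 1, 3, 4, 2, 3, 0, 2, 1, 3, 4, 5, 6, 7, 6, 5, 4, 3, 2, 1, 3, 4, 5, 6, 0, 2, 3, 4, 5, 1, 3, 4, 2, 3, 0, 2, 1, 3, 4, 5, 6, 7], [4, 3, 2, 1, 3, 4, 5, 6, 0, 2, 3, 4, 5, 1, 3, 4, 2, 3, 0, 2, 1, 3, 4, 5, 6, 7, 6, 5, 4, 3, 2, 1, 3, 4, 5, 6, 0, 2, 3, 4, 5,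 1, 3, 4, 2, 3, 0, 2, 1, 3, 4, 5, 6, 7], [5, 4, 3, 2, 1, 3, 4, 5, 6, 0, 2, 3, 4, 5, 1, 3, 4, 2, 3, 0, 2, 1, 3, 4, 5, 6, 7, 6, 5, 4, 3, 2, 1, 3, 4, 5, 6, 0, 2, 3, 4, 5, 1, 3, 4, 2, 3, 0, 2, 1, 3, 4, 5, 6, 7], [6, 5, 4, 3, 2, 1, 3, 4, 5, 6, 0, 2, 3, 4, 5, 1, 3, 4, 2, 3, 0, 2, 1, 3, 4, 5, 6, 7, 6, 5, 4, 3, 2, 1, 3, 4, 5, 6, 0, 2, 3, 4, 5, 1, 3, 4, 2, 3, 0, 2, 1, 3, 4, 5, 6, 7], [7, 6, 5, 4, 3, 2, 1, 3, 4, 5, 6, 0, 2, 3, 4, 5, 1, 3, 4, 2, 3, 0, 2, 1, 3, 4, 5, 6, 7, 6, 5, 4, 3, 2, 1, 3, 4, 5, 6, 0, 2, 3, 4, 5, 1, 3, 4, 2, 3, 0, 2, 1, 3, 4, 5, 6, 7]]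
def t8_0 : List (List (ℕ × List (Fin 8))) := [[(0, [0]), (0, [1]), (0, [2]), (0, [3]), (0, [4]), (0, [5]), (0, [6]), (1, [])], [(1, [0]), (1, [1]), (1, [2]), (1, [3]), (1, [4]), (1, [5]), (2, []), (0, [])], [(2, [0]), (2, [1]), (2, [2]), (2, [3]), (2, [4]), (3, []), (1, []), (2, [6])], [(3, [0]), (3, [1]), (3, [2]), (3, [3]), (4, []), (2, []), (3, [5]), (3, [6])], [(4, [0]), (4, [1]), (4, [2]), (5, []), (3, []), (4, [4]), (4, [5]), (4, [6])], [(5, [0]), (6, []), (7, []), (4, []), (5, [3]), (5, [4]), (5, [5]), (5, [6])], [(6, [0]), (5, []), (8, []), (6, [1]), (6, [3]), (6, [4]), (6, [5]), (6, [6])], [(9, []), (8, []), (5, []), (7, [2]), (7, [3]), (7, [4]), (7, [5]), (7, [6])], [(10, []), (7, []), (6, []), (11, []), (8, [3]), (8, [4]), (8, [5]), (8, [6])], [(7, []),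 (10, []), (9, [0]), (9, [2]), (9, [3]), (9, [4]), (9, [5]), (9, [6])], [(8, []), (9, []), (10, [0]), (12, []), (10, [3]), (10, [4]), (10, [5]), (10, [6])], [(12, []), (11, [2]), (11, [1]), (8, []), (13, []), (11, [4]), (11, [5]), (11, [6])], [(11, []), (12, [2]), (14, []), (10, []), (15, []), (12, [4]), (12, [5]), (12, [6])], [(15, []), (13, [2]), (13, [1]), (13, [3]), (11, []), (16, []), (13, [5]), (13, [6])], [(14, [1]), (14, [2]), (12, []), (14, [0]), (17, []), (14, [4]), (14, [5]), (14, [6])], [(13, []), (15, [2]), (17, []), (15, [3]), (12, []), (18, []), (15, [5]), (15, [6])], [(18, []), (16, [2]), (16, [1]), (16, [3]), (16, [4]), (13, []), (19, []), (16, [6])], [(17, [1]), (17, [2]), (15, []), (20, []), (14, []), (21, []), (17, [5]), (17, [6])], [(16, []), (18,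 [2]), (21, []), (18, [3]), (18, [4]), (15, []), (22, []), (18, [6])], [(22, []), (19, [2]), (19, [1]), (19, [3]), (19, [4]), (19, [5]), (16, []), (23, [])], [(20, [1]), (24, []), (20, [3]), (17, []), (20, [0]), (25, []), (20, [5]), (20, [6])], [(21, [1]), (21, [2]), (18, []), (25, []), (21, [4]), (17, []), (26, []), (21, [6])], [(19, []), (22, [2]), (26, []), (22, [3]), (22, [4]), (22, [5]), (18, []), (27, [])], [(27, []), (23, [2]), (23, [1]), (23, [3]), (23, [4]), (23, [5]), (23, [6]), (19, [])], [(24, [1]), (20, []), (24, [3]), (24, [2]), (24, [0]), (28, []), (24, [5]), (24, [6])], [(25, [1]), (28, []), (25, [3]), (21, []), (29, []), (20, []), (30, []), (25, [6])], [(26, [1]), (26, [2]), (22, []), (30, []), (26, [4]), (26, [5]), (21, []), (31, [])], [(23, []), (27,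 [2]), (31, []), (27, [3]), (27, [4]), (27, [5]), (27, [6]), (22, [])], [(28, [1]), (25, []), (28, [3]), (28, [2]), (32, []), (24, []), (33, []), (28, [6])], [(29, [1]), (32, []), (29, [3]), (29, [4]), (25, []), (29, [0]), (34, []), (29, [6])]]
def t8_1 : List (List (ℕ × List (Fin 8))) := [[(30, [1]), (33, []), (30, [3]), (26, []), (34, []), (30, [5]), (25, []), (35, [])], [(31, [1]), (31, [2]), (27, []), (35, []), (31, [4]), (31, [5]), (31, [6]), (26, [])], [(32, [1]), (29, []), (32, [3]), (36, []), (28, []), (32, [0]), (37, []), (32, [6])], [(33, [1]), (30, []), (33, [3]), (33, [2]), (37, []), (33, [5]), (28, []), (38, [])], [(34, [1]), (37, []), (34, [3]), (34, [4]), (30, []), (39, []), (29, []), (40, [])], [(35, [1]), (38, []), (35, [3]), (31, []), (40, []), (35,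 [5]), (35, [6]), (30, [])], [(36, [1]), (36, [4]), (41, []), (32, []), (36, [2]), (36, [0]), (42, []), (36, [6])], [(37, [1]), (34, []), (37, [3]), (42, []), (33, []), (43, []), (32, []), (44, [])], [(38, [1]), (35, []), (38, [3]), (38, [2]), (44, []), (38, [5]), (38, [6]), (33, [])], [(39, [1]), (43, []), (39, [3]), (39, [4]), (39, [5]), (34, []), (39, [0]), (45, [])], [(40, [1]), (44, []), (40, [3]), (40, [4]), (35, []), (45, []), (40, [6]), (34, [])], [(46, []), (41, [4]), (36, []), (41, [3]), (41, [2]), (41, [0]), (47, []), (41, [6])], [(42, [1]), (42, [4]), (47, []), (37, []), (42, [2]), (48, []), (36, []), (49, [])], [(43, [1]), (39, []), (43, [3]), (48, []), (43, [5]), (37, []), (43, [0]), (50, [])], [(44, [1]), (40, []), (44, [3]), (49, []), (38, []), (50,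 []), (44, [6]), (37, [])], [(45, [1]), (50, []), (45, [3]), (45, [4]), (45, [5]), (40, []), (51, []), (39, [])], [(41, []), (46, [4]), (46, [1]), (46, [3]), (46, [2]), (46, [0]), (52, []), (46, [6])], [(52, []), (47, [4]), (42, []), (47, [3]), (47, [2]), (53, []), (41, []), (54, [])], [(48, [1]), (48, [4]), (53, []), (43, []), (55, []), (42, []), (48, [0]), (56, [])], [(49, [1]), (49, [4]), (54, []), (44, []), (49, [2]), (56, []), (49, [6]), (42, [])], [(50, [1]), (45, []), (50, [3]), (56, []), (50, [5]), (44, []), (57, []), (43, [])], [(51, [1]), (57, []), (51, [3]), (51, [4]), (51, [5]), (51, [6]), (45, []), (51, [0])], [(47, []), (52, [4]), (52, [1]), (52, [3]), (52, [2]), (58, []), (46, []), (59, [])], [(58, []), (53, [4]), (48, []), (53, [3]), (60, []), (47, []),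 (53, [0]), (61, [])], [(59, []), (54, [4]), (49, []), (54, [3]), (54, [2]), (61, []), (54, [6]), (47, [])], [(55, [1]), (55, [4]), (60, []), (55, [5]), (48, []), (55, [2]), (55, [0]), (62, [])], [(56, [1]), (56, [4]), (61, []), (50, []), (62, []), (49, []), (63, []), (48, [])], [(57, [1]), (51, []), (57, [3]), (63, []), (57, [5]), (57, [6]), (50, []), (57, [0])], [(53, []), (58, [4]), (58, [1]), (58, [3]), (64, []), (52, []), (58, [0]), (65, [])], [(54, []), (59, [4]), (59, [1]), (59, [3]), (59, [2]), (65, []), (59, [6]), (52, [])]]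
def t8_2 : List (List (ℕ × List (Fin 8))) := [[(64, []), (60, [4]), (55, []), (66, []), (53, []), (60, [2]), (60, [0]), (67, [])], [(65, []), (61, [4]), (56, []), (61, [3]), (67, []), (54, []), (68, []), (53, [])], [(62, [1]), (62, [4]), (67, []), (62, [5]), (56, []), (62, [2]), (69, []), (55, [])], [(63, [1]), (63, [4]), (68, []), (57, []), (69, []), (63, [6]), (56, []), (63, [0])], [(60, []), (64, [4]), (64, [1]), (70, []), (58, []), (64, [2]), (64, [0]), (71, [])], [(61, []), (65, [4]), (65, [1]), (65, [3]), (71, []), (59, []), (72, []), (58, [])], [(70, []), (73, []), (66, [5]), (60, []), (66, [3]), (66, [2]), (66, [0]), (74, [])], [(71, []), (67, [4]), (62, []), (74, []), (61, []), (67, [2]), (75, []), (60, [])], [(72, []), (68, [4]), (63, []), (68, [3]), (75,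 []), (68, [6]), (61, []), (68, [0])], [(69, [1]), (69, [4]), (75, []), (69, [5]), (63, []), (76, []), (62, []), (69, [0])], [(66, []), (77, []), (78, []), (64, []), (70, [3]), (70, [2]), (70, [0]), (79, [])], [(67, []), (71, [4]), (71, [1]), (79, []), (65, []), (71, [2]), (80, []), (64, [])], [(68, []), (72, [4]), (72, [1]), (72, [3]), (80, []), (72, [6]), (65, []), (72, [0])], [(77, []), (66, []), (73, [5]), (73, [4]), (73, [3]), (73, [2]), (73, [0]), (81, [])], [(79, []), (81, []), (74, [5]), (67, []), (74, [3]), (74, [2]), (82, []), (66, [])], [(80, []), (75, [4]), (69, []), (82, []), (68, []), (83, []), (67, []), (75, [0])], [(76, [1]), (76, [4]), (83, []), (76, [5]), (76, [6]), (69, []), (76, [2]), (76, [0])], [(73, []), (70, []), (84, []), (77, [4]), (77, [3]),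 (77, [2]), (77, [0]), (85, [])], [(78, [5]), (84, []), (70, []), (78, [1]), (78, [3]), (78, [2]), (78, [0]), (86, [])], [(74, []), (85, []), (86, []), (71, []), (79, [3]), (79, [2]), (87, []), (70, [])], [(75, []), (80, [4]), (80, [1]), (87, []), (72, []), (88, []), (71, []), (80, [0])], [(85, []), (74, []), (81, [5]), (81, [4]), (81, [3]), (81, [2]), (89, []), (73, [])], [(87, []), (89, []), (82, [5]), (75, []), (82, [3]), (90, []), (74, []), (82, [0])], [(88, []), (83, [4]), (76, []), (90, []), (83, [6]), (75, []), (83, [2]), (83, [0])], [(84, [5]), (78, []), (77, []), (91, []), (84, [3]), (84, [2]), (84, [0]), (92, [])], [(81, []), (79, []), (92, []), (85, [4]), (85, [3]), (85, [2]), (93, []), (77, [])], [(86, [5]), (92, []), (79, []), (86, [1]), (86, [3]), (86,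 [2]), (94, []), (78, [])], [(82, []), (93, []), (94, []), (80, []), (87, [3]), (95, []), (79, []), (87, [0])], [(83, []), (88, [4]), (88, [1]), (95, []), (88, [6]), (80, []), (88, [2]), (88, [0])], [(93, []), (82, []), (89, [5]), (89, [4]), (89, [3]), (96, []), (81, []), (89, [0])]]
def t8_3 : List (List (ℕ × List (Fin 8))) := [[(95, []), (96, []), (90, [5]), (83, []), (97, []), (82, []), (90, [2]), (90, [0])], [(91, [5]), (91, [1]), (91, [4]), (84, []), (98, []), (91, [2]), (91, [0]), (99, [])], [(92, [5]), (86, []), (85, []), (99, []), (92, [3]), (92, [2]), (100, []), (84, [])], [(89, []), (87, []), (100, []), (93, [4]), (93, [3]), (101, []), (85, []), (93, [0])], [(94, [5]), (100, []), (87, []), (94, [1]), (94, [3]), (102, []), (86, []), (94, [0])], [(90, []), (101,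 []), (102, []), (88, []), (103, []), (87, []), (95, [2]), (95, [0])], [(101, []), (90, []), (96, [5]), (96, [4]), (104, []), (89, []), (96, [2]), (96, [0])], [(103, []), (104, []), (97, [5]), (97, [6]), (90, []), (97, [3]), (97, [2]), (97, [0])], [(98, [5]), (98, [1]), (98, [4]), (98, [3]), (91, []), (105, []), (98, [0]), (106, [])], [(99, [5]), (99, [1]), (99, [4]), (92, []), (106, []), (99, [2]), (107, []), (91, [])], [(100, [5]), (94, []), (93, []), (107, []), (100, [3]), (108, []), (92, []), (100, [0])], [(96, []), (95, []), (108, []), (101, [4]), (109, []), (93, []), (101, [2]), (101, [0])], [(102, [5]), (108, []), (95, []), (102, [1]), (110, []), (94, []), (102, [2]), (102, [0])], [(97, []), (109, []), (110, []), (103, [6]), (95, []), (103, [3]), (103, [2]),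 (103, [0])], [(109, []), (97, []), (104, [5]), (111, []), (96, []), (104, [3]), (104, [2]), (104, [0])], [(105, [5]), (105, [1]), (105, [4]), (105, [3]), (105, [2]), (98, []), (112, []), (113, [])], [(106, [5]), (106, [1]), (106, [4]), (106, [3]), (99, []), (113, []), (114, []), (98, [])], [(107, [5]), (107, [1]), (107, [4]), (100, []), (114, []), (115, []), (99, []), (107, [0])], [(108, [5]), (102, []), (101, []), (115, []), (116, []), (100, []), (108, [2]), (108, [0])], [(104, []), (103, []), (116, []), (117, []), (101, []), (109, [3]), (109, [2]), (109, [0])], [(110, [5]), (116, []), (103, []), (118, []), (102, []), (110, [3]), (110, [2]), (110, [0])], [(117, []), (111, [6]), (119, []), (104, []), (111, [4]), (111, [3]), (111, [2]), (111, [0])], [(112, [5]), (112,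 [1]), (112, [4]), (112, [3]), (112, [2]), (112, [0]), (105, []), (120, [])], [(113, [5]), (113, [1]), (113, [4]), (113, [3]), (113, [2]), (106, []), (121, []), (105, [])], [(114, [5]), (114, [1]), (114, [4]), (114, [3]), (107, []), (122, []), (106, []), (114, [0])], [(115, [5]), (115, [1]), (115, [4]), (108, []), (123, []), (107, []), (115, [2]), (115, [0])], [(116, [5]), (110, []), (109, []), (124, []), (108, []), (116, [3]), (116, [2]), (116, [0])], [(111, []), (117, [6]), (125, []), (109, []), (117, [4]), (117, [3]), (117, [2]), (117, [0])], [(118, [5]), (126, []), (118, [6]), (110, []), (118, [1]), (118, [3]), (118, [2]), (118, [0])], [(127, []), (119, [6]), (111, []), (119, [5]), (119, [4]), (119, [3]), (119, [2]), (119, [0])]]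
def t8_4 : List (List (ℕ × List (Fin 8))) := [[(120, [5]), (120, [1]), (120, [4]), (120, [3]), (120, [2]), (120, [0]), (128, []), (112, [])], [(121, [5]), (121, [1]), (121, [4]), (121, [3]), (121, [2]), (129, []), (113, []), (128, [])], [(122, [5]), (122, [1]), (122, [4]), (122, [3]), (130, []), (114, []), (129, []), (122, [0])], [(123, [5]), (123, [1]), (123, [4]), (131, []), (115, []), (130, []), (123, [2]), (123, [0])], [(124, [5]), (132, []), (133, []), (116, []), (131, []), (124, [3]), (124, [2]), (124, [0])], [(134, []), (125, [6]), (117, []), (133, []), (125, [4]), (125, [3]), (125, [2]), (125, [0])], [(126, [5]), (118, []), (126, [6]), (132, []), (126, [1]), (126, [3]), (126, [2]), (126, [0])], [(119, []), (127, [6]), (134, []), (127, [5]), (127, [4]), (127,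 [3]), (127, [2]), (127, [0])], [(128, [5]), (128, [1]), (128, [4]), (128, [3]), (128, [2]), (135, []), (120, []), (121, [])], [(129, [5]), (129, [1]), (129, [4]), (129, [3]), (136, []), (121, []), (122, []), (135, [])], [(130, [5]), (130, [1]), (130, [4]), (137, []), (122, []), (123, []), (136, []), (130, [0])], [(131, [5]), (138, []), (139, []), (123, []), (124, []), (137, []), (131, [2]), (131, [0])], [(132, [5]), (124, []), (140, []), (126, []), (138, []), (132, [3]), (132, [2]), (132, [0])], [(141, []), (140, []), (124, []), (125, []), (139, []), (133, [3]), (133, [2]), (133, [0])], [(125, []), (134, [6]), (127, []), (141, []), (134, [4]), (134, [3]), (134, [2]), (134, [0])], [(135, [5]), (135, [1]), (135, [4]), (135, [3]), (142, []), (128, []), (135, [0]), (129,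 [])], [(136, [5]), (136, [1]), (136, [4]), (143, []), (129, []), (136, [2]), (130, []), (142, [])], [(137, [5]), (144, []), (145, []), (130, []), (137, [3]), (131, []), (143, []), (137, [0])], [(138, [5]), (131, []), (146, []), (138, [1]), (132, []), (144, []), (138, [2]), (138, [0])], [(147, []), (146, []), (131, []), (139, [4]), (133, []), (145, []), (139, [2]), (139, [0])], [(148, []), (133, []), (132, []), (140, [6]), (146, []), (140, [3]), (140, [2]), (140, [0])], [(133, []), (148, []), (141, [5]), (134, []), (147, []), (141, [3]), (141, [2]), (141, [0])], [(142, [5]), (142, [1]), (142, [4]), (149, []), (135, []), (142, [2]), (142, [0]), (136, [])], [(143, [5]), (150, []), (151, []), (136, []), (143, [3]), (143, [2]), (137, []), (149, [])], [(144, [5]), (137,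 []), (152, []), (144, [1]), (144, [3]), (138, []), (150, []), (144, [0])], [(153, []), (152, []), (137, []), (145, [4]), (145, [3]), (139, []), (151, []), (145, [0])], [(154, []), (139, []), (138, []), (155, []), (140, []), (152, []), (146, [2]), (146, [0])], [(139, []), (154, []), (147, [5]), (147, [4]), (141, []), (153, []), (147, [2]), (147, [0])], [(140, []), (141, []), (148, [5]), (148, [6]), (154, []), (148, [3]), (148, [2]), (148, [0])], [(149, [5]), (156, []), (157, []), (142, []), (149, [3]), (149, [2]), (149, [0]), (143, [])]]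
def t8_5 : List (List (ℕ × List (Fin 8))) := [[(150, [5]), (143, []), (158, []), (150, [1]), (150, [3]), (150, [2]), (144, []), (156, [])], [(159, []), (158, []), (143, []), (151, [4]), (151, [3]), (151, [2]), (145, []), (157, [])], [(160, []), (145, []), (144, []), (161, []), (152, [3]), (146, []), (158, []), (152, [0])], [(145, []), (160, []), (153, [5]), (153, [4]), (153, [3]), (147, []), (159, []), (153, [0])], [(146, []), (147, []), (154, [5]), (162, []), (148, []), (160, []), (154, [2]), (154, [0])], [(162, []), (155, [4]), (155, [1]), (146, []), (155, [6]), (161, []), (155, [2]), (155, [0])], [(156, [5]), (149, []), (163, []), (156, [1]), (156, [3]), (156, [2]), (156, [0]), (150, [])], [(164, []), (163, []), (149, []), (157, [4]), (157, [3]), (157, [2]), (157,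 [0]), (151, [])], [(165, []), (151, []), (150, []), (166, []), (158, [3]), (158, [2]), (152, []), (163, [])], [(151, []), (165, []), (159, [5]), (159, [4]), (159, [3]), (159, [2]), (153, []), (164, [])], [(152, []), (153, []), (160, [5]), (167, []), (160, [3]), (154, []), (165, []), (160, [0])], [(167, []), (161, [4]), (161, [1]), (152, []), (168, []), (155, []), (166, []), (161, [0])], [(155, []), (162, [4]), (169, []), (154, []), (162, [6]), (167, []), (162, [2]), (162, [0])], [(170, []), (157, []), (156, []), (171, []), (163, [3]), (163, [2]), (163, [0]), (158, [])], [(157, []), (170, []), (164, [5]), (164, [4]), (164, [3]), (164, [2]), (164, [0]), (159, [])], [(158, []), (159, []), (165, [5]), (172, []), (165, [3]), (165, [2]), (160, []), (170, [])], [(172, []),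 (166, [4]), (166, [1]), (158, []), (173, []), (166, [2]), (161, []), (171, [])], [(161, []), (167, [4]), (174, []), (160, []), (175, []), (162, []), (172, []), (167, [0])], [(175, []), (168, [4]), (168, [1]), (168, [3]), (161, []), (168, [6]), (173, []), (168, [0])], [(169, [1]), (169, [4]), (162, []), (169, [5]), (169, [6]), (174, []), (169, [2]), (169, [0])], [(163, []), (164, []), (170, [5]), (176, []), (170, [3]), (170, [2]), (170, [0]), (165, [])], [(176, []), (171, [4]), (171, [1]), (163, []), (177, []), (171, [2]), (171, [0]), (166, [])], [(166, []), (172, [4]), (178, []), (165, []), (179, []), (172, [2]), (167, []), (176, [])], [(179, []), (173, [4]), (173, [1]), (173, [3]), (166, []), (180, []), (168, []), (177, [])], [(174, [1]), (174, [4]), (167, []), (174,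 [5]), (181, []), (169, []), (178, []), (174, [0])], [(168, []), (175, [4]), (181, []), (175, [3]), (167, []), (175, [6]), (179, []), (175, [0])], [(171, []), (176, [4]), (182, []), (170, []), (183, []), (176, [2]), (176, [0]), (172, [])], [(183, []), (177, [4]), (177, [1]), (177, [3]), (171, []), (184, []), (177, [0]), (173, [])], [(178, [1]), (178, [4]), (172, []), (178, [5]), (185, []), (178, [2]), (174, []), (182, [])], [(173, []), (179, [4]), (185, []), (179, [3]), (172, []), (186, []), (175, []), (183, [])]]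
def t8_6 : List (List (ℕ × List (Fin 8))) := [[(186, []), (180, [4]), (180, [1]), (180, [3]), (180, [2]), (173, []), (180, [6]), (184, [])], [(181, [1]), (181, [4]), (175, []), (187, []), (174, []), (181, [6]), (185, []), (181, [0])], [(182, [1]), (182, [4]), (176, []), (182, [5]), (188, []), (182, [2]), (182, [0]), (178, [])], [(177, []), (183, [4]), (188, []), (183, [3]), (176, []), (189, []), (183, [0]), (179, [])], [(189, []), (184, [4]), (184, [1]), (184, [3]), (184, [2]), (177, []), (190, []), (180, [])], [(185, [1]), (185, [4]), (179, []), (191, []), (178, []), (192, []), (181, []), (188, [])], [(180, []), (186, [4]), (192, []), (186, [3]), (186, [2]), (179, []), (186, [6]), (189, [])], [(187, [1]), (193, []), (187, [3]), (181, []), (187, [5]), (187, [6]), (191,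 []), (187, [0])], [(188, [1]), (188, [4]), (183, []), (194, []), (182, []), (195, []), (188, [0]), (185, [])], [(184, []), (189, [4]), (195, []), (189, [3]), (189, [2]), (183, []), (196, []), (186, [])], [(196, []), (190, [4]), (190, [1]), (190, [3]), (190, [2]), (190, [0]), (184, []), (190, [6])], [(191, [1]), (197, []), (191, [3]), (185, []), (191, [5]), (198, []), (187, []), (194, [])], [(192, [1]), (192, [4]), (186, []), (198, []), (192, [2]), (185, []), (192, [6]), (195, [])], [(193, [1]), (187, []), (193, [3]), (193, [4]), (193, [5]), (193, [6]), (197, []), (193, [0])], [(194, [1]), (199, []), (194, [3]), (188, []), (194, [5]), (200, []), (194, [0]), (191, [])], [(195, [1]), (195, [4]), (189, []), (200, []), (195, [2]), (188, []), (201, []), (192, [])], [(190,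 []), (196, [4]), (201, []), (196, [3]), (196, [2]), (196, [0]), (189, []), (196, [6])], [(197, [1]), (191, []), (197, [3]), (197, [4]), (197, [5]), (202, []), (193, []), (199, [])], [(198, [1]), (202, []), (198, [3]), (192, []), (203, []), (191, []), (198, [6]), (200, [])], [(199, [1]), (194, []), (199, [3]), (199, [4]), (199, [5]), (204, []), (199, [0]), (197, [])], [(200, [1]), (204, []), (200, [3]), (195, []), (205, []), (194, []), (206, []), (198, [])], [(201, [1]), (201, [4]), (196, []), (206, []), (201, [2]), (201, [0]), (195, []), (201, [6])], [(202, [1]), (198, []), (202, [3]), (202, [4]), (207, []), (197, []), (202, [6]), (204, [])], [(203, [1]), (207, []), (203, [3]), (203, [2]), (198, []), (203, [5]), (203, [6]), (205, [])], [(204, [1]), (200, []), (204,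 [3]), (204, [4]), (208, []), (199, []), (209, []), (202, [])], [(205, [1]), (208, []), (205, [3]), (205, [2]), (200, []), (205, [5]), (210, []), (203, [])], [(206, [1]), (209, []), (206, [3]), (201, []), (210, []), (206, [0]), (200, []), (206, [6])], [(207, [1]), (203, []), (207, [3]), (211, []), (202, []), (207, [5]), (207, [6]), (208, [])], [(208, [1]), (205, []), (208, [3]), (212, []), (204, []), (208, [5]), (213, []), (207, [])], [(209, [1]), (206, []), (209, [3]), (209, [4]), (213, []), (209, [0]), (204, []), (209, [6])]]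
def t8_7 : List (List (ℕ × List (Fin 8))) := [[(210, [1]), (213, []), (210, [3]), (210, [2]), (206, []), (214, []), (205, []), (210, [6])], [(211, [1]), (211, [2]), (215, []), (207, []), (211, [4]), (211, [5]), (211, [6]), (212, [])], [(212, [1]), (212, [2]), (216, []), (208, []), (212, [4]), (212, [5]), (217, []), (211, [])], [(213, [1]), (210, []), (213, [3]), (217, []), (209, []), (218, []), (208, []), (213, [6])], [(214, [1]), (218, []), (214, [3]), (214, [2]), (214, [0]), (210, []), (214, [5]), (214, [6])], [(219, []), (215, [2]), (211, []), (215, [3]), (215, [4]), (215, [5]), (215, [6]), (216, [])], [(220, []), (216, [2]), (212, []), (216, [3]), (216, [4]), (216, [5]), (221, []), (215, [])], [(217, [1]), (217, [2]), (221, []), (213, []), (217, [4]), (222, []),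 (212, []), (217, [6])], [(218, [1]), (214, []), (218, [3]), (222, []), (218, [0]), (213, []), (218, [5]), (218, [6])], [(215, []), (219, [2]), (219, [1]), (219, [3]), (219, [4]), (219, [5]), (219, [6]), (220, [])], [(216, []), (220, [2]), (220, [1]), (220, [3]), (220, [4]), (220, [5]), (223, []), (219, [])], [(223, []), (221, [2]), (217, []), (221, [3]), (221, [4]), (224, []), (216, []), (221, [6])], [(222, [1]), (222, [2]), (224, []), (218, []), (225, []), (217, []), (222, [5]), (222, [6])], [(221, []), (223, [2]), (223, [1]), (223, [3]), (223, [4]), (226, []), (220, []), (223, [6])], [(226, []), (224, [2]), (222, []), (224, [3]), (227, []), (221, []), (224, [5]), (224, [6])], [(225, [1]), (225, [2]), (227, []), (225, [0]), (222, []), (225, [4]), (225, [5]), (225,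 [6])], [(224, []), (226, [2]), (226, [1]), (226, [3]), (228, []), (223, []), (226, [5]), (226, [6])], [(228, []), (227, [2]), (225, []), (229, []), (224, []), (227, [4]), (227, [5]), (227, [6])], [(227, []), (228, [2]), (228, [1]), (230, []), (226, []), (228, [4]), (228, [5]), (228, [6])], [(230, []), (231, []), (229, [0]), (227, []), (229, [3]), (229, [4]), (229, [5]), (229, [6])], [(229, []), (232, []), (233, []), (228, []), (230, [3]), (230, [4]), (230, [5]), (230, [6])], [(232, []), (229, []), (231, [0]), (231, [2]), (231, [3]), (231, [4]), (231, [5]), (231, [6])], [(231, []), (230, []), (234, []), (232, [2]), (232, [3]), (232, [4]), (232, [5]), (232, [6])], [(233, [0]), (234, []), (230, []), (233, [1]), (233, [3]), (233, [4]), (233, [5]), (233, [6])], [(234, [0]),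 (233, []), (232, []), (235, []), (234, [3]), (234, [4]), (234, [5]), (234, [6])], [(235, [0]), (235, [1]), (235, [2]), (234, []), (236, []), (235, [4]), (235, [5]), (235, [6])], [(236, [0]), (236, [1]), (236, [2]), (236, [3]), (235, []), (237, []), (236, [5]), (236, [6])], [(237, [0]), (237, [1]), (237, [2]), (237, [3]), (237, [4]), (236, []), (238, []), (237, [6])], [(238, [0]), (238, [1]), (238, [2]), (238, [3]), (238, [4]), (238, [5]), (237, []), (239, [])], [(239, [0]), (239, [1]), (239, [2]), (239, [3]), (239, [4]), (239, [5]), (239, [6]), (238, [])]]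
def r8_0 : List (List ℕ) := [[1, 1, 1, 1, 1, 1, 1, 2], [3, 3, 3, 3, 3, 3, 4, 2], [5, 5, 5, 5, 5, 6, 4, 5], [7, 7, 7, 7, 8, 6, 7, 7], [9, 9, 9, 10, 8, 9, 9, 9], [11, 12, 12, 10, 11, 11, 11, 11], [13, 12, 14, 13, 13, 13, 13, 13], [14, 15, 12, 13, 13, 13, 13, 13], [16, 15, 14, 16, 15, 15, 15, 15], [14, 17, 15, 15, 15, 15, 15, 15], [16, 17, 17, 18, 17, 17, 17, 17], [19, 17, 17, 16, 18, 17, 17, 17], [19, 19, 20, 18, 20, 19, 19, 19], [21, 19, 19, 19, 18, 20, 19, 19], [21, 21, 20, 21, 22, 21, 21, 21], [21, 21, 23, 21, 20, 22, 21, 21], [23, 21, 21, 21, 21, 20, 22, 21], [23, 23, 23, 24, 22, 24, 23, 23], [23, 23, 25, 23, 23, 22, 24, 23], [25, 23, 23, 23, 23, 23, 22, 24], [25, 26, 25, 24, 25, 26, 25, 25], [25, 25, 25, 27, 25, 24, 26, 25], [25, 25, 27, 25, 25, 25, 24, 26], [27,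 25, 25, 25, 25, 25, 25, 24], [27, 26, 27, 27, 27, 28, 27, 27], [27, 29, 27, 27, 28, 26, 28, 27], [27, 27, 27, 29, 27, 27, 26, 28], [27, 27, 29, 27, 27, 27, 27, 26], [29, 29, 29, 29, 30, 28, 30, 29], [29, 31, 29, 29, 28, 29, 30, 29]]
def r8_1 : List (List ℕ) := [[29, 31, 29, 29, 31, 29, 28, 30], [29, 29, 29, 31, 29, 29, 29, 28], [31, 31, 31, 32, 30, 31, 32, 31], [31, 31, 31, 31, 33, 31, 30, 32], [31, 33, 31, 31, 31, 32, 30, 32], [31, 33, 31, 31, 33, 31, 31, 30], [33, 33, 34, 32, 33, 33, 34, 33], [33, 33, 33, 35, 33, 34, 32, 34], [33, 33, 33, 33, 35, 33, 33, 32], [33, 35, 33, 33, 33, 32, 33, 34], [33, 35, 33, 33, 33, 35, 33, 32], [36, 35, 34, 35, 35, 35, 36, 35], [35, 35, 37, 35, 35, 36, 34, 36], [35, 35, 35, 37, 35, 34, 35, 36], [35, 35, 35, 37, 35, 37, 35, 34], [35,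 37, 35, 35, 35, 35, 36, 34], [36, 37, 37, 37, 37, 37, 38, 37], [39, 37, 37, 37, 37, 38, 36, 38], [37, 37, 39, 37, 38, 36, 37, 38], [37, 37, 39, 37, 37, 39, 37, 36], [37, 37, 37, 39, 37, 37, 38, 36], [37, 39, 37, 37, 37, 37, 36, 37], [39, 39, 39, 39, 39, 40, 38, 40], [41, 39, 39, 39, 40, 38, 39, 40], [41, 39, 39, 39, 39, 41, 39, 38], [39, 39, 41, 39, 38, 39, 39, 40], [39, 39, 41, 39, 41, 39, 40, 38], [39, 39, 39, 41, 39, 39, 38, 39], [41, 41, 41, 41, 42, 40, 41, 42], [41, 41, 41, 41, 41, 43, 41, 40]]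
def r8_2 : List (List ℕ) := [[43, 41, 41, 42, 40, 41, 41, 42], [43, 41, 41, 41, 43, 41, 42, 40], [41, 41, 43, 41, 41, 41, 42, 40], [41, 41, 43, 41, 43, 41, 40, 41], [43, 43, 43, 44, 42, 43, 43, 44], [43, 43, 43, 43, 45, 43, 44, 42], [45, 44, 43, 42, 43, 43, 43, 44], [45, 43, 43, 45, 43, 43, 44, 42], [45, 43, 43, 43, 45, 43, 42, 43], [43, 43, 45, 43, 43, 44, 42, 43], [45, 46, 46, 44, 45, 45, 45, 46], [45, 45, 45, 47, 45, 45, 46, 44], [45, 45, 45, 45, 47, 45, 44, 45], [47, 44, 45, 45, 45, 45, 45, 46], [47, 47, 45, 45, 45, 45, 46, 44], [47, 45, 45, 47, 45, 46, 44, 45], [45, 45, 47, 45, 45, 44, 45, 45], [47, 46, 48, 47, 47, 47, 47, 48], [47, 49, 46, 47, 47, 47, 47, 48], [47, 49, 49, 47, 47, 47, 48, 46], [47, 47, 47, 49, 47, 48, 46, 47], [49, 47, 47, 47, 47, 47, 48, 46],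 [49, 49, 47, 47, 47, 48, 46, 47], [49, 47, 47, 49, 47, 46, 47, 47], [49, 49, 48, 50, 49, 49, 49, 50], [49, 49, 51, 49, 49, 49, 50, 48], [49, 51, 49, 49, 49, 49, 50, 48], [49, 51, 51, 49, 49, 50, 48, 49], [49, 49, 49, 51, 49, 48, 49, 49], [51, 49, 49, 49, 49, 50, 48, 49]]
def r8_3 : List (List ℕ) := [[51, 51, 49, 49, 50, 48, 49, 49], [51, 51, 51, 50, 52, 51, 51, 52], [51, 51, 51, 53, 51, 51, 52, 50], [51, 51, 53, 51, 51, 52, 50, 51], [51, 53, 51, 51, 51, 52, 50, 51], [51, 53, 53, 51, 52, 50, 51, 51], [53, 51, 51, 51, 52, 50, 51, 51], [53, 53, 51, 51, 50, 51, 51, 51], [53, 53, 53, 53, 52, 54, 53, 54], [53, 53, 53, 53, 55, 53, 54, 52], [53, 53, 53, 55, 53, 54, 52, 53], [53, 53, 55, 53, 54, 52, 53, 53], [53, 55, 53, 53, 54, 52, 53, 53], [53, 55, 55, 53, 52, 53, 53, 53],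 [55, 53, 53, 54, 52, 53, 53, 53], [55, 55, 55, 55, 55, 54, 56, 56], [55, 55, 55, 55, 55, 57, 56, 54], [55, 55, 55, 55, 57, 56, 54, 55], [55, 55, 55, 57, 56, 54, 55, 55], [55, 55, 57, 56, 54, 55, 55, 55], [55, 57, 55, 56, 54, 55, 55, 55], [57, 55, 56, 54, 55, 55, 55, 55], [57, 57, 57, 57, 57, 57, 56, 58], [57, 57, 57, 57, 57, 57, 58, 56], [57, 57, 57, 57, 57, 58, 56, 57], [57, 57, 57, 57, 58, 56, 57, 57], [57, 57, 57, 58, 56, 57, 57, 57], [57, 57, 58, 56, 57, 57, 57, 57], [57, 58, 57, 56, 57, 57, 57, 57], [58, 57, 56, 57, 57, 57, 57, 57]]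
def r8_4 : List (List ℕ) := [[59, 59, 59, 59, 59, 59, 60, 58], [59, 59, 59, 59, 59, 60, 58, 61], [59, 59, 59, 59, 60, 58, 61, 59], [59, 59, 59, 60, 58, 61, 59, 59], [59, 60, 60, 58, 61, 59, 59, 59], [60, 59, 58, 61, 59, 59, 59, 59], [59, 58, 59, 61, 59, 59, 59, 59], [58, 59, 61, 59, 59, 59, 59, 59], [61, 61, 61, 61, 61, 62, 60, 61], [61, 61, 61, 61, 62, 60, 61, 63], [61, 61, 61, 62, 60, 61, 63, 61], [61, 62, 62, 60, 61, 63, 61, 61], [61, 60, 62, 61, 63, 61, 61, 61], [62, 63, 60, 61, 63, 61, 61, 61], [60, 61, 61, 63, 61, 61, 61, 61], [63, 63, 63, 63, 64, 62, 63, 63], [63, 63, 63, 64, 62, 63, 63, 65], [63, 64, 64, 62, 63, 63, 65, 63], [63, 62, 64, 63, 63, 65, 63, 63], [64, 65, 62, 63, 63, 65, 63, 63], [64, 63, 62, 63, 65, 63, 63, 63], [62, 65, 63, 63, 65, 63, 63, 63],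 [65, 65, 65, 66, 64, 65, 65, 65], [65, 66, 66, 64, 65, 65, 65, 67], [65, 64, 66, 65, 65, 65, 67, 65], [66, 67, 64, 65, 65, 65, 67, 65], [66, 65, 64, 66, 65, 67, 65, 65], [64, 67, 65, 65, 65, 67, 65, 65], [64, 65, 65, 65, 67, 65, 65, 65], [67, 68, 68, 66, 67, 67, 67, 67]]
def r8_5 : List (List ℕ) := [[67, 66, 68, 67, 67, 67, 67, 69], [68, 69, 66, 67, 67, 67, 67, 69], [68, 67, 66, 68, 67, 67, 69, 67], [66, 69, 67, 67, 67, 67, 69, 67], [66, 67, 67, 68, 67, 69, 67, 67], [69, 67, 67, 66, 67, 69, 67, 67], [69, 68, 70, 69, 69, 69, 69, 69], [70, 71, 68, 69, 69, 69, 69, 69], [70, 69, 68, 70, 69, 69, 69, 71], [68, 71, 69, 69, 69, 69, 69, 71], [68, 69, 69, 70, 69, 69, 71, 69], [71, 69, 69, 68, 70, 69, 71, 69], [69, 69, 70, 68, 69, 71, 69, 69], [72, 71, 70, 72, 71, 71, 71, 71],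 [70, 73, 71, 71, 71, 71, 71, 71], [70, 71, 71, 72, 71, 71, 71, 73], [73, 71, 71, 70, 72, 71, 71, 73], [71, 71, 72, 70, 72, 71, 73, 71], [73, 71, 71, 71, 70, 71, 73, 71], [71, 71, 70, 71, 71, 73, 71, 71], [72, 73, 73, 74, 73, 73, 73, 73], [75, 73, 73, 72, 74, 73, 73, 73], [73, 73, 74, 72, 74, 73, 73, 75], [75, 73, 73, 73, 72, 74, 73, 75], [73, 73, 72, 73, 74, 73, 75, 73], [73, 73, 75, 73, 72, 73, 75, 73], [75, 75, 76, 74, 76, 75, 75, 75], [77, 75, 75, 75, 74, 76, 75, 75], [75, 75, 74, 75, 76, 75, 75, 77], [75, 75, 77, 75, 74, 76, 75, 77]]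
def r8_6 : List (List ℕ) := [[77, 75, 75, 75, 75, 74, 75, 77], [75, 75, 75, 76, 74, 75, 77, 75], [77, 77, 76, 77, 78, 77, 77, 77], [77, 77, 79, 77, 76, 78, 77, 77], [79, 77, 77, 77, 77, 76, 78, 77], [77, 77, 77, 78, 76, 78, 77, 79], [77, 77, 79, 77, 77, 76, 77, 79], [77, 78, 77, 76, 77, 77, 79, 77], [79, 79, 79, 80, 78, 80, 79, 79], [79, 79, 81, 79, 79, 78, 80, 79], [81, 79, 79, 79, 79, 79, 78, 79], [79, 80, 79, 78, 79, 80, 79, 81], [79, 79, 79, 81, 79, 78, 79, 81], [79, 78, 79, 79, 79, 79, 81, 79], [81, 82, 81, 80, 81, 82, 81, 81], [81, 81, 81, 83, 81, 80, 82, 81], [81, 81, 83, 81, 81, 81, 80, 81], [81, 80, 81, 81, 81, 82, 81, 83], [81, 83, 81, 81, 82, 80, 81, 83], [83, 82, 83, 83, 83, 84, 83, 83], [83, 85, 83, 83, 84, 82, 84, 83], [83, 83, 83, 85, 83, 83, 82, 83],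 [83, 83, 83, 83, 84, 82, 83, 85], [83, 85, 83, 83, 82, 83, 83, 85], [85, 85, 85, 85, 86, 84, 86, 85], [85, 87, 85, 85, 84, 85, 86, 85], [85, 87, 85, 85, 87, 85, 84, 85], [85, 85, 85, 86, 84, 85, 85, 87], [87, 87, 87, 88, 86, 87, 88, 87], [87, 87, 87, 87, 89, 87, 86, 87]]
def r8_7 : List (List ℕ) := [[87, 89, 87, 87, 87, 88, 86, 87], [87, 87, 88, 86, 87, 87, 87, 89], [89, 89, 90, 88, 89, 89, 90, 89], [89, 89, 89, 91, 89, 90, 88, 89], [89, 91, 89, 89, 89, 88, 89, 89], [90, 89, 88, 89, 89, 89, 89, 91], [92, 91, 90, 91, 91, 91, 92, 91], [91, 91, 93, 91, 91, 92, 90, 91], [91, 91, 91, 93, 91, 90, 91, 91], [90, 91, 91, 91, 91, 91, 91, 93], [92, 93, 93, 93, 93, 93, 94, 93], [95, 93, 93, 93, 93, 94, 92, 93], [93, 93, 95, 93, 94, 92, 93, 93], [95, 95, 95, 95, 95, 96, 94, 95],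 [97, 95, 95, 95, 96, 94, 95, 95], [95, 95, 97, 95, 94, 95, 95, 95], [97, 97, 97, 97, 98, 96, 97, 97], [99, 97, 97, 98, 96, 97, 97, 97], [99, 99, 99, 100, 98, 99, 99, 99], [101, 100, 99, 98, 99, 99, 99, 99], [101, 102, 102, 100, 101, 101, 101, 101], [103, 100, 101, 101, 101, 101, 101, 101], [103, 102, 104, 103, 103, 103, 103, 103], [103, 105, 102, 103, 103, 103, 103, 103], [105, 105, 104, 106, 105, 105, 105, 105], [107, 107, 107, 106, 108, 107, 107, 107], [109, 109, 109, 109, 108, 110, 109, 109], [111, 111, 111, 111, 111, 110, 112, 111], [113, 113, 113, 113, 113, 113, 112, 114], [115, 115, 115, 115, 115, 115, 115, 114]]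
def j8_0 : List (List ℕ) := [[2, 2, 2, 2, 2, 2, 2, 0], [10, 10, 10, 10, 10, 10, 0, 1], [9, 9, 9, 9, 9, 0, 1, 9], [8, 8, 8, 8, 0, 1, 8, 8], [7, 7, 7, 0, 1, 7, 7, 7], [6, 0, 0, 1, 6, 6, 6, 6], [4, 1, 0, 4, 4, 4, 4, 4], [0, 5, 1, 5, 5, 5, 5, 5], [0, 5, 1, 0, 5, 5, 5, 5], [1, 3, 3, 3, 3, 3, 3, 3], [1, 3, 3, 0, 3, 3, 3, 3], [6, 6, 6, 1, 0, 6, 6, 6], [6, 6, 0, 1, 0, 6, 6, 6], [7, 7, 7, 7, 1, 0, 7, 7], [5, 5, 1, 5, 0, 5, 5, 5], [7, 7, 7, 7, 1, 0, 7, 7], [8, 8, 8, 8, 8, 1, 0, 8], [7, 7, 7, 0, 1, 0, 7, 7], [8, 8, 8, 8, 8, 1, 0, 8], [9, 9, 9, 9, 9, 9, 1, 0], [6, 0, 6, 1, 6, 0, 6, 6], [8, 8, 8, 8, 8, 1, 0, 8], [9, 9, 9, 9, 9, 9, 1, 0], [10, 10, 10, 10, 10, 10, 10, 1], [4, 1, 4, 4, 4, 0, 4, 4], [8, 8, 8, 8, 0, 1, 0, 8], [9, 9, 9, 9, 9, 9, 1, 0], [10, 10, 10, 10, 10, 10, 10, 1],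 [8, 8, 8, 8, 0, 1, 0, 8], [7, 7, 7, 7, 1, 7, 0, 7]]
def j8_1 : List (List ℕ) := [[9, 9, 9, 9, 9, 9, 1, 0], [10, 10, 10, 10, 10, 10, 10, 1], [7, 7, 7, 0, 1, 7, 0, 7], [9, 9, 9, 9, 9, 9, 1, 0], [9, 9, 9, 9, 9, 0, 1, 0], [10, 10, 10, 10, 10, 10, 10, 1], [6, 6, 0, 1, 6, 6, 0, 6], [9, 9, 9, 9, 9, 0, 1, 0], [10, 10, 10, 10, 10, 10, 10, 1], [8, 8, 8, 8, 8, 1, 8, 0], [10, 10, 10, 10, 10, 10, 10, 1], [0, 5, 1, 5, 5, 5, 0, 5], [9, 9, 9, 9, 9, 0, 1, 0], [8, 8, 8, 8, 8, 1, 8, 0], [10, 10, 10, 10, 10, 10, 10, 1], [10, 10, 10, 10, 10, 10, 0, 1], [1, 3, 3, 3, 3, 3, 0, 3], [9, 9, 9, 9, 9, 0, 1, 0], [8, 8, 8, 8, 0, 1, 8, 0], [10, 10, 10, 10, 10, 10, 10, 1], [10, 10, 10, 10, 10, 10, 0, 1], [9, 9, 9, 9, 9, 9, 1, 9], [9, 9, 9, 9, 9, 0, 1, 0], [8, 8, 8, 8, 0, 1, 8, 0], [10, 10, 10, 10,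 10, 10, 10, 1], [7, 7, 7, 7, 1, 7, 7, 0], [10, 10, 10, 10, 10, 10, 0, 1], [9, 9, 9, 9, 9, 9, 1, 9], [8, 8, 8, 8, 0, 1, 8, 0], [10, 10, 10, 10, 10, 10, 10, 1]]
def j8_2 : List (List ℕ) := [[7, 7, 7, 0, 1, 7, 7, 0], [10, 10, 10, 10, 10, 10, 0, 1], [10, 10, 10, 10, 10, 10, 0, 1], [9, 9, 9, 9, 9, 9, 1, 9], [7, 7, 7, 0, 1, 7, 7, 0], [10, 10, 10, 10, 10, 10, 0, 1], [6, 0, 6, 1, 6, 6, 6, 0], [10, 10, 10, 10, 10, 10, 0, 1], [9, 9, 9, 9, 9, 9, 1, 9], [9, 9, 9, 9, 9, 0, 1, 9], [6, 0, 0, 1, 6, 6, 6, 0], [10, 10, 10, 10, 10, 10, 0, 1], [9, 9, 9, 9, 9, 9, 1, 9], [4, 1, 4, 4, 4, 4, 4, 0], [10, 10, 10, 10, 10, 10, 0, 1], [9, 9, 9, 9, 9, 0, 1, 9], [8, 8, 8, 8, 8, 1, 8, 8], [4, 1, 0, 4, 4, 4, 4, 0], [5, 5, 1, 5, 5, 5, 5, 0], [10, 10, 10, 10, 10, 10, 0, 1], [9, 9, 9, 9, 9, 0, 1, 9],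 [10, 10, 10, 10, 10, 10, 0, 1], [9, 9, 9, 9, 9, 0, 1, 9], [8, 8, 8, 8, 8, 1, 8, 8], [5, 5, 1, 0, 5, 5, 5, 0], [10, 10, 10, 10, 10, 10, 0, 1], [10, 10, 10, 10, 10, 10, 0, 1], [9, 9, 9, 9, 9, 0, 1, 9], [8, 8, 8, 8, 8, 1, 8, 8], [9, 9, 9, 9, 9, 0, 1, 9]]
def j8_3 : List (List ℕ) := [[8, 8, 8, 8, 0, 1, 8, 8], [6, 6, 6, 1, 0, 6, 6, 0], [10, 10, 10, 10, 10, 10, 0, 1], [9, 9, 9, 9, 9, 0, 1, 9], [9, 9, 9, 9, 9, 0, 1, 9], [8, 8, 8, 8, 0, 1, 8, 8], [8, 8, 8, 8, 0, 1, 8, 8], [7, 7, 7, 7, 1, 7, 7, 7], [7, 7, 7, 7, 1, 0, 7, 0], [10, 10, 10, 10, 10, 10, 0, 1], [9, 9, 9, 9, 9, 0, 1, 9], [8, 8, 8, 8, 0, 1, 8, 8], [8, 8, 8, 8, 0, 1, 8, 8], [7, 7, 7, 7, 1, 7, 7, 7], [7, 7, 7, 0, 1, 7, 7, 7], [8, 8, 8, 8, 8, 1, 0, 0], [10, 10, 10, 10, 10, 10, 0, 1], [9, 9, 9, 9, 9, 0, 1, 9], [8, 8, 8,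 8, 0, 1, 8, 8], [7, 7, 7, 0, 1, 7, 7, 7], [7, 7, 7, 0, 1, 7, 7, 7], [6, 6, 0, 1, 6, 6, 6, 6], [9, 9, 9, 9, 9, 9, 1, 0], [10, 10, 10, 10, 10, 10, 0, 1], [9, 9, 9, 9, 9, 0, 1, 9], [8, 8, 8, 8, 0, 1, 8, 8], [7, 7, 7, 0, 1, 7, 7, 7], [6, 6, 0, 1, 6, 6, 6, 6], [6, 0, 6, 1, 6, 6, 6, 6], [0, 5, 1, 5, 5, 5, 5, 5]]
def j8_4 : List (List ℕ) := [[10, 10, 10, 10, 10, 10, 0, 1], [9, 9, 9, 9, 9, 0, 1, 9], [8, 8, 8, 8, 0, 1, 8, 8], [7, 7, 7, 0, 1, 7, 7, 7], [6, 0, 0, 1, 6, 6, 6, 6], [0, 5, 1, 5, 5, 5, 5, 5], [4, 1, 4, 4, 4, 4, 4, 4], [1, 3, 3, 3, 3, 3, 3, 3], [9, 9, 9, 9, 9, 0, 1, 9], [8, 8, 8, 8, 0, 1, 8, 8], [7, 7, 7, 0, 1, 7, 7, 7], [6, 0, 0, 1, 6, 6, 6, 6], [4, 1, 0, 4, 4, 4, 4, 4], [0, 5, 1, 5, 5, 5, 5, 5], [1, 3, 3, 3, 3, 3, 3, 3], [8, 8, 8, 8, 0, 1, 8, 8], [7, 7, 7, 0, 1,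 7, 7, 7], [6, 0, 0, 1, 6, 6, 6, 6], [4, 1, 0, 4, 4, 4, 4, 4], [0, 5, 1, 5, 5, 5, 5, 5], [0, 5, 1, 5, 5, 5, 5, 5], [1, 3, 3, 3, 3, 3, 3, 3], [7, 7, 7, 0, 1, 7, 7, 7], [6, 0, 0, 1, 6, 6, 6, 6], [4, 1, 0, 4, 4, 4, 4, 4], [0, 5, 1, 5, 5, 5, 5, 5], [0, 5, 1, 0, 5, 5, 5, 5], [1, 3, 3, 3, 3, 3, 3, 3], [1, 3, 3, 3, 3, 3, 3, 3], [6, 0, 0, 1, 6, 6, 6, 6]]
def j8_5 : List (List ℕ) := [[4, 1, 0, 4, 4, 4, 4, 4], [0, 5, 1, 5, 5, 5, 5, 5], [0, 5, 1, 0, 5, 5, 5, 5], [1, 3, 3, 3, 3, 3, 3, 3], [1, 3, 3, 0, 3, 3, 3, 3], [6, 6, 6, 1, 6, 6, 6, 6], [4, 1, 0, 4, 4, 4, 4, 4], [0, 5, 1, 5, 5, 5, 5, 5], [0, 5, 1, 0, 5, 5, 5, 5], [1, 3, 3, 3, 3, 3, 3, 3], [1, 3, 3, 0, 3, 3, 3, 3], [6, 6, 6, 1, 0, 6, 6, 6], [6, 6, 0, 1, 6, 6, 6, 6], [0, 5, 1, 0, 5, 5, 5, 5], [1, 3, 3, 3, 3, 3, 3, 3], [1, 3, 3,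 0, 3, 3, 3, 3], [6, 6, 6, 1, 0, 6, 6, 6], [6, 6, 0, 1, 0, 6, 6, 6], [7, 7, 7, 7, 1, 7, 7, 7], [5, 5, 1, 5, 5, 5, 5, 5], [1, 3, 3, 0, 3, 3, 3, 3], [6, 6, 6, 1, 0, 6, 6, 6], [6, 6, 0, 1, 0, 6, 6, 6], [7, 7, 7, 7, 1, 0, 7, 7], [5, 5, 1, 5, 0, 5, 5, 5], [7, 7, 7, 7, 1, 7, 7, 7], [6, 6, 0, 1, 0, 6, 6, 6], [7, 7, 7, 7, 1, 0, 7, 7], [5, 5, 1, 5, 0, 5, 5, 5], [7, 7, 7, 7, 1, 0, 7, 7]]
def j8_6 : List (List ℕ) := [[8, 8, 8, 8, 8, 1, 8, 8], [7, 7, 7, 0, 1, 7, 7, 7], [5, 5, 1, 5, 0, 5, 5, 5], [7, 7, 7, 7, 1, 0, 7, 7], [8, 8, 8, 8, 8, 1, 0, 8], [7, 7, 7, 0, 1, 0, 7, 7], [8, 8, 8, 8, 8, 1, 8, 8], [6, 0, 6, 1, 6, 6, 6, 6], [7, 7, 7, 0, 1, 0, 7, 7], [8, 8, 8, 8, 8, 1, 0, 8], [9, 9, 9, 9, 9, 9, 1, 9], [6, 0, 6, 1, 6, 0, 6, 6], [8, 8, 8, 8, 8, 1, 8, 8], [4, 1, 4, 4, 4, 4, 4, 4], [6,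 0, 6, 1, 6, 0, 6, 6], [8, 8, 8, 8, 8, 1, 0, 8], [9, 9, 9, 9, 9, 9, 1, 9], [4, 1, 4, 4, 4, 0, 4, 4], [8, 8, 8, 8, 0, 1, 8, 8], [4, 1, 4, 4, 4, 0, 4, 4], [8, 8, 8, 8, 0, 1, 0, 8], [9, 9, 9, 9, 9, 9, 1, 9], [8, 8, 8, 8, 0, 1, 8, 8], [7, 7, 7, 7, 1, 7, 7, 7], [8, 8, 8, 8, 0, 1, 0, 8], [7, 7, 7, 7, 1, 7, 0, 7], [9, 9, 9, 9, 9, 9, 1, 9], [7, 7, 7, 0, 1, 7, 7, 7], [7, 7, 7, 0, 1, 7, 0, 7], [9, 9, 9, 9, 9, 9, 1, 9]]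
def j8_7 : List (List ℕ) := [[9, 9, 9, 9, 9, 0, 1, 9], [6, 6, 0, 1, 6, 6, 6, 6], [6, 6, 0, 1, 6, 6, 0, 6], [9, 9, 9, 9, 9, 0, 1, 9], [8, 8, 8, 8, 8, 1, 8, 8], [0, 5, 1, 5, 5, 5, 5, 5], [0, 5, 1, 5, 5, 5, 0, 5], [9, 9, 9, 9, 9, 0, 1, 9], [8, 8, 8, 8, 8, 1, 8, 8], [1, 3, 3, 3, 3, 3, 3, 3], [1, 3, 3, 3, 3, 3, 0, 3], [9, 9, 9, 9, 9, 0, 1, 9], [8, 8, 8, 8, 0, 1, 8, 8], [9, 9, 9, 9, 9, 0, 1, 9], [8, 8, 8, 8, 0, 1, 8, 8], [7, 7, 7, 7, 1, 7, 7, 7], [8, 8, 8, 8, 0, 1, 8, 8], [7, 7, 7, 0, 1, 7, 7, 7], [7, 7, 7, 0, 1, 7, 7, 7], [6, 0, 6, 1, 6, 6, 6, 6], [6, 0, 0, 1, 6, 6, 6, 6], [4, 1, 4, 4, 4, 4, 4, 4], [4, 1, 0, 4, 4, 4, 4, 4], [5, 5, 1, 5, 5, 5, 5, 5], [5, 5, 1, 0, 5, 5, 5, 5], [6, 6, 6, 1, 0, 6, 6, 6], [7, 7, 7, 7, 1, 0, 7, 7], [8, 8, 8, 8, 8, 1, 0, 8], [9, 9, 9, 9, 9, 9,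 1, 0], [10, 10, 10, 10, 10, 10, 10, 1]]
def v8_0 : List (Fin 8 → ℤ) := [![0, 0, 0, 0, 0, 0, 0, 1], ![0, 0, 0, 0, 0, 0, 1, -1], ![0, 0, 0, 0, 0, 1, -1, 0], ![0, 0, 0, 0, 1, -1, 0, 0], ![0, 0, 0, 1, -1, 0, 0, 0], ![0, 1, 1, -1, 0, 0, 0, 0], ![0, -1, 1, 0, 0, 0, 0, 0], ![1, 1, -1, 0, 0, 0, 0, 0], ![1, -1, -1, 1, 0, 0, 0, 0], ![-1, 1, 0, 0, 0, 0, 0, 0], ![-1, -1, 0, 1, 0, 0, 0, 0], ![1, 0, 0, -1, 1, 0, 0, 0], ![-1, 0, 1, -1, 1, 0, 0, 0], ![1, 0, 0, 0, -1, 1, 0, 0], ![0, 0, -1, 0, 1, 0, 0, 0], ![-1, 0, 1, 0, -1, 1, 0, 0], ![1, 0, 0, 0, 0, -1, 1, 0], ![0, 0, -1, 1, -1, 1, 0, 0], ![-1, 0, 1, 0, 0, -1, 1, 0], ![1, 0, 0, 0, 0, 0, -1, 1], ![0, 1, 0, -1, 0, 1, 0, 0], ![0, 0, -1, 1, 0, -1, 1, 0], ![-1, 0, 1, 0, 0, 0, -1, 1], ![1, 0, 0, 0, 0, 0, 0, -1], ![0, -1, 0, 0, 0, 1, 0,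 0], ![0, 1, 0, -1, 1, -1, 1, 0], ![0, 0, -1, 1, 0, 0, -1, 1], ![-1, 0, 1, 0, 0, 0, 0, -1], ![0, -1, 0, 0, 1, -1, 1, 0], ![0, 1, 0, 0, -1, 0, 1, 0]]
def v8_1 : List (Fin 8 → ℤ) := [![0, 1, 0, -1, 1, 0, -1, 1], ![0, 0, -1, 1, 0, 0, 0, -1], ![0, -1, 0, 1, -1, 0, 1, 0], ![0, -1, 0, 0, 1, 0, -1, 1], ![0, 1, 0, 0, -1, 1, -1, 1], ![0, 1, 0, -1, 1, 0, 0, -1], ![0, 0, 1, -1, 0, 0, 1, 0], ![0, -1, 0, 1, -1, 1, -1, 1], ![0, -1, 0, 0, 1, 0, 0, -1], ![0, 1, 0, 0, 0, -1, 0, 1], ![0, 1, 0, 0, -1, 1, 0, -1], ![1, 0, -1, 0, 0, 0, 1, 0], ![0, 0, 1, -1, 0, 1, -1, 1], ![0, -1, 0, 1, 0, -1, 0, 1], ![0, -1, 0, 1, -1, 1, 0, -1], ![0, 1, 0, 0, 0, -1, 1, -1], ![-1, 0, 0, 0, 0, 0, 1, 0], ![1, 0, -1, 0, 0, 1, -1, 1], ![0, 0, 1, -1, 1, -1, 0, 1], ![0, 0, 1, -1, 0, 1, 0, -1], ![0, -1, 0, 1, 0,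 -1, 1, -1], ![0, 1, 0, 0, 0, 0, -1, 0], ![-1, 0, 0, 0, 0, 1, -1, 1], ![1, 0, -1, 0, 1, -1, 0, 1], ![1, 0, -1, 0, 0, 1, 0, -1], ![0, 0, 1, 0, -1, 0, 0, 1], ![0, 0, 1, -1, 1, -1, 1, -1], ![0, -1, 0, 1, 0, 0, -1, 0], ![-1, 0, 0, 0, 1, -1, 0, 1], ![-1, 0, 0, 0, 0, 1, 0, -1]]
def v8_2 : List (Fin 8 → ℤ) := [![1, 0, -1, 1, -1, 0, 0, 1], ![1, 0, -1, 0, 1, -1, 1, -1], ![0, 0, 1, 0, -1, 0, 1, -1], ![0, 0, 1, -1, 1, 0, -1, 0], ![-1, 0, 0, 1, -1, 0, 0, 1], ![-1, 0, 0, 0, 1, -1, 1, -1], ![1, 1, 0, -1, 0, 0, 0, 1], ![1, 0, -1, 1, -1, 0, 1, -1], ![1, 0, -1, 0, 1, 0, -1, 0], ![0, 0, 1, 0, -1, 1, -1, 0], ![-1, 1, 1, -1, 0, 0, 0, 1], ![-1, 0, 0, 1, -1, 0, 1, -1], ![-1, 0, 0, 0, 1, 0, -1, 0], ![1, -1, 0, 0, 0, 0, 0, 1], ![1, 1, 0, -1, 0, 0, 1, -1], ![1, 0, -1, 1, -1, 1, -1, 0], ![0,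 0, 1, 0, 0, -1, 0, 0], ![-1, -1, 1, 0, 0, 0, 0, 1], ![0, 1, -1, 0, 0, 0, 0, 1], ![-1, 1, 1, -1, 0, 0, 1, -1], ![-1, 0, 0, 1, -1, 1, -1, 0], ![1, -1, 0, 0, 0, 0, 1, -1], ![1, 1, 0, -1, 0, 1, -1, 0], ![1, 0, -1, 1, 0, -1, 0, 0], ![0, -1, -1, 1, 0, 0, 0, 1], ![-1, -1, 1, 0, 0, 0, 1, -1], ![0, 1, -1, 0, 0, 0, 1, -1], ![-1, 1, 1, -1, 0, 1, -1, 0], ![-1, 0, 0, 1, 0, -1, 0, 0], ![1, -1, 0, 0, 0, 1, -1, 0]]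
def v8_3 : List (Fin 8 → ℤ) := [![1, 1, 0, -1, 1, -1, 0, 0], ![0, 0, 0, -1, 1, 0, 0, 1], ![0, -1, -1, 1, 0, 0, 1, -1], ![-1, -1, 1, 0, 0, 1, -1, 0], ![0, 1, -1, 0, 0, 1, -1, 0], ![-1, 1, 1, -1, 1, -1, 0, 0], ![1, -1, 0, 0, 1, -1, 0, 0], ![1, 1, 0, 0, -1, 0, 0, 0], ![0, 0, 0, 0, -1, 1, 0, 1], ![0, 0, 0, -1, 1, 0, 1, -1], ![0, -1, -1, 1, 0, 1, -1, 0], ![-1, -1, 1, 0, 1, -1, 0, 0], ![0, 1, -1, 0, 1, -1, 0, 0], ![-1, 1, 1, 0, -1, 0, 0, 0], ![1, -1, 0, 1, -1, 0, 0, 0], ![0, 0, 0, 0, 0, -1, 1, 1], ![0, 0, 0, 0, -1, 1, 1, -1], ![0, 0, 0, -1, 1, 1, -1, 0], ![0, -1, -1, 1, 1, -1, 0, 0], ![-1, -1, 1, 1, -1, 0, 0, 0], ![0, 1, -1, 1, -1, 0, 0, 0], ![1, 0, 1, -1, 0, 0, 0, 0], ![0, 0, 0, 0, 0, 0, -1, 2], ![0, 0, 0, 0, 0, -1, 2, -1], ![0, 0, 0, 0, -1, 2, -1, 0], ![0, 0, 0, -1, 2,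 -1, 0, 0], ![0, -1, -1, 2, -1, 0, 0, 0], ![-1, 0, 2, -1, 0, 0, 0, 0], ![0, 2, 0, -1, 0, 0, 0, 0], ![2, 0, -1, 0, 0, 0, 0, 0]]
def v8_4 : List (Fin 8 → ℤ) := [![0, 0, 0, 0, 0, 0, 1, -2], ![0, 0, 0, 0, 0, 1, -2, 1], ![0, 0, 0, 0, 1, -2, 1, 0], ![0, 0, 0, 1, -2, 1, 0, 0], ![0, 1, 1, -2, 1, 0, 0, 0], ![1, 0, -2, 1, 0, 0, 0, 0], ![0, -2, 0, 1, 0, 0, 0, 0], ![-2, 0, 1, 0, 0, 0, 0, 0], ![0, 0, 0, 0, 0, 1, -1, -1], ![0, 0, 0, 0, 1, -1, -1, 1], ![0, 0, 0, 1, -1, -1, 1, 0], ![0, 1, 1, -1, -1, 1, 0, 0], ![0, -1, 1, -1, 1, 0, 0, 0], ![1, 1, -1, -1, 1, 0, 0, 0], ![-1, 0, -1, 1, 0, 0, 0, 0], ![0, 0, 0, 0, 1, -1, 0, -1], ![0, 0, 0, 1, -1, 0, -1, 1], ![0, 1, 1, -1, 0, -1, 1, 0], ![0, -1, 1, 0, -1, 1, 0, 0], ![1, 1, -1, 0, -1, 1, 0, 0], ![1, -1, -1, 0, 1, 0, 0, 0], ![-1, 1, 0, -1,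 1, 0, 0, 0], ![0, 0, 0, 1, -1, 0, 0, -1], ![0, 1, 1, -1, 0, 0, -1, 1], ![0, -1, 1, 0, 0, -1, 1, 0], ![1, 1, -1, 0, 0, -1, 1, 0], ![1, -1, -1, 1, -1, 1, 0, 0], ![-1, 1, 0, 0, -1, 1, 0, 0], ![-1, -1, 0, 0, 1, 0, 0, 0], ![0, 1, 1, -1, 0, 0, 0, -1]]
def v8_5 : List (Fin 8 → ℤ) := [![0, -1, 1, 0, 0, 0, -1, 1], ![1, 1, -1, 0, 0, 0, -1, 1], ![1, -1, -1, 1, 0, -1, 1, 0], ![-1, 1, 0, 0, 0, -1, 1, 0], ![-1, -1, 0, 1, -1, 1, 0, 0], ![1, 0, 0, -1, 0, 1, 0, 0], ![0, -1, 1, 0, 0, 0, 0, -1], ![1, 1, -1, 0, 0, 0, 0, -1], ![1, -1, -1, 1, 0, 0, -1, 1], ![-1, 1, 0, 0, 0, 0, -1, 1], ![-1, -1, 0, 1, 0, -1, 1, 0], ![1, 0, 0, -1, 1, -1, 1, 0], ![-1, 0, 1, -1, 0, 1, 0, 0], ![1, -1, -1, 1, 0, 0, 0, -1], ![-1, 1, 0, 0, 0, 0, 0, -1], ![-1, -1, 0, 1, 0, 0, -1, 1], ![1, 0, 0, -1, 1, 0, -1, 1],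 ![-1, 0, 1, -1, 1, -1, 1, 0], ![1, 0, 0, 0, -1, 0, 1, 0], ![0, 0, -1, 0, 0, 1, 0, 0], ![-1, -1, 0, 1, 0, 0, 0, -1], ![1, 0, 0, -1, 1, 0, 0, -1], ![-1, 0, 1, -1, 1, 0, -1, 1], ![1, 0, 0, 0, -1, 1, -1, 1], ![0, 0, -1, 0, 1, -1, 1, 0], ![-1, 0, 1, 0, -1, 0, 1, 0], ![-1, 0, 1, -1, 1, 0, 0, -1], ![1, 0, 0, 0, -1, 1, 0, -1], ![0, 0, -1, 0, 1, 0, -1, 1], ![-1, 0, 1, 0, -1, 1, -1, 1]]
def v8_6 : List (Fin 8 → ℤ) := [![1, 0, 0, 0, 0, -1, 0, 1], ![0, 0, -1, 1, -1, 0, 1, 0], ![0, 0, -1, 0, 1, 0, 0, -1], ![-1, 0, 1, 0, -1, 1, 0, -1], ![1, 0, 0, 0, 0, -1, 1, -1], ![0, 0, -1, 1, -1, 1, -1, 1], ![-1, 0, 1, 0, 0, -1, 0, 1], ![0, 1, 0, -1, 0, 0, 1, 0], ![0, 0, -1, 1, -1, 1, 0, -1], ![-1, 0, 1, 0, 0, -1, 1, -1], ![1, 0, 0, 0, 0, 0, -1, 0], ![0, 1, 0, -1, 0, 1, -1, 1], ![0, 0, -1, 1,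 0, -1, 0, 1], ![0, -1, 0, 0, 0, 0, 1, 0], ![0, 1, 0, -1, 0, 1, 0, -1], ![0, 0, -1, 1, 0, -1, 1, -1], ![-1, 0, 1, 0, 0, 0, -1, 0], ![0, -1, 0, 0, 0, 1, -1, 1], ![0, 1, 0, -1, 1, -1, 0, 1], ![0, -1, 0, 0, 0, 1, 0, -1], ![0, 1, 0, -1, 1, -1, 1, -1], ![0, 0, -1, 1, 0, 0, -1, 0], ![0, -1, 0, 0, 1, -1, 0, 1], ![0, 1, 0, 0, -1, 0, 0, 1], ![0, -1, 0, 0, 1, -1, 1, -1], ![0, 1, 0, 0, -1, 0, 1, -1], ![0, 1, 0, -1, 1, 0, -1, 0], ![0, -1, 0, 1, -1, 0, 0, 1], ![0, -1, 0, 1, -1, 0, 1, -1], ![0, -1, 0, 0, 1, 0, -1, 0]]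
def v8_7 : List (Fin 8 → ℤ) := [![0, 1, 0, 0, -1, 1, -1, 0], ![0, 0, 1, -1, 0, 0, 0, 1], ![0, 0, 1, -1, 0, 0, 1, -1], ![0, -1, 0, 1, -1, 1, -1, 0], ![0, 1, 0, 0, 0, -1, 0, 0], ![1, 0, -1, 0, 0, 0, 0, 1], ![1, 0, -1, 0, 0, 0, 1, -1], ![0, 0, 1, -1, 0, 1, -1, 0], ![0, -1, 0, 1, 0, -1, 0, 0], ![-1, 0, 0, 0, 0, 0, 0, 1], ![-1, 0, 0, 0, 0, 0, 1, -1], ![1, 0, -1, 0, 0, 1, -1, 0], ![0, 0, 1, -1, 1, -1, 0, 0], ![-1, 0, 0, 0, 0, 1, -1, 0], ![1, 0, -1, 0, 1, -1, 0, 0], ![0, 0, 1, 0, -1, 0, 0, 0], ![-1, 0, 0, 0, 1, -1, 0, 0], ![1, 0, -1, 1, -1, 0, 0, 0], ![-1, 0, 0, 1, -1, 0, 0, 0], ![1, 1, 0, -1, 0, 0, 0, 0], ![-1, 1, 1, -1, 0, 0, 0, 0], ![1, -1, 0, 0, 0, 0, 0, 0], ![-1, -1, 1, 0, 0, 0, 0, 0], ![0, 1, -1, 0, 0, 0, 0, 0], ![0, -1, -1, 1, 0, 0, 0, 0], ![0, 0, 0, -1, 1, 0, 0, 0],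 ![0, 0, 0, 0, -1, 1, 0, 0], ![0, 0, 0, 0, 0, -1, 1, 0], ![0, 0, 0, 0, 0, 0, -1, 1], ![0, 0, 0, 0, 0, 0, 0, -1]]
def L8 : Lvl 8 :=
  { c := 240
    words := w8_0 ++ w8_1 ++ w8_2 ++ w8_3 ++ w8_4 ++ w8_5 ++ w8_6 ++ w8_7
    tab := t8_0 ++ t8_1 ++ t8_2 ++ t8_3 ++ t8_4 ++ t8_5 ++ t8_6 ++ t8_7
    rk := r8_0 ++ r8_1 ++ r8_2 ++ r8_3 ++ r8_4 ++ r8_5 ++ r8_6 ++ r8_7
    jst := j8_0 ++ j8_1 ++ j8_2 ++ j8_3 ++ j8_4 ++ j8_5 ++ j8_6 ++ j8_7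
    vecs := v8_0 ++ v8_1 ++ v8_2 ++ v8_3 ++ v8_4 ++ v8_5 ++ v8_6 ++ v8_7 }

def Ls : List (Lvl 8) := [L1, L2, L3, L4, L5, L6, L7, L8]

set_option maxHeartbeats 0 in
theorem hA : CM.IsLiftable A := by
  unfold CoxeterMatrix.IsLiftable
  decide +kernel

set_option maxHeartbeats 0 in
theorem hchk : chkAll CM A Ls = true := by decide +kernel

theorem card : Nat.card CM.Group = 696729600 := by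
  rw [card_group CM A hA Ls hchk]
  decide +kernel

set_option maxHeartbeats 0 in
theorem cox : orderOf (((List.finRange 8).map CM.simple).prod) = 30 := by
  refine coxeter_order CM A hA Ls hchk 30 (by norm_num) ?_ ?_
  · decide +kernel
  · decide +kernel

end Cfsg.Agent.Helper17.CoxDataE8
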