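import Mathlib
import Cfsg.Agent.Helper17.Cox

set_option autoImplicit false

namespace Cfsg.Agent.Helper17.CoxDataF4

open Cfsg.Agent.Helper17.Cox

abbrev CM : CoxeterMatrix (Fin 4) := CoxeterMatrix.F₄

def A : Fin 4 → Matrix (Fin 4) (Fin 4) ℤ := ![!![-1, 0, 0, 0; 1, 1, 0, 0; 0, 0, 1, 0; 0, 0, 0, 1], !![1, 1, 0, 0; 0, -1, 0, 0; 0, 2, 1, 0; 0, 0, 0, 1], !![1, 0, 0, 0; 0, 1, 1, 0; 0, 0, -1, 0; 0, 0, 1, 1], !![1, 0, 0, 0; 0, 1, 0, 0; 0, 0, 1, 1; 0, 0, 0, -1]]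

def L1 : Lvl 4 :=
  { c := 2
    words := [[], [0]]
    tab := [[(1, [])], [(0, [])]]
    rk := [[2], [2]]
    jst := [[0], [1]]
    vecs := [![1, 0, 0, 0], ![-1, 1, 0, 0]] }

def L2 : Lvl 4 :=
  { c := 3
    words := [[], [1], [0, 1]]
    tab := [[(0, [0]), (1, [])], [(2, []), (0, [])], [(1, []), (2, [0])]]
    rk := [[1, 2], [4, 2], [4, 5]]
    jst := [[2, 0], [0, 1], [1, 3]]
    vecs := [![0, 1, 0, 0], ![1, -1, 2, 0], ![-1, 0, 2, 0]] }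

def L3 : Lvl 4 :=
  { c := 8
    words := [[], [2], [1, 2], [0, 1, 2], [2, 1, 2], [2, 0, 1, 2], [1, 2, 0, 1, 2], [2, 1, 2, 0, 1, 2]]
    tab := [[(0, [0]), (0, [1]), (1, [])], [(1, [0]), (2, []), (0, [])], [(3, []), (1, []), (4, [])], [(2, []), (3, [0]), (5, [])], [(5, []), (4, [1]), (2, [])], [(4, []), (6, []), (3, [])], [(6, [1]), (5, []), (7, [])], [(7, [1]), (7, [0]), (6, [])]]
    rk := [[1, 1, 2], [3, 4, 2], [6, 4, 6], [6, 7, 8], [9, 7, 6], [9, 10, 8], [11, 10, 12], [13, 13, 12]]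
    jst := [[2, 2, 0], [5, 0, 1], [0, 1, 0], [1, 3, 0], [5, 5, 1], [5, 0, 1], [4, 1, 0], [5, 5, 1]]
    vecs := [![0, 0, 1, 0], ![0, 1, -1, 1], ![1, -1, 1, 1], ![-1, 0, 1, 1], ![1, 0, -1, 2], ![-1, 1, -1, 2], ![0, -1, 1, 2], ![0, 0, -1, 3]] }

def L4 : Lvl 4 :=
  { c := 24
    words := [[], [3], [2, 3], [1, 2, 3], [0, 1, 2, 3], [2, 1, 2, 3], [2, 0, 1, 2, 3], [3, 2, 1, 2, 3], [1, 2, 0, 1, 2, 3], [3, 2, 0, 1, 2, 3], [2, 1, 2, 0, 1, 2, 3], [3, 1, 2, 0, 1, 2, 3], [3, 2, 1, 2, 0, 1, 2, 3], [2, 3, 1, 2, 0, 1, 2, 3], [2, 3, 2, 1, 2, 0, 1, 2, 3], [1, 2, 3, 1, 2, 0, 1, 2, 3], [1, 2, 3, 2, 1, 2, 0, 1, 2, 3], [0, 1, 2, 3, 1, 2, 0, 1, 2, 3], [0, 1, 2, 3, 2, 1, 2, 0, 1, 2, 3], [2, 1, 2, 3, 2, 1, 2, 0, 1, 2, 3], [2, 0, 1, 2, 3, 2, 1, 2, 0, 1, 2, 3], [1, 2, 0, 1, 2, 3, 2, 1, 2, 0, 1, 2, 3], [2, 1, 2, 0, 1, 2, 3, 2, 1, 2, 0, 1, 2, 3], [3, 2, 1, 2,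 0, 1, 2, 3, 2, 1, 2, 0, 1, 2, 3]]
    tab := [[(0, [0]), (0, [1]), (0, [2]), (1, [])], [(1, [0]), (1, [1]), (2, []), (0, [])], [(2, [0]), (3, []), (1, []), (2, [2])], [(4, []), (2, []), (5, []), (3, [2])], [(3, []), (4, [0]), (6, []), (4, [2])], [(6, []), (5, [1]), (3, []), (7, [])], [(5, []), (8, []), (4, []), (9, [])], [(9, []), (7, [1]), (7, [2]), (5, [])], [(8, [1]), (6, []), (10, []), (11, [])], [(7, []), (11, []), (9, [2]), (6, [])], [(10, [1]), (10, [0]), (8, []), (12, [])], [(11, [1]), (9, []), (13, []), (8, [])], [(12, [1]), (12, [0]), (14, []), (10, [])], [(13, [1]), (15, []), (11, []), (14, [])], [(14, [1]), (16, []), (12, []), (13, [])], [(17, []), (13, []), (15, [2]), (16, [])], [(18, []), (14, []), (19, []), (15, [])], [(15, []), (17, [1]), (17, [2]), (18, [])], [(16, []), (18, [1]), (20, []), (17, [])], [(20, []), (19,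 [0]), (16, []), (19, [2])], [(19, []), (21, []), (18, []), (20, [2])], [(21, [0]), (20, []), (22, []), (21, [2])], [(22, [0]), (22, [1]), (21, []), (23, [])], [(23, [0]), (23, [1]), (23, [2]), (22, [])]]
    rk := [[1, 1, 1, 2], [3, 3, 4, 2], [5, 6, 4, 5], [8, 6, 8, 7], [8, 9, 10, 9], [11, 9, 8, 10], [11, 12, 10, 12], [13, 11, 11, 10], [13, 12, 14, 14], [13, 15, 13, 12], [15, 15, 14, 16], [15, 15, 16, 14], [17, 17, 18, 16], [17, 18, 16, 19], [19, 20, 18, 19], [20, 18, 19, 21], [22, 20, 22, 21], [20, 21, 21, 23], [22, 23, 24, 23], [25, 23, 22, 23], [25, 26, 24, 25], [27, 26, 28, 27], [29, 29, 28, 30], [31, 31, 31, 30]]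
    jst := [[2, 2, 2, 0], [6, 6, 0, 1], [5, 0, 1, 5], [0, 1, 0, 4], [1, 3, 0, 3], [5, 5, 1, 0], [5, 0, 1, 0], [6, 6, 6, 1], [4, 1, 0, 0], [6, 6, 6, 1], [5, 5, 1, 0], [6, 6, 0, 1], [6, 6, 0, 1], [5, 0, 1, 5], [5, 0, 1, 5], [0, 1, 4, 4], [0, 1, 0, 4], [1, 3, 3, 3], [1, 3, 0, 3], [5, 5, 1, 5], [5, 0, 1, 5], [4, 1, 0, 4], [5, 5, 1, 0], [6, 6, 6, 1]]
    vecs := [![0, 0, 0, 1], ![0, 0, 1, -1], ![0, 1, -1, 0], ![1, -1, 1, 0], ![-1, 0, 1, 0], ![1, 0, -1, 1], ![-1, 1, -1, 1], ![1, 0, 0, -1], ![0, -1, 1, 1], ![-1, 1, 0, -1], ![0, 0, -1, 2], ![0, -1, 2, -1], ![0, 0, 1, -2], ![0, 1, -2, 1], ![0, 1, -1, -1], ![1, -1, 0, 1], ![1, -1, 1, -1], ![-1, 0, 0, 1], ![-1, 0, 1, -1], ![1, 0, -1, 0], ![-1, 1, -1, 0], ![0, -1, 1, 0], ![0, 0, -1, 1], ![0, 0, 0, -1]] }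

def Ls : List (Lvl 4) := [L1, L2, L3, L4]

set_option maxHeartbeats 0 in
theorem hA : CM.IsLiftable A := by
  unfold CoxeterMatrix.IsLiftable
  decide +kernel

set_option maxHeartbeats 0 in
theorem hchk : chkAll CM A Ls = true := by decide +kernel

theorem card : Nat.card CM.Group = 1152 := by
  rw [card_group CM A hA Ls hchk]
  decide +kernel

set_option maxHeartbeats 0 in
theorem cox : orderOf (((List.finRange 4).map CM.simple).prod) = 12 := by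
  refine coxeter_order CM A hA Ls hchk 12 (by norm_num) ?_ ?_
  · decide +kernel
  · decide +kernel

end Cfsg.Agent.Helper17.CoxDataF4
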