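import Mathlib
import Cfsg.Agent.Helper17.MonoAut

/-!
# The hexacode over a concrete field with four elements (helper17)
-/

set_option autoImplicit false

namespace Cfsg.Agent.Helper17.Hexa

open Cfsg Cfsg.Agent.Helper17.Mono

/-- the field with four elements: `0, 1, ω, ω²` -/
inductive GF4 : Type
  | o | e | w | v
  deriving DecidableEq

instance : Fintype GF4 :=
  ⟨⟨([.o, .e, .w, .v] : List GF4), by decide⟩, fun x => by cases x <;> decide⟩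

namespace GF4

def add : GF4 → GF4 → GF4
  | .o, .o => .o
  | .o, .e => .e
  | .o, .w => .w
  | .o, .v => .v
  | .e, .o => .e
  | .e, .e => .o
  | .e, .w => .v
  | .e, .v => .w
  | .w, .o => .w
  | .w, .e => .v
  | .w, .w => .o
  | .w, .v => .e
  | .v, .o => .v
  | .v, .e => .w
  | .v, .w => .e
  | .v, .v => .o

def mul : GF4 → GF4 → GF4
  | .o, .o => .o
  | .o, .e => .o
  | .o, .w => .o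
  | .o, .v => .o
  | .e, .o => .o
  | .e, .e => .e
  | .e, .w => .w
  | .e, .v => .v
  | .w, .o => .o
  | .w, .e => .w
  | .w, .w => .v
  | .w, .v => .e
  | .v, .o => .o
  | .v, .e => .v
  | .v, .w => .e
  | .v, .v => .w

def inv : GF4 → GF4
  | .o => .o
  | .e => .e
  | .w => .v
  | .v => .w

instance : Add GF4 := ⟨add⟩
instance : Mul GF4 := ⟨mul⟩
instance : Zero GF4 := ⟨.o⟩
instance : One GF4 := ⟨.e⟩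
instance : Neg GF4 := ⟨id⟩
instance : Inv GF4 := ⟨inv⟩

instance : Field GF4 where
  add_assoc := by decide
  zero_add := by decide
  add_zero := by decide
  nsmul := nsmulRec
  zsmul := zsmulRec
  neg_add_cancel := by decide
  add_comm := by decide
  left_distrib := by decide
  right_distrib := by decide
  zero_mul := by decide
  mul_zero := by decide
  mul_assoc := by decide
  one_mul := by decide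
  mul_one := by decide
  mul_comm := by decide
  exists_pair_ne := ⟨.o, .e, by decide⟩
  mul_inv_cancel := by decide
  inv_zero := rfl
  nnqsmul := _
  qsmul := _

end GF4

theorem card_GF4 : Fintype.card GF4 = 4 := rfl

theorem root_cases : ∀ x : GF4, x ^ 2 + x + 1 = 0 → x = .w ∨ x = .v := by decide

/-- the generators of the hexacode -/
def gv (ω : GF4) : Fin 3 → Fin 6 → GF4 :=
  ![![ω, ω ^ 2, ω ^ 2, ω, ω ^ 2, ω], ![ω ^ 2, ω, ω, ω ^ 2, ω ^ 2, ω],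
    ![ω ^ 2, ω, ω ^ 2, ω, ω, ω ^ 2]]

theorem hexa_eq (ω : GF4) :
    hexacode GF4 ω = Submodule.span GF4 {gv ω 0, gv ω 1, gv ω 2} := rfl

theorem mem_hexa (ω : GF4) (x : Fin 6 → GF4) :
    x ∈ hexacode GF4 ω ↔ ∃ a b c : GF4, a • gv ω 0 + b • gv ω 1 + c • gv ω 2 = x := by
  rw [hexa_eq, Submodule.mem_span_triple]

theorem gv_mem (ω : GF4) (m : Fin 3) : gv ω m ∈ hexacode GF4 ω := by
  rw [hexa_eq]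
  apply Submodule.subset_span
  fin_cases m <;> simp

def ofN : ℕ → GF4
  | 1 => .e
  | 2 => .w
  | 3 => .v
  | _ => .o

def tW : List (List ℕ) :=
  [[], [], [], [], [], [],
   [], [], [1, 1, 1, 1, 3, 2], [1, 1, 1, 1, 2, 3], [1, 1, 3, 2, 1, 1], [1, 1, 2, 3, 1, 1],
   [], [1, 1, 1, 1, 2, 3], [], [1, 1, 1, 1, 3, 2], [1, 3, 2, 1, 3, 2], [1, 2, 3, 1, 3, 2],
   [], [1, 1, 1, 1, 3, 2], [1, 1, 1, 1, 2, 3], [], [1, 2, 1, 3, 2, 3], [1, 3, 1, 2, 2, 3],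
   [], [1, 1, 2, 3, 1, 1], [1, 3, 3, 2, 2, 1], [1, 2, 3, 2, 3, 1], [], [1, 1, 3, 2, 1, 1],
   [], [1, 1, 3, 2, 1, 1], [1, 2, 2, 3, 1, 3], [1, 3, 2, 3, 1, 2], [1, 1, 2, 3, 1, 1], [],
   [], [], [1, 1, 1, 1, 2, 3], [1, 1, 1, 1, 3, 2], [1, 1, 2, 3, 1, 1], [1, 1, 3, 2, 1, 1],
   [], [], [], [], [], [],
   [1, 1, 1, 1, 3, 2], [], [], [1, 1, 1, 1, 2, 3], [1, 3, 2, 3, 1, 2], [1, 2, 3, 2, 3, 1],
   [1, 1, 1, 1, 2, 3], [], [1, 1, 1, 1, 3, 2], [], [1, 2, 2, 3, 1, 3], [1, 3, 3, 2, 2, 1],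
   [1, 1, 3, 2, 1, 1], [], [1, 3, 1, 2, 2, 3], [1, 2, 3, 1, 3, 2], [], [1, 1, 2, 3, 1, 1],
   [1, 1, 2, 3, 1, 1], [], [1, 2, 1, 3, 2, 3], [1, 3, 2, 1, 3, 2], [1, 1, 3, 2, 1, 1], [],
   [], [1, 1, 1, 1, 3, 2], [], [1, 1, 1, 1, 2, 3], [1, 3, 3, 2, 2, 1], [1, 2, 2, 3, 1, 3],
   [1, 1, 1, 1, 2, 3], [], [], [1, 1, 1, 1, 3, 2], [1, 3, 1, 2, 2, 3], [1, 2, 1, 3, 2, 3],
   [], [], [], [], [], [],
   [1, 1, 1, 1, 3, 2], [1, 1, 1, 1, 2, 3], [], [], [1, 3, 2, 2, 2, 2], [1, 2, 3, 3, 3, 3],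
   [1, 3, 2, 1, 3, 2], [1, 3, 2, 3, 1, 2], [], [1, 2, 3, 3, 3, 3], [], [1, 3, 2, 2, 2, 2],
   [1, 2, 3, 1, 3, 2], [1, 2, 3, 2, 3, 1], [], [1, 3, 2, 2, 2, 2], [1, 2, 3, 3, 3, 3], [],
   [], [1, 1, 1, 1, 2, 3], [1, 1, 1, 1, 3, 2], [], [1, 2, 3, 2, 3, 1], [1, 3, 2, 3, 1, 2],
   [1, 1, 1, 1, 3, 2], [], [1, 1, 1, 1, 2, 3], [], [1, 2, 3, 1, 3, 2], [1, 3, 2, 1, 3, 2],
   [1, 1, 1, 1, 2, 3], [1, 1, 1, 1, 3, 2], [], [], [1, 2, 3, 3, 3, 3], [1, 3, 2, 2, 2, 2],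
   [], [], [], [], [], [],
   [1, 2, 1, 3, 2, 3], [1, 2, 2, 3, 1, 3], [1, 3, 2, 2, 2, 2], [], [], [1, 2, 3, 3, 3, 3],
   [1, 3, 1, 2, 2, 3], [1, 3, 3, 2, 2, 1], [1, 2, 3, 3, 3, 3], [], [1, 3, 2, 2, 2, 2], [],
   [], [1, 1, 3, 2, 1, 1], [1, 3, 2, 1, 3, 2], [1, 2, 1, 3, 2, 3], [], [1, 1, 2, 3, 1, 1],
   [1, 1, 2, 3, 1, 1], [], [1, 3, 2, 3, 1, 2], [1, 2, 2, 3, 1, 3], [], [1, 1, 3, 2, 1, 1],
   [1, 3, 3, 2, 2, 1], [1, 3, 1, 2, 2, 3], [], [1, 3, 2, 2, 2, 2], [], [1, 2, 3, 3, 3, 3],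
   [1, 2, 3, 2, 3, 1], [1, 2, 3, 1, 3, 2], [1, 2, 3, 3, 3, 3], [], [], [1, 3, 2, 2, 2, 2],
   [], [], [], [], [], [],
   [1, 1, 3, 2, 1, 1], [1, 1, 2, 3, 1, 1], [1, 3, 2, 2, 2, 2], [1, 2, 3, 3, 3, 3], [], [],
   [], [1, 1, 2, 3, 1, 1], [1, 2, 3, 1, 3, 2], [1, 3, 1, 2, 2, 3], [1, 1, 3, 2, 1, 1], [],
   [1, 1, 3, 2, 1, 1], [], [1, 2, 3, 2, 3, 1], [1, 3, 3, 2, 2, 1], [1, 1, 2, 3, 1, 1], [],
   [1, 2, 2, 3, 1, 3], [1, 2, 1, 3, 2, 3], [], [1, 2, 3, 3, 3, 3], [1, 3, 2, 2, 2, 2], [],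
   [1, 3, 2, 3, 1, 2], [1, 3, 2, 1, 3, 2], [1, 3, 2, 2, 2, 2], [], [1, 2, 3, 3, 3, 3], [],
   [1, 1, 2, 3, 1, 1], [1, 1, 3, 2, 1, 1], [1, 2, 3, 3, 3, 3], [1, 3, 2, 2, 2, 2], [], [],
   [], [], [], [], [], [],
   [], [], [], [], [], [],
   [], [], [1, 1, 1, 1, 2, 3], [1, 1, 1, 1, 3, 2], [1, 1, 2, 3, 1, 1], [1, 1, 3, 2, 1, 1],
   [], [1, 1, 1, 1, 3, 2], [], [1, 1, 1, 1, 2, 3], [1, 2, 3, 1, 2, 3], [1, 3, 2, 1, 2, 3],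
   [], [1, 1, 1, 1, 2, 3], [1, 1, 1, 1, 3, 2], [], [1, 3, 1, 2, 3, 2], [1, 2, 1, 3, 3, 2],
   [], [1, 1, 3, 2, 1, 1], [1, 2, 2, 3, 3, 1], [1, 3, 2, 3, 2, 1], [], [1, 1, 2, 3, 1, 1],
   [], [1, 1, 2, 3, 1, 1], [1, 3, 3, 2, 1, 2], [1, 2, 3, 2, 1, 3], [1, 1, 3, 2, 1, 1], [],
   [], [], [1, 1, 1, 1, 3, 2], [1, 1, 1, 1, 2, 3], [1, 1, 3, 2, 1, 1], [1, 1, 2, 3, 1, 1],
   [], [], [], [], [], [],
   [1, 1, 1, 1, 2, 3], [], [], [1, 1, 1, 1, 3, 2], [1, 2, 3, 2, 1, 3], [1, 3, 2, 3, 2, 1],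
   [1, 1, 1, 1, 3, 2], [], [1, 1, 1, 1, 2, 3], [], [1, 3, 3, 2, 1, 2], [1, 2, 2, 3, 3, 1],
   [1, 1, 2, 3, 1, 1], [], [1, 2, 1, 3, 3, 2], [1, 3, 2, 1, 2, 3], [], [1, 1, 3, 2, 1, 1],
   [1, 1, 3, 2, 1, 1], [], [1, 3, 1, 2, 3, 2], [1, 2, 3, 1, 2, 3], [1, 1, 2, 3, 1, 1], [],
   [], [1, 1, 1, 1, 2, 3], [], [1, 1, 1, 1, 3, 2], [1, 2, 2, 3, 3, 1], [1, 3, 3, 2, 1, 2],
   [1, 1, 1, 1, 3, 2], [], [], [1, 1, 1, 1, 2, 3], [1, 2, 1, 3, 3, 2], [1, 3, 1, 2, 3, 2],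
   [], [], [], [], [], [],
   [1, 1, 1, 1, 2, 3], [1, 1, 1, 1, 3, 2], [], [], [1, 2, 3, 3, 3, 3], [1, 3, 2, 2, 2, 2],
   [1, 2, 3, 1, 2, 3], [1, 2, 3, 2, 1, 3], [], [1, 3, 2, 2, 2, 2], [], [1, 2, 3, 3, 3, 3],
   [1, 3, 2, 1, 2, 3], [1, 3, 2, 3, 2, 1], [], [1, 2, 3, 3, 3, 3], [1, 3, 2, 2, 2, 2], [],
   [], [1, 1, 1, 1, 3, 2], [1, 1, 1, 1, 2, 3], [], [1, 3, 2, 3, 2, 1], [1, 2, 3, 2, 1, 3],
   [1, 1, 1, 1, 2, 3], [], [1, 1, 1, 1, 3, 2], [], [1, 3, 2, 1, 2, 3], [1, 2, 3, 1, 2, 3],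
   [1, 1, 1, 1, 3, 2], [1, 1, 1, 1, 2, 3], [], [], [1, 3, 2, 2, 2, 2], [1, 2, 3, 3, 3, 3],
   [], [], [], [], [], [],
   [1, 3, 1, 2, 3, 2], [1, 3, 3, 2, 1, 2], [1, 2, 3, 3, 3, 3], [], [], [1, 3, 2, 2, 2, 2],
   [1, 2, 1, 3, 3, 2], [1, 2, 2, 3, 3, 1], [1, 3, 2, 2, 2, 2], [], [1, 2, 3, 3, 3, 3], [],
   [], [1, 1, 2, 3, 1, 1], [1, 2, 3, 1, 2, 3], [1, 3, 1, 2, 3, 2], [], [1, 1, 3, 2, 1, 1],
   [1, 1, 3, 2, 1, 1], [], [1, 2, 3, 2, 1, 3], [1, 3, 3, 2, 1, 2], [], [1, 1, 2, 3, 1, 1],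
   [1, 2, 2, 3, 3, 1], [1, 2, 1, 3, 3, 2], [], [1, 2, 3, 3, 3, 3], [], [1, 3, 2, 2, 2, 2],
   [1, 3, 2, 3, 2, 1], [1, 3, 2, 1, 2, 3], [1, 3, 2, 2, 2, 2], [], [], [1, 2, 3, 3, 3, 3],
   [], [], [], [], [], [],
   [1, 1, 2, 3, 1, 1], [1, 1, 3, 2, 1, 1], [1, 2, 3, 3, 3, 3], [1, 3, 2, 2, 2, 2], [], [],
   [], [1, 1, 3, 2, 1, 1], [1, 3, 2, 1, 2, 3], [1, 2, 1, 3, 3, 2], [1, 1, 2, 3, 1, 1], [],
   [1, 1, 2, 3, 1, 1], [], [1, 3, 2, 3, 2, 1], [1, 2, 2, 3, 3, 1], [1, 1, 3, 2, 1, 1], [],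
   [1, 3, 3, 2, 1, 2], [1, 3, 1, 2, 3, 2], [], [1, 3, 2, 2, 2, 2], [1, 2, 3, 3, 3, 3], [],
   [1, 2, 3, 2, 1, 3], [1, 2, 3, 1, 2, 3], [1, 2, 3, 3, 3, 3], [], [1, 3, 2, 2, 2, 2], [],
   [1, 1, 3, 2, 1, 1], [1, 1, 2, 3, 1, 1], [1, 3, 2, 2, 2, 2], [1, 2, 3, 3, 3, 3], [], [],
   [], [], [], [], [], []]

/-- the diagonal part making the three-cycle `swap i j * swap j k` an automorphism -/
def Wt (ω : GF4) (i j k : Fin 6) (p : Fin 6) : GF4 :=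
  ofN ((tW.getD ((((if ω = .w then 0 else 1) * 6 + i.val) * 6 + j.val) * 6 + k.val) []).getD p.val 0)

set_option maxHeartbeats 0 in
theorem cyc_data : ∀ ω : GF4, (ω = .w ∨ ω = .v) → ∀ i j k : Fin 6, i ≠ j → i ≠ k → j ≠ k →
    (∀ p, Wt ω i j k p ≠ 0) ∧ ∀ m : Fin 3, ∃ a b c : GF4,
      a • gv ω 0 + b • gv ω 1 + c • gv ω 2 =
        fun p => Wt ω i j k p * gv ω m ((Equiv.swap i j * Equiv.swap j k).symm p) := by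
  decide +kernel

set_option maxHeartbeats 0 in
theorem swap_data : ∀ ω : GF4, (ω = .w ∨ ω = .v) → ∀ c0 : GF4, c0 ≠ 0 → ∀ c1 : GF4, c1 ≠ 0 →
    ∀ c2 : GF4, c2 ≠ 0 → ∀ c3 : GF4, c3 ≠ 0 → ∀ c4 : GF4, c4 ≠ 0 → ∀ c5 : GF4, c5 ≠ 0 →
    ¬ ∀ m : Fin 3, ∃ a b c : GF4, a • gv ω 0 + b • gv ω 1 + c • gv ω 2 =
      fun p => (![c0, c1, c2, c3, c4, c5] : Fin 6 → GF4) p *
        gv ω m ((Equiv.swap (0 : Fin 6) 1).symm p) := by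
  decide +kernel

set_option maxHeartbeats 0 in
theorem diag_data : ∀ ω : GF4, (ω = .w ∨ ω = .v) → ∀ c0 : GF4, c0 ≠ 0 → ∀ c1 : GF4, c1 ≠ 0 →
    ∀ c2 : GF4, c2 ≠ 0 → ∀ c3 : GF4, c3 ≠ 0 → ∀ c4 : GF4, c4 ≠ 0 → ∀ c5 : GF4, c5 ≠ 0 →
    (∀ m : Fin 3, ∃ a b c : GF4, a • gv ω 0 + b • gv ω 1 + c • gv ω 2 =
      fun p => (![c0, c1, c2, c3, c4, c5] : Fin 6 → GF4) p * gv ω m p) →
    c0 = c1 ∧ c1 = c2 ∧ c2 = c3 ∧ c3 = c4 ∧ c4 = c5 := by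
  decide +kernel

end Cfsg.Agent.Helper17.Hexa
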