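import Mathlib

/-!
# Packed arrays for kernel computations (helper17)
-/

set_option autoImplicit false

namespace Cfsg.Agent.Helper17.TC

noncomputable section

/-- packed arrays: a binary tree of chunks (the chunk index is read from its lowest bit) -/
inductive Arr where
  | leaf (a : ℕ) : Arr
  | node (l r : Arr) : Arr

/-- the chunk with index `i` -/
def Arr.get (t : Arr) : ℕ → ℕ :=
  Arr.rec (motive := fun _ => ℕ → ℕ) (fun a _ => a)
    (fun _ _ ihl ihr i =>
      Nat.rec (motive := fun _ => ℕ) (ihl (Nat.shiftRight i 1)) (fun _ _ => ihr (Nat.shiftRight i 1))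
        (Nat.land i 1)) t

end

end Cfsg.Agent.Helper17.TC
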