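import Mathlib
import Cfsg.Agent.Helper17.TCArr

/-!
# Certified coset enumeration (helper17)

A kernel-checkable certificate that a subgroup `H` of a finitely presented group `G` has index `N`.

* `(I)`  every coset is one of `N` cosets `q 0, …, q (N-1)`: a replay of a Todd–Coxeter run.
  The run is stored statically: for every vertex `v` and column `x` the first value `t` ever
  assigned to `v·x` together with its rank (time) and a justification (definition, inverse entry,
  relator scan with one gap, transfer along a coincidence), and for every vertex that was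
  eliminated a link to an equal vertex, justified by a closed relator scan or by two entries with
  equal sources.  Every justification only uses facts of smaller rank.
* `(II)` the `N` cosets are distinct: the final coset table is a permutation representation of `G`
  on `N` points in which `H` fixes the point `0`.

All tables are packed into natural numbers (fixed width fields) and all loops are written with
raw recursors so that the kernel evaluates the checks quickly.
-/

set_option autoImplicit false

namespace Cfsg.Agent.Helper17.TC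

noncomputable section

/-- strict application: the kernel evaluates `n` before continuing -/
def force {α : Type} (n : ℕ) (f : ℕ → α) : α :=
  Nat.rec (motive := fun _ => α) (f 0) (fun k _ => f (Nat.succ k)) n

theorem force_eq {α : Type} (n : ℕ) (f : ℕ → α) : force n f = f n := by
  cases n <;> rfl

/-- `i`-th element of a list of numbers (default `0`) -/
def getL (l : List ℕ) : ℕ → ℕ :=
  List.rec (motive := fun _ => ℕ → ℕ) (fun _ => 0)
    (fun a _ ih i => Nat.rec (motive := fun _ => ℕ) a (fun k _ => ih k) i) l

/-- `i`-th element of a list of words (default `[]`) -/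
def getW (l : List (List ℕ)) : ℕ → List ℕ :=
  List.rec (motive := fun _ => ℕ → List ℕ) (fun _ => [])
    (fun a _ ih i => Nat.rec (motive := fun _ => List ℕ) a (fun k _ => ih k) i) l

/-- `i`-th element of a list of arrays -/
def getA (l : List Arr) : ℕ → Arr :=
  List.rec (motive := fun _ => ℕ → Arr) (fun _ => Arr.leaf 0)
    (fun a _ ih i => Nat.rec (motive := fun _ => Arr) a (fun k _ => ih k) i) l

/-- the certificate -/
structure Cert where
  ncols : ℕ
  M : ℕ
  N : ℕ
  bt : ℕ
  mt : ℕ
  W : ℕ
  mW : ℕ
  WJ : ℕ
  mJ : ℕ
  bn : ℕ
  mn : ℕ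
  fuel : ℕ
  invc : List ℕ
  rels : List (List ℕ)
  subs : List (List ℕ)
  ck : ℕ
  cm : ℕ
  T : List Arr
  J : List Arr
  P : Arr
  F : List Arr

section Final

variable (c : Cert)

/-- field `v` (width `W`, mask `m`) of a packed array.  The chunk index is evaluated first, so
that the kernel looks up the chunk `Arr.get t i` in its cache instead of walking the tree again. -/
def fld (t : Arr) (W m v : ℕ) : ℕ :=
  force (Nat.shiftRight v c.ck) fun i =>
    Nat.land (Nat.shiftRight (Arr.get t i) (Nat.mul W (Nat.land v c.cm))) m

/-- final coset table: image of the point `v` under column `x` -/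
def stepF (x v : ℕ) : ℕ := fld c (getA c.F x) c.bn c.mn v

def walkF (w : List ℕ) : ℕ → ℕ :=
  List.rec (motive := fun _ => ℕ → ℕ) (fun v => v) (fun x _ ih v => force (stepF c x v) ih) w

/-- all words of the list fix `v` -/
def fixAll (ws : List (List ℕ)) (v : ℕ) : Bool :=
  List.rec (motive := fun _ => Bool) true
    (fun w _ ih => cond (Nat.beq (walkF c w v) v) ih false) ws

/-- the columns `x < n` are mutually inverse permutations at `v` -/
def permAt (v : ℕ) : ℕ → Bool :=
  Nat.rec (motive := fun _ => Bool) true
    (fun x ih => cond (Nat.blt (stepF c x v) c.N)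
      (cond (Nat.beq (stepF c (getL c.invc x) (stepF c x v)) v) ih false) false)

/-- parent of a vertex and the column leading to it -/
def parV (v : ℕ) : ℕ := Nat.land (fld c c.P c.W c.mW v) c.mt
def pcolV (v : ℕ) : ℕ := Nat.shiftRight (fld c c.P c.W c.mW v) c.bt

/-- the spanning tree condition at `v` -/
def treeAt (v : ℕ) : Bool :=
  Nat.rec (motive := fun _ => Bool) true
    (fun _ _ => cond (Nat.blt (parV c v) v)
      (cond (Nat.blt (pcolV c v) c.ncols) (Nat.beq (stepF c (pcolV c v) (parV c v)) v) false) false) v

/-- all checks of part (II) at the point `v` -/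
def chkVF (v : ℕ) : Bool :=
  cond (permAt c v c.ncols) (cond (fixAll c c.rels v) (treeAt c v) false) false

/-- part (II) for the points `lo, …, lo + n - 1` -/
def chkRangeF (lo : ℕ) : ℕ → Bool :=
  Nat.rec (motive := fun _ => Bool) true
    (fun k ih => cond (chkVF c (Nat.add lo k)) ih false)

end Final

section Replay

variable (c : Cert)

/-- entry of the replay table: column `x` (`x = ncols`: the links), vertex `v` -/
def entT (x v : ℕ) : ℕ := fld c (getA c.T x) c.W c.mW v

/-- justification of an entry -/
def entJ (x v : ℕ) : ℕ := fld c (getA c.J x) c.WJ c.mJ v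

/-- target field (`t + 1`, or `0`) and rank field of an entry -/
def tg (e : ℕ) : ℕ := Nat.land e c.mt
def rk (e : ℕ) : ℕ := Nat.shiftRight e c.bt

def normStep (r : ℕ) (ih : ℕ → ℕ) (v : ℕ) : ℕ :=
  force (entT c c.ncols v) fun e =>
    Nat.rec (motive := fun _ => ℕ) v
      (fun t _ => cond (Nat.blt (rk c e) r) (ih t) v) (tg c e)

/-- follow the links of rank `< r` -/
def normR (r : ℕ) : ℕ → ℕ → ℕ :=
  Nat.rec (motive := fun _ => ℕ → ℕ) (fun v => v) (fun _ ih v => normStep c r ih v)

/-- one step from a vertex: `t + 1`, or `0` on failure -/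
def stepR (r x v : ℕ) : ℕ :=
  force (entT c x v) fun e =>
    Nat.rec (motive := fun _ => ℕ) 0
      (fun t _ => cond (Nat.blt (rk c e) r) (force (normR c r c.fuel t) Nat.succ) 0) (tg c e)

/-- walk along a word; the state is `v + 1`, or `0` after a failure -/
def walkR (r : ℕ) (w : List ℕ) : ℕ → ℕ :=
  List.rec (motive := fun _ => ℕ → ℕ) (fun s => s)
    (fun x _ ih s => Nat.rec (motive := fun _ => ℕ) 0 (fun v _ => ih (stepR c r x v)) s) w

/-- walk along the first `j` letters, then continue with `k` -/
def walkSplit (r : ℕ) (k : ℕ → List ℕ → Bool) : ℕ → List ℕ → ℕ → Bool :=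
  Nat.rec (motive := fun _ => List ℕ → ℕ → Bool) (fun w s => k s w)
    (fun _ ih w s => List.rec (motive := fun _ => Bool) false
      (fun x xs _ => Nat.rec (motive := fun _ => Bool) false (fun v _ => ih xs (stepR c r x v)) s) w)

/-- relator scan with one gap: `s --(first j letters)--> v`, gap letter `x`, `t --(rest)--> s` -/
def scanT (r : ℕ) (w : List ℕ) (j s x v t : ℕ) : Bool :=
  force (normR c r c.fuel s) fun s0 =>
    walkSplit c r (fun s1 rest =>
      cond (Nat.beq s1 (Nat.succ (normR c r c.fuel v)))
        (List.rec (motive := fun _ => Bool) false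
          (fun y ys _ => cond (Nat.beq y x)
            (force (normR c r c.fuel t) fun nt => Nat.beq (walkR c r ys (Nat.succ nt)) (Nat.succ s0))
            false) rest)
        false) j w (Nat.succ s0)

/-- closed relator scan: `s --(first j letters)--> a`, `b --(rest)--> s` -/
def scanE (r : ℕ) (w : List ℕ) (j s a b : ℕ) : Bool :=
  force (normR c r c.fuel s) fun s0 =>
    walkSplit c r (fun s1 rest =>
      cond (Nat.beq s1 (Nat.succ (normR c r c.fuel a)))
        (force (normR c r c.fuel b) fun nb => Nat.beq (walkR c r rest (Nat.succ nb)) (Nat.succ s0))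
        false) j w (Nat.succ s0)

def jTy (J : ℕ) : ℕ := Nat.land J 7
def jK (J : ℕ) : ℕ := Nat.land (Nat.shiftRight J 3) 255
def jJ (J : ℕ) : ℕ := Nat.land (Nat.shiftRight J 11) 255
def jO (J : ℕ) : ℕ := Nat.land (Nat.shiftRight J 19) 1
def jX (J : ℕ) : ℕ := Nat.land (Nat.shiftRight J 20) 15
def jS (J : ℕ) : ℕ := Nat.land (Nat.shiftRight J 24) c.mt
def jS2 (J : ℕ) : ℕ := Nat.land (Nat.shiftRight J (Nat.add 24 c.bt)) c.mt

/-- check of the justification of the entry `v·x = t` of rank `r` -/
def chkTJ (x v t r J : ℕ) : Bool :=
  match jTy J with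
  | 0 => Nat.beq (parV c t) v && (Nat.beq (pcolV c t) x && Nat.blt v t)
  | 1 => Nat.beq (tg c (entT c (getL c.invc x) t)) (Nat.succ v) &&
      Nat.blt (rk c (entT c (getL c.invc x) t)) r
  | 2 => Nat.blt (jS c J) c.M && scanT c r (getW c.rels (jK J)) (jJ J) (jS c J) x v t
  | 3 => scanT c r (getW c.subs (jK J)) (jJ J) 0 x v t
  | 4 => Nat.blt (jS c J) c.M && (Nat.beq (normR c r c.fuel (jS c J)) (normR c r c.fuel v) &&
      (force (entT c x (jS c J)) fun e' =>
        Nat.rec (motive := fun _ => Bool) false
          (fun t' _ => Nat.blt (rk c e') r &&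
            Nat.beq (normR c r c.fuel t') (normR c r c.fuel t)) (tg c e')))
  | _ => false

def chkT (x v : ℕ) : Bool :=
  force (entT c x v) fun e =>
    Nat.rec (motive := fun _ => Bool) true
      (fun t _ => Nat.blt t c.M && chkTJ c x v t (rk c e) (entJ c x v)) (tg c e)

/-- check of the justification of the link `v = t` of rank `r` -/
def chkEJ (v t r J : ℕ) : Bool :=
  match jTy J with
  | 5 => Nat.blt (jS c J) c.M &&
      cond (Nat.beq (jO J) 0) (scanE c r (getW c.rels (jK J)) (jJ J) (jS c J) v t)
        (scanE c r (getW c.rels (jK J)) (jJ J) (jS c J) t v)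
  | 6 => cond (Nat.beq (jO J) 0) (scanE c r (getW c.subs (jK J)) (jJ J) 0 v t)
        (scanE c r (getW c.subs (jK J)) (jJ J) 0 t v)
  | 7 => Nat.blt (jS c J) c.M && (Nat.blt (jS2 c J) c.M && (Nat.blt (jX J) c.ncols &&
      (Nat.beq (normR c r c.fuel (jS c J)) (normR c r c.fuel (jS2 c J)) &&
      (force (entT c (jX J) (jS c J)) fun ea => force (entT c (jX J) (jS2 c J)) fun eb =>
        Nat.rec (motive := fun _ => Bool) false
          (fun ta _ => Nat.rec (motive := fun _ => Bool) false
            (fun tb _ => Nat.blt (rk c ea) r && (Nat.blt (rk c eb) r &&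
              cond (Nat.beq (jO J) 0)
                (Nat.beq (normR c r c.fuel ta) (normR c r c.fuel v) &&
                  Nat.beq (normR c r c.fuel tb) (normR c r c.fuel t))
                (Nat.beq (normR c r c.fuel ta) (normR c r c.fuel t) &&
                  Nat.beq (normR c r c.fuel tb) (normR c r c.fuel v))))
            (tg c eb)) (tg c ea)))))
  | _ => false

def chkE (v : ℕ) : Bool :=
  force (entT c c.ncols v) fun e =>
    Nat.rec (motive := fun _ => Bool) true
      (fun t _ => Nat.blt t c.M && chkEJ c v t (rk c e) (entJ c c.ncols v)) (tg c e)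

/-- check of all entries of the vertex `v` in the columns `< n` -/
def chkRow (v : ℕ) : ℕ → Bool :=
  Nat.rec (motive := fun _ => Bool) (chkE c v) (fun x ih => cond (chkT c x v) ih false)

/-- part (I) for the vertices `lo, …, lo + n - 1` -/
def chkRangeT (lo : ℕ) : ℕ → Bool :=
  Nat.rec (motive := fun _ => Bool) true
    (fun k ih => cond (chkRow c (Nat.add lo k) c.ncols) ih false)

/-- the final table agrees with the replay table at the real vertex `v` (columns `< n`) -/
def finAt (v : ℕ) : ℕ → Bool :=
  Nat.rec (motive := fun _ => Bool) true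
    (fun x ih => force (entT c x v) fun e =>
      Nat.rec (motive := fun _ => Bool) false
        (fun t _ => cond (Nat.blt (rk c e) (Nat.succ c.mW))
          (cond (Nat.beq (normR c (Nat.succ c.mW) c.fuel t) (stepF c x v)) ih false) false) (tg c e))

/-- the link between (I) and (II) for the points `lo, …, lo + n - 1` -/
def chkRangeFin (lo : ℕ) : ℕ → Bool :=
  Nat.rec (motive := fun _ => Bool) true
    (fun k ih => cond (finAt c (Nat.add lo k) c.ncols) ih false)

end Replay

end

end Cfsg.Agent.Helper17.TC
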