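import Mathlib
import Cfsg.Agent.Helper17.TC

/-!
# Soundness of the coset enumeration certificate (helper17)
-/

set_option autoImplicit false

namespace Cfsg.Agent.Helper17.TC

noncomputable section

variable (c : Cert)

/-! ### unfolding lemmas -/

theorem normR_zero (r v : ℕ) : normR c r 0 v = v := rfl

theorem normR_succ (r n v : ℕ) : normR c r (n + 1) v = normStep c r (normR c r n) v := rfl

theorem walkR_nil (r s : ℕ) : walkR c r [] s = s := rfl

theorem walkR_cons_succ (r x : ℕ) (w : List ℕ) (v : ℕ) :
    walkR c r (x :: w) (v + 1) = walkR c r w (stepR c r x v) := rfl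

theorem walkR_zero (r : ℕ) (w : List ℕ) : walkR c r w 0 = 0 := by
  cases w with
  | nil => rfl
  | cons x w => rfl

theorem walkSplit_zero (r : ℕ) (k : ℕ → List ℕ → Bool) (w : List ℕ) (s : ℕ) :
    walkSplit c r k 0 w s = k s w := rfl

theorem walkSplit_succ_nil (r : ℕ) (k : ℕ → List ℕ → Bool) (j s : ℕ) :
    walkSplit c r k (j + 1) [] s = false := rfl

theorem walkSplit_succ_cons_zero (r : ℕ) (k : ℕ → List ℕ → Bool) (j x : ℕ) (xs : List ℕ) :
    walkSplit c r k (j + 1) (x :: xs) 0 = false := rfl

theorem walkSplit_succ_cons_succ (r : ℕ) (k : ℕ → List ℕ → Bool) (j x : ℕ) (xs : List ℕ) (v : ℕ) :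
    walkSplit c r k (j + 1) (x :: xs) (v + 1) = walkSplit c r k j xs (stepR c r x v) := rfl

theorem walkSplit_spec (r : ℕ) (k : ℕ → List ℕ → Bool) : ∀ (j : ℕ) (w : List ℕ) (s : ℕ),
    walkSplit c r k j w s = true →
      ∃ pre rest, w = pre ++ rest ∧ k (walkR c r pre s) rest = true := by
  intro j
  induction j with
  | zero =>
    intro w s h
    exact ⟨[], w, rfl, h⟩
  | succ j ih =>
    intro w s h
    cases w with
    | nil => rw [walkSplit_succ_nil] at h; exact absurd h (by simp)
    | cons x xs =>
      cases s with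
      | zero => rw [walkSplit_succ_cons_zero] at h; exact absurd h (by simp)
      | succ v =>
        rw [walkSplit_succ_cons_succ] at h
        obtain ⟨pre, rest, h1, h2⟩ := ih xs _ h
        exact ⟨x :: pre, rest, by rw [h1]; rfl, by rw [walkR_cons_succ]; exact h2⟩

/-! ### semantics -/

variable {Q : Type*} (act : ℕ → Q → Q) (o : Q)

/-- the coset attached to a vertex -/
def qv (v : ℕ) : Q :=
  if _h : parV c v < v then act (pcolV c v) (qv (parV c v)) else o
termination_by v

theorem qv_zero : qv c act o 0 = o := by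
  rw [qv]
  simp

theorem qv_of_lt {v : ℕ} (h : parV c v < v) :
    qv c act o v = act (pcolV c v) (qv c act o (parV c v)) := by
  rw [qv, dif_pos h]

/-- action of a word: the first letter acts first -/
def walkQ (w : List ℕ) (p : Q) : Q := w.foldl (fun p x => act x p) p

theorem walkQ_nil (p : Q) : walkQ act [] p = p := rfl

theorem walkQ_cons (x : ℕ) (w : List ℕ) (p : Q) : walkQ act (x :: w) p = walkQ act w (act x p) := rfl

theorem walkQ_append (w w' : List ℕ) (p : Q) :
    walkQ act (w ++ w') p = walkQ act w' (walkQ act w p) := by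
  unfold walkQ
  rw [List.foldl_append]

/-- the semantic hypotheses -/
structure Sem : Prop where
  hinvc : ∀ x < c.ncols, getL c.invc x < c.ncols ∧ getL c.invc (getL c.invc x) = x
  hinv : ∀ x < c.ncols, ∀ p : Q, act (getL c.invc x) (act x p) = p
  hrel : ∀ (k : ℕ) (p : Q), walkQ act (getW c.rels k) p = p
  hsub : ∀ k : ℕ, walkQ act (getW c.subs k) o = o
  hwr : ∀ k : ℕ, ∀ x ∈ getW c.rels k, x < c.ncols
  hws : ∀ k : ℕ, ∀ x ∈ getW c.subs k, x < c.ncols

variable {c act o}

theorem Sem.act_invc (S : Sem c act o) {x : ℕ} (hx : x < c.ncols) (p : Q) :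
    act x (act (getL c.invc x) p) = p := by
  have h1 := S.hinvc x hx
  have h2 := S.hinv (getL c.invc x) h1.1 p
  rwa [h1.2] at h2

theorem Sem.act_inj (S : Sem c act o) {x : ℕ} (hx : x < c.ncols) : Function.Injective (act x) :=
  Function.LeftInverse.injective (S.hinv x hx)

theorem Sem.walkQ_inj (S : Sem c act o) : ∀ (w : List ℕ), (∀ x ∈ w, x < c.ncols) →
    Function.Injective (walkQ act w) := by
  intro w
  induction w with
  | nil => intro _ p p' h; exact h
  | cons x w ih =>
    intro hw p p' h
    rw [walkQ_cons, walkQ_cons] at h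
    exact S.act_inj (hw x (by simp)) (ih (fun y hy => hw y (by simp [hy])) h)

variable (c act o)

/-- all facts of rank `< r` are true -/
def Good (r : ℕ) : Prop :=
  ∀ v < c.M,
    (∀ x < c.ncols, ∀ t, tg c (entT c x v) = t + 1 → rk c (entT c x v) < r →
      t < c.M ∧ act x (qv c act o v) = qv c act o t) ∧
    (∀ t, tg c (entT c c.ncols v) = t + 1 → rk c (entT c c.ncols v) < r →
      t < c.M ∧ qv c act o v = qv c act o t)

variable {c act o}

theorem normR_spec {r : ℕ} (hG : Good c act o r) : ∀ (fuel v : ℕ), v < c.M →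
    normR c r fuel v < c.M ∧ qv c act o (normR c r fuel v) = qv c act o v := by
  intro fuel
  induction fuel with
  | zero => intro v hv; exact ⟨hv, rfl⟩
  | succ n ih =>
    intro v hv
    rw [normR_succ]
    unfold normStep
    rw [force_eq]
    cases h : tg c (entT c c.ncols v) with
    | zero => exact ⟨hv, rfl⟩
    | succ t =>
      simp only [Nat.rec_add_one]
      cases hb : Nat.blt (rk c (entT c c.ncols v)) r with
      | false => exact ⟨hv, rfl⟩
      | true =>
        have hlt : rk c (entT c c.ncols v) < r := by rwa [Nat.blt_eq] at hb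
        obtain ⟨ht, he⟩ := (hG v hv).2 t h hlt
        obtain ⟨h1, h2⟩ := ih t ht
        simp only [cond_true]
        exact ⟨h1, by rw [h2, he]⟩

theorem stepR_spec {r : ℕ} (hG : Good c act o r) {x v t : ℕ} (hx : x < c.ncols) (hv : v < c.M)
    (h : stepR c r x v = t + 1) : t < c.M ∧ act x (qv c act o v) = qv c act o t := by
  unfold stepR at h
  rw [force_eq] at h
  cases h1 : tg c (entT c x v) with
  | zero => rw [h1] at h; exact absurd h (by simp)
  | succ t' =>
    rw [h1] at h
    simp only [Nat.rec_add_one] at h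
    cases hb : Nat.blt (rk c (entT c x v)) r with
    | false => rw [hb] at h; exact absurd h (by simp)
    | true =>
      rw [hb] at h
      simp only [cond_true, force_eq] at h
      have ht : normR c r c.fuel t' = t := Nat.succ.inj h
      obtain ⟨ht', he⟩ := (hG v hv).1 x hx t' h1 (by rwa [Nat.blt_eq] at hb)
      obtain ⟨h2, h3⟩ := normR_spec hG c.fuel t' ht'
      rw [ht] at h2 h3
      exact ⟨h2, by rw [he, h3]⟩

theorem walkR_spec {r : ℕ} (hG : Good c act o r) : ∀ (w : List ℕ), (∀ x ∈ w, x < c.ncols) →
    ∀ v t, v < c.M → walkR c r w (v + 1) = t + 1 →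
      t < c.M ∧ walkQ act w (qv c act o v) = qv c act o t := by
  intro w
  induction w with
  | nil =>
    intro _ v t hv h
    rw [walkR_nil] at h
    have : v = t := Nat.succ.inj h
    subst this
    exact ⟨hv, rfl⟩
  | cons x w ih =>
    intro hw v t hv h
    rw [walkR_cons_succ] at h
    cases hs : stepR c r x v with
    | zero => rw [hs, walkR_zero] at h; exact absurd h (by simp)
    | succ u =>
      rw [hs] at h
      obtain ⟨hu, he⟩ := stepR_spec hG (hw x (by simp)) hv hs
      obtain ⟨h1, h2⟩ := ih (fun y hy => hw y (by simp [hy])) u t hu h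
      exact ⟨h1, by rw [walkQ_cons, he, h2]⟩

theorem scanT_spec {r : ℕ} (hG : Good c act o r) (S : Sem c act o) {w : List ℕ}
    (hw : ∀ x ∈ w, x < c.ncols) {j s x v t : ℕ} (hs : s < c.M) (hv : v < c.M) (ht : t < c.M)
    (hfix : walkQ act w (qv c act o s) = qv c act o s)
    (h : scanT c r w j s x v t = true) : act x (qv c act o v) = qv c act o t := by
  unfold scanT at h
  rw [force_eq] at h
  obtain ⟨pre, rest, hsplit, hk⟩ := walkSplit_spec c r _ j w _ h
  obtain ⟨hs0, hqs0⟩ := normR_spec hG c.fuel s hs
  obtain ⟨hv0, hqv0⟩ := normR_spec hG c.fuel v hv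
  obtain ⟨ht0, hqt0⟩ := normR_spec hG c.fuel t ht
  cases hb : Nat.beq (walkR c r pre (Nat.succ (normR c r c.fuel s)))
      (Nat.succ (normR c r c.fuel v)) with
  | false => rw [hb] at hk; exact absurd hk (by simp)
  | true =>
    rw [hb] at hk
    simp only [cond_true] at hk
    have hpre := Nat.eq_of_beq_eq_true hb
    cases rest with
    | nil => exact absurd hk (by simp)
    | cons y ys =>
      simp only [] at hk
      cases hy : Nat.beq y x with
      | false => rw [hy] at hk; exact absurd hk (by simp)
      | true =>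
        rw [hy] at hk
        simp only [cond_true, force_eq] at hk
        have hyx : y = x := Nat.eq_of_beq_eq_true hy
        have hrest := Nat.eq_of_beq_eq_true hk
        subst hsplit hyx
        have hwpre : ∀ z ∈ pre, z < c.ncols := fun z hz => hw z (by simp [hz])
        have hwys : ∀ z ∈ ys, z < c.ncols := fun z hz => hw z (by simp [hz])
        obtain ⟨-, e1⟩ := walkR_spec hG pre hwpre _ _ hs0 hpre
        obtain ⟨-, e2⟩ := walkR_spec hG ys hwys _ _ ht0 hrest
        rw [hqs0, hqv0] at e1
        rw [hqt0, hqs0] at e2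
        rw [walkQ_append, walkQ_cons, e1, ← e2] at hfix
        exact S.walkQ_inj ys hwys hfix

theorem scanE_spec {r : ℕ} (hG : Good c act o r) (S : Sem c act o) {w : List ℕ}
    (hw : ∀ x ∈ w, x < c.ncols) {j s a b : ℕ} (hs : s < c.M) (ha : a < c.M) (hb : b < c.M)
    (hfix : walkQ act w (qv c act o s) = qv c act o s)
    (h : scanE c r w j s a b = true) : qv c act o a = qv c act o b := by
  unfold scanE at h
  rw [force_eq] at h
  obtain ⟨pre, rest, hsplit, hk⟩ := walkSplit_spec c r _ j w _ h
  obtain ⟨hs0, hqs0⟩ := normR_spec hG c.fuel s hs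
  obtain ⟨ha0, hqa0⟩ := normR_spec hG c.fuel a ha
  obtain ⟨hb0, hqb0⟩ := normR_spec hG c.fuel b hb
  cases hbq : Nat.beq (walkR c r pre (Nat.succ (normR c r c.fuel s)))
      (Nat.succ (normR c r c.fuel a)) with
  | false => rw [hbq] at hk; exact absurd hk (by simp)
  | true =>
    rw [hbq] at hk
    simp only [cond_true, force_eq] at hk
    have hpre := Nat.eq_of_beq_eq_true hbq
    have hrest := Nat.eq_of_beq_eq_true hk
    subst hsplit
    have hwpre : ∀ z ∈ pre, z < c.ncols := fun z hz => hw z (by simp [hz])
    have hwrest : ∀ z ∈ rest, z < c.ncols := fun z hz => hw z (by simp [hz])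
    obtain ⟨-, e1⟩ := walkR_spec hG pre hwpre _ _ hs0 hpre
    obtain ⟨-, e2⟩ := walkR_spec hG rest hwrest _ _ hb0 hrest
    rw [hqs0, hqa0] at e1
    rw [hqb0, hqs0] at e2
    rw [walkQ_append, e1, ← e2] at hfix
    exact S.walkQ_inj rest hwrest hfix

theorem chkTJ_spec {r : ℕ} (hG : Good c act o r) (S : Sem c act o) {x v t J : ℕ}
    (hx : x < c.ncols) (hv : v < c.M) (ht : t < c.M) (h : chkTJ c x v t r J = true) :
    act x (qv c act o v) = qv c act o t := by
  unfold chkTJ at h
  split at h
  · -- definition
    simp only [Bool.and_eq_true] at h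
    obtain ⟨h1, h2, h3⟩ := h
    have h1 := Nat.eq_of_beq_eq_true h1
    have h2 := Nat.eq_of_beq_eq_true h2
    rw [Nat.blt_eq] at h3
    have hlt : parV c t < t := by rw [h1]; exact h3
    rw [qv_of_lt c act o hlt, h1, h2]
  · -- inverse entry
    simp only [Bool.and_eq_true] at h
    obtain ⟨h1, h2⟩ := h
    have h1 := Nat.eq_of_beq_eq_true h1
    rw [Nat.blt_eq] at h2
    have hi := S.hinvc x hx
    obtain ⟨-, e⟩ := (hG t ht).1 _ hi.1 v h1 h2
    rw [← e, S.act_invc hx]
  · -- relator scan
    simp only [Bool.and_eq_true] at h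
    obtain ⟨h1, h2⟩ := h
    rw [Nat.blt_eq] at h1
    exact scanT_spec hG S (S.hwr _) h1 hv ht (S.hrel _ _) h2
  · -- subgroup generator scan
    have h0 : 0 < c.M := Nat.lt_of_le_of_lt (Nat.zero_le _) hv
    refine scanT_spec hG S (S.hws _) h0 hv ht ?_ h
    rw [qv_zero]
    exact S.hsub _
  · -- transfer
    simp only [Bool.and_eq_true] at h
    obtain ⟨h1, h2, h3⟩ := h
    rw [Nat.blt_eq] at h1
    have h2 := Nat.eq_of_beq_eq_true h2
    rw [force_eq] at h3
    cases he : tg c (entT c x (jS c J)) with
    | zero => rw [he] at h3; exact absurd h3 (by simp)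
    | succ t' =>
      rw [he] at h3
      simp only [Bool.and_eq_true] at h3
      obtain ⟨h4, h5⟩ := h3
      rw [Nat.blt_eq] at h4
      have h5 := Nat.eq_of_beq_eq_true h5
      obtain ⟨ht', e⟩ := (hG _ h1).1 x hx t' he h4
      have ea := (normR_spec hG c.fuel _ h1).2
      have ev := (normR_spec hG c.fuel _ hv).2
      have et' := (normR_spec hG c.fuel _ ht').2
      have et := (normR_spec hG c.fuel _ ht).2
      rw [← ev, ← h2, ea, e, ← et', h5, et]
  · exact absurd h (by simp)

theorem chkEJ_spec {r : ℕ} (hG : Good c act o r) (S : Sem c act o) {v t J : ℕ}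
    (hv : v < c.M) (ht : t < c.M) (h : chkEJ c v t r J = true) :
    qv c act o v = qv c act o t := by
  unfold chkEJ at h
  split at h
  · simp only [Bool.and_eq_true] at h
    obtain ⟨h1, h2⟩ := h
    rw [Nat.blt_eq] at h1
    cases ho : Nat.beq (jO J) 0 with
    | true =>
      rw [ho] at h2
      exact scanE_spec hG S (S.hwr _) h1 hv ht (S.hrel _ _) h2
    | false =>
      rw [ho] at h2
      exact (scanE_spec hG S (S.hwr _) h1 ht hv (S.hrel _ _) h2).symm
  · have h0 : 0 < c.M := Nat.lt_of_le_of_lt (Nat.zero_le _) hv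
    have hfix : walkQ act (getW c.subs (jK J)) (qv c act o 0) = qv c act o 0 := by
      rw [qv_zero]
      exact S.hsub _
    cases ho : Nat.beq (jO J) 0 with
    | true =>
      rw [ho] at h
      exact scanE_spec hG S (S.hws _) h0 hv ht hfix h
    | false =>
      rw [ho] at h
      exact (scanE_spec hG S (S.hws _) h0 ht hv hfix h).symm
  · simp only [Bool.and_eq_true] at h
    obtain ⟨h1, h2, h3, h4, h5⟩ := h
    rw [Nat.blt_eq] at h1 h2 h3
    have h4 := Nat.eq_of_beq_eq_true h4
    rw [force_eq, force_eq] at h5
    cases hea : tg c (entT c (jX J) (jS c J)) with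
    | zero => rw [hea] at h5; exact absurd h5 (by simp)
    | succ ta =>
      rw [hea] at h5
      cases heb : tg c (entT c (jX J) (jS2 c J)) with
      | zero => rw [heb] at h5; exact absurd h5 (by simp)
      | succ tb =>
        rw [heb] at h5
        simp only [Bool.and_eq_true] at h5
        obtain ⟨h6, h7, h8⟩ := h5
        rw [Nat.blt_eq] at h6 h7
        obtain ⟨hta, ea⟩ := (hG _ h1).1 _ h3 ta hea h6
        obtain ⟨htb, eb⟩ := (hG _ h2).1 _ h3 tb heb h7
        have na := (normR_spec hG c.fuel _ h1).2
        have nb := (normR_spec hG c.fuel _ h2).2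
        have nta := (normR_spec hG c.fuel _ hta).2
        have ntb := (normR_spec hG c.fuel _ htb).2
        have nv := (normR_spec hG c.fuel _ hv).2
        have nt := (normR_spec hG c.fuel _ ht).2
        have hab : qv c act o (jS c J) = qv c act o (jS2 c J) := by rw [← na, h4, nb]
        have htab : qv c act o ta = qv c act o tb := by rw [← ea, ← eb, hab]
        cases ho : Nat.beq (jO J) 0 with
        | true =>
          rw [ho] at h8
          simp only [cond_true, Bool.and_eq_true] at h8
          have h9 := Nat.eq_of_beq_eq_true h8.1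
          have h10 := Nat.eq_of_beq_eq_true h8.2
          rw [← nv, ← h9, nta, htab, ← ntb, h10, nt]
        | false =>
          rw [ho] at h8
          simp only [cond_false, Bool.and_eq_true] at h8
          have h9 := Nat.eq_of_beq_eq_true h8.1
          have h10 := Nat.eq_of_beq_eq_true h8.2
          rw [← nv, ← h10, ntb, ← htab, ← nta, h9, nt]
  · exact absurd h (by simp)

theorem chkT_spec (S : Sem c act o) {x v : ℕ} (hx : x < c.ncols) (hv : v < c.M)
    (h : chkT c x v = true) (t : ℕ) (ht : tg c (entT c x v) = t + 1)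
    (hG : Good c act o (rk c (entT c x v))) : t < c.M ∧ act x (qv c act o v) = qv c act o t := by
  unfold chkT at h
  rw [force_eq, ht] at h
  simp only [Bool.and_eq_true] at h
  obtain ⟨h1, h2⟩ := h
  rw [Nat.blt_eq] at h1
  exact ⟨h1, chkTJ_spec hG S hx hv h1 h2⟩

theorem chkE_spec (S : Sem c act o) {v : ℕ} (hv : v < c.M)
    (h : chkE c v = true) (t : ℕ) (ht : tg c (entT c c.ncols v) = t + 1)
    (hG : Good c act o (rk c (entT c c.ncols v))) : t < c.M ∧ qv c act o v = qv c act o t := by
  unfold chkE at h
  rw [force_eq, ht] at h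
  simp only [Bool.and_eq_true] at h
  obtain ⟨h1, h2⟩ := h
  rw [Nat.blt_eq] at h1
  exact ⟨h1, chkEJ_spec hG S hv h1 h2⟩

theorem chkRow_spec (v : ℕ) : ∀ n : ℕ, chkRow c v n = true →
    chkE c v = true ∧ ∀ x < n, chkT c x v = true := by
  intro n
  induction n with
  | zero => intro h; exact ⟨h, fun x hx => absurd hx (Nat.not_lt_zero _)⟩
  | succ n ih =>
    intro h
    have h' : cond (chkT c n v) (chkRow c v n) false = true := h
    cases hb : chkT c n v with
    | false => rw [hb] at h'; exact absurd h' (by simp)
    | true =>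
      rw [hb] at h'
      obtain ⟨h1, h2⟩ := ih h'
      refine ⟨h1, fun x hx => ?_⟩
      rcases Nat.lt_succ_iff_lt_or_eq.mp hx with hx | rfl
      · exact h2 x hx
      · exact hb

theorem chkRangeT_spec (lo : ℕ) : ∀ n : ℕ, chkRangeT c lo n = true →
    ∀ k < n, chkRow c (lo + k) c.ncols = true := by
  intro n
  induction n with
  | zero => intro _ k hk; exact absurd hk (Nat.not_lt_zero _)
  | succ n ih =>
    intro h k hk
    have h' : cond (chkRow c (Nat.add lo n) c.ncols) (chkRangeT c lo n) false = true := h
    cases hb : chkRow c (Nat.add lo n) c.ncols with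
    | false => rw [hb] at h'; exact absurd h' (by simp)
    | true =>
      rw [hb] at h'
      rcases Nat.lt_succ_iff_lt_or_eq.mp hk with hk | rfl
      · exact ih h' k hk
      · exact hb

/-- all facts of the replay are true -/
theorem good_all (S : Sem c act o) (hT : ∀ v < c.M, chkRow c v c.ncols = true) :
    ∀ r, Good c act o r := by
  intro r
  induction r with
  | zero =>
    intro v _
    exact ⟨fun x _ t _ h => absurd h (Nat.not_lt_zero _), fun t _ h => absurd h (Nat.not_lt_zero _)⟩
  | succ r ih =>
    intro v hv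
    obtain ⟨hE, hTx⟩ := chkRow_spec v c.ncols (hT v hv)
    constructor
    · intro x hx t ht hr
      rcases Nat.lt_succ_iff_lt_or_eq.mp hr with hr | hr
      · exact (ih v hv).1 x hx t ht hr
      · exact chkT_spec S hx hv (hTx x hx) t ht (hr ▸ ih)
    · intro t ht hr
      rcases Nat.lt_succ_iff_lt_or_eq.mp hr with hr | hr
      · exact (ih v hv).2 t ht hr
      · exact chkE_spec S hv hE t ht (hr ▸ ih)

/-! ### the final table -/

variable (c)

theorem walkF_nil (v : ℕ) : walkF c [] v = v := rfl

theorem walkF_cons (x : ℕ) (w : List ℕ) (v : ℕ) :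
    walkF c (x :: w) v = walkF c w (stepF c x v) := by
  show force (stepF c x v) (walkF c w) = _
  rw [force_eq]

theorem permAt_spec (v : ℕ) : ∀ n : ℕ, permAt c v n = true →
    ∀ x < n, stepF c x v < c.N ∧ stepF c (getL c.invc x) (stepF c x v) = v := by
  intro n
  induction n with
  | zero => intro _ x hx; exact absurd hx (Nat.not_lt_zero _)
  | succ n ih =>
    intro h x hx
    have h' : cond (Nat.blt (stepF c n v) c.N)
      (cond (Nat.beq (stepF c (getL c.invc n) (stepF c n v)) v) (permAt c v n) false) false
        = true := h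
    cases h1 : Nat.blt (stepF c n v) c.N with
    | false => rw [h1] at h'; exact absurd h' (by simp)
    | true =>
      rw [h1] at h'
      simp only [cond_true] at h'
      cases h2 : Nat.beq (stepF c (getL c.invc n) (stepF c n v)) v with
      | false => rw [h2] at h'; exact absurd h' (by simp)
      | true =>
        rw [h2] at h'
        simp only [cond_true] at h'
        rcases Nat.lt_succ_iff_lt_or_eq.mp hx with hx | rfl
        · exact ih h' x hx
        · exact ⟨by rwa [Nat.blt_eq] at h1, Nat.eq_of_beq_eq_true h2⟩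

theorem fixAll_spec (v : ℕ) : ∀ ws : List (List ℕ), fixAll c ws v = true →
    ∀ w ∈ ws, walkF c w v = v := by
  intro ws
  induction ws with
  | nil => intro _ w hw; exact absurd hw (by simp)
  | cons w0 ws ih =>
    intro h w hw
    have h' : cond (Nat.beq (walkF c w0 v) v) (fixAll c ws v) false = true := h
    cases h1 : Nat.beq (walkF c w0 v) v with
    | false => rw [h1] at h'; exact absurd h' (by simp)
    | true =>
      rw [h1] at h'
      simp only [cond_true] at h'
      rcases List.mem_cons.mp hw with rfl | hw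
      · exact Nat.eq_of_beq_eq_true h1
      · exact ih h' w hw

theorem treeAt_spec {v : ℕ} (h : treeAt c v = true) (hv : v ≠ 0) :
    parV c v < v ∧ pcolV c v < c.ncols ∧ stepF c (pcolV c v) (parV c v) = v := by
  obtain ⟨u, rfl⟩ := Nat.exists_eq_succ_of_ne_zero hv
  have h' : cond (Nat.blt (parV c (u + 1)) (u + 1))
      (cond (Nat.blt (pcolV c (u + 1)) c.ncols)
        (Nat.beq (stepF c (pcolV c (u + 1)) (parV c (u + 1))) (u + 1)) false) false = true := h
  cases h1 : Nat.blt (parV c (u + 1)) (u + 1) with
  | false => rw [h1] at h'; exact absurd h' (by simp)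
  | true =>
    rw [h1] at h'
    simp only [cond_true] at h'
    cases h2 : Nat.blt (pcolV c (u + 1)) c.ncols with
    | false => rw [h2] at h'; exact absurd h' (by simp)
    | true =>
      rw [h2] at h'
      simp only [cond_true] at h'
      exact ⟨by rwa [Nat.blt_eq] at h1, by rwa [Nat.blt_eq] at h2, Nat.eq_of_beq_eq_true h'⟩

theorem chkVF_spec {v : ℕ} (h : chkVF c v = true) :
    permAt c v c.ncols = true ∧ fixAll c c.rels v = true ∧ treeAt c v = true := by
  unfold chkVF at h
  cases h1 : permAt c v c.ncols with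
  | false => rw [h1] at h; exact absurd h (by simp)
  | true =>
    rw [h1] at h
    simp only [cond_true] at h
    cases h2 : fixAll c c.rels v with
    | false => rw [h2] at h; exact absurd h (by simp)
    | true =>
      rw [h2] at h
      simp only [cond_true] at h
      exact ⟨rfl, rfl, h⟩

theorem chkRangeF_spec (lo : ℕ) : ∀ n : ℕ, chkRangeF c lo n = true →
    ∀ k < n, chkVF c (lo + k) = true := by
  intro n
  induction n with
  | zero => intro _ k hk; exact absurd hk (Nat.not_lt_zero _)
  | succ n ih =>
    intro h k hk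
    have h' : cond (chkVF c (Nat.add lo n)) (chkRangeF c lo n) false = true := h
    cases hb : chkVF c (Nat.add lo n) with
    | false => rw [hb] at h'; exact absurd h' (by simp)
    | true =>
      rw [hb] at h'
      rcases Nat.lt_succ_iff_lt_or_eq.mp hk with hk | rfl
      · exact ih h' k hk
      · exact hb

theorem finAt_spec (v : ℕ) : ∀ n : ℕ, finAt c v n = true →
    ∀ x < n, ∃ t, tg c (entT c x v) = t + 1 ∧ rk c (entT c x v) < c.mW + 1 ∧
      normR c (c.mW + 1) c.fuel t = stepF c x v := by
  intro n
  induction n with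
  | zero => intro _ x hx; exact absurd hx (Nat.not_lt_zero _)
  | succ n ih =>
    intro h x hx
    have h' : (force (entT c n v) fun e =>
      Nat.rec (motive := fun _ => Bool) false
        (fun t _ => cond (Nat.blt (rk c e) (Nat.succ c.mW))
          (cond (Nat.beq (normR c (Nat.succ c.mW) c.fuel t) (stepF c n v)) (finAt c v n) false)
          false) (tg c e)) = true := h
    rw [force_eq] at h'
    cases h0 : tg c (entT c n v) with
    | zero => rw [h0] at h'; exact absurd h' (by simp)
    | succ t =>
      rw [h0] at h'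
      simp only [] at h'
      cases h1 : Nat.blt (rk c (entT c n v)) (Nat.succ c.mW) with
      | false => rw [h1] at h'; exact absurd h' (by simp)
      | true =>
        rw [h1] at h'
        simp only [cond_true] at h'
        cases h2 : Nat.beq (normR c (Nat.succ c.mW) c.fuel t) (stepF c n v) with
        | false => rw [h2] at h'; exact absurd h' (by simp)
        | true =>
          rw [h2] at h'
          simp only [cond_true] at h'
          rcases Nat.lt_succ_iff_lt_or_eq.mp hx with hx | rfl
          · exact ih h' x hx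
          · exact ⟨t, h0, by rwa [Nat.blt_eq] at h1, Nat.eq_of_beq_eq_true h2⟩

theorem chkRangeFin_spec (lo : ℕ) : ∀ n : ℕ, chkRangeFin c lo n = true →
    ∀ k < n, finAt c (lo + k) c.ncols = true := by
  intro n
  induction n with
  | zero => intro _ k hk; exact absurd hk (Nat.not_lt_zero _)
  | succ n ih =>
    intro h k hk
    have h' : cond (finAt c (Nat.add lo n) c.ncols) (chkRangeFin c lo n) false = true := h
    cases hb : finAt c (Nat.add lo n) c.ncols with
    | false => rw [hb] at h'; exact absurd h' (by simp)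
    | true =>
      rw [hb] at h'
      rcases Nat.lt_succ_iff_lt_or_eq.mp hk with hk | rfl
      · exact ih h' k hk
      · exact hb

/-- extending a verified initial segment by a verified range -/
theorem cover_step {P : ℕ → Prop} {a n b : ℕ} (h1 : ∀ v < a, P v)
    (h2 : ∀ k < n, P (a + k)) (hb : a + n = b) : ∀ v < b, P v := by
  intro v hv
  by_cases h : v < a
  · exact h1 v h
  · have : a + (v - a) = v := by omega
    rw [← this]
    exact h2 _ (by omega)

theorem getW_mem (l : List (List ℕ)) : ∀ k : ℕ, getW l k = [] ∨ getW l k ∈ l := by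
  induction l with
  | nil => intro k; exact Or.inl rfl
  | cons a l ih =>
    intro k
    cases k with
    | zero => exact Or.inr (by simp [getW])
    | succ k =>
      rcases ih k with h | h
      · exact Or.inl h
      · exact Or.inr (List.mem_cons_of_mem _ h)

/-- the small global checks -/
def chkSmall : Bool :=
  decide (0 < c.N) && (decide (c.N ≤ c.M) &&
    ((List.range c.ncols).all (fun x => decide (getL c.invc x < c.ncols) &&
      decide (getL c.invc (getL c.invc x) = x)) &&
    (c.rels.all (fun w => w.all fun x => decide (x < c.ncols)) &&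
    (c.subs.all (fun w => w.all fun x => decide (x < c.ncols)) &&
    c.subs.all (fun w => decide (walkF c w 0 = 0))))))

theorem chkSmall_spec (h : chkSmall c = true) :
    0 < c.N ∧ c.N ≤ c.M ∧
    (∀ x < c.ncols, getL c.invc x < c.ncols ∧ getL c.invc (getL c.invc x) = x) ∧
    (∀ w ∈ c.rels, ∀ x ∈ w, x < c.ncols) ∧ (∀ w ∈ c.subs, ∀ x ∈ w, x < c.ncols) ∧
    (∀ w ∈ c.subs, walkF c w 0 = 0) := by
  unfold chkSmall at h
  simp only [Bool.and_eq_true, decide_eq_true_eq, List.all_eq_true, List.mem_range] at h
  exact ⟨h.1, h.2.1, h.2.2.1, h.2.2.2.1, h.2.2.2.2.1, h.2.2.2.2.2⟩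

end

end Cfsg.Agent.Helper17.TC
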