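import Mathlib
import Cfsg.Agent.Helper17.TCSound

/-!
# From a checked certificate to the index of a subgroup (helper17)
-/

set_option autoImplicit false

namespace Cfsg.Agent.Helper17.TC

noncomputable section

variable (c : Cert)

/-- all kernel checks of a certificate -/
structure Checked : Prop where
  small : chkSmall c = true
  hT : ∀ v < c.M, chkRow c v c.ncols = true
  hF : ∀ v < c.N, chkVF c v = true
  hFin : ∀ v < c.N, finAt c v c.ncols = true

variable {c}

theorem Checked.pos (h : Checked c) : 0 < c.N := (chkSmall_spec c h.small).1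

theorem Checked.invc_lt (h : Checked c) {x : ℕ} (hx : x < c.ncols) : getL c.invc x < c.ncols :=
  ((chkSmall_spec c h.small).2.2.1 x hx).1

theorem Checked.invc_invc (h : Checked c) {x : ℕ} (hx : x < c.ncols) :
    getL c.invc (getL c.invc x) = x :=
  ((chkSmall_spec c h.small).2.2.1 x hx).2

theorem Checked.stepF_lt (h : Checked c) {x v : ℕ} (hx : x < c.ncols) (hv : v < c.N) :
    stepF c x v < c.N :=
  ((permAt_spec c v c.ncols (chkVF_spec c (h.hF v hv)).1) x hx).1

theorem Checked.stepF_inv (h : Checked c) {x v : ℕ} (hx : x < c.ncols) (hv : v < c.N) :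
    stepF c (getL c.invc x) (stepF c x v) = v :=
  ((permAt_spec c v c.ncols (chkVF_spec c (h.hF v hv)).1) x hx).2

/-- the permutation of the points given by a column of the final table -/
def permF (h : Checked c) (x : ℕ) : Equiv.Perm (Fin c.N) :=
  if hx : x < c.ncols then
    { toFun := fun v => ⟨stepF c x v, h.stepF_lt hx v.2⟩
      invFun := fun v => ⟨stepF c (getL c.invc x) v, h.stepF_lt (h.invc_lt hx) v.2⟩
      left_inv := fun v => Fin.ext (h.stepF_inv hx v.2)
      right_inv := fun v => Fin.ext (by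
        have := h.stepF_inv (h.invc_lt hx) v.2
        rwa [h.invc_invc hx] at this) }
  else 1

theorem permF_apply (h : Checked c) {x : ℕ} (hx : x < c.ncols) (v : Fin c.N) :
    ((permF h x v : Fin c.N) : ℕ) = stepF c x v := by
  unfold permF
  rw [dif_pos hx]
  rfl

theorem permF_invc (h : Checked c) {x : ℕ} (hx : x < c.ncols) :
    permF h (getL c.invc x) = (permF h x)⁻¹ := by
  ext v
  rw [permF_apply h (h.invc_lt hx)]
  unfold permF
  rw [dif_pos hx]
  rfl

theorem permF_word (h : Checked c) : ∀ (w : List ℕ), (∀ x ∈ w, x < c.ncols) → ∀ v : Fin c.N,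
    (((w.reverse.map (permF h)).prod v : Fin c.N) : ℕ) = walkF c w v := by
  intro w
  induction w with
  | nil => intro _ v; simp [walkF_nil]
  | cons x w ih =>
    intro hw v
    rw [List.reverse_cons, List.map_append, List.prod_append, walkF_cons, Equiv.Perm.mul_apply,
      ih (fun y hy => hw y (by simp [hy]))]
    simp [permF_apply h (hw x (by simp))]

theorem permF_rel (h : Checked c) {w : List ℕ} (hw : w ∈ c.rels) :
    (w.reverse.map (permF h)).prod = 1 := by
  ext v
  rw [permF_word h w ((chkSmall_spec c h.small).2.2.2.1 w hw) v]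
  exact fixAll_spec c v c.rels (chkVF_spec c (h.hF v v.2)).2.1 w hw

theorem permF_sub (h : Checked c) {w : List ℕ} (hw : w ∈ c.subs) :
    (w.reverse.map (permF h)).prod ⟨0, h.pos⟩ = ⟨0, h.pos⟩ := by
  apply Fin.ext
  rw [permF_word h w ((chkSmall_spec c h.small).2.2.2.2.1 w hw)]
  exact (chkSmall_spec c h.small).2.2.2.2.2 w hw

theorem walkQ_smul {G : Type*} [Group G] {Q : Type*} [MulAction G Q] (g : ℕ → G) :
    ∀ (w : List ℕ) (p : Q), walkQ (fun x p => (g x)⁻¹ • p) w p = ((w.map g).prod)⁻¹ • p := by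
  intro w
  induction w with
  | nil => intro p; simp [walkQ_nil]
  | cons x w ih =>
    intro p
    rw [walkQ_cons, ih, List.map_cons, List.prod_cons, mul_inv_rev, mul_smul]

/-- the main theorem: the cosets of `H` are in equivariant bijection with the points -/
theorem main_equiv {G : Type*} [Group G] (H : Subgroup G) (g : ℕ → G) (h : Checked c)
    (hgen : Subgroup.closure {y | ∃ x < c.ncols, y = g x} = ⊤)
    (hginv : ∀ x < c.ncols, g (getL c.invc x) = (g x)⁻¹)
    (hrel : ∀ w ∈ c.rels, (w.map g).prod = 1)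
    (hsub : ∀ w ∈ c.subs, (w.map g).prod ∈ H)
    (ρ : G →* Equiv.Perm (Fin c.N))
    (hρ : ∀ x < c.ncols, ρ (g x) = (permF h x)⁻¹)
    (hH : ∀ a ∈ H, ρ a ⟨0, h.pos⟩ = ⟨0, h.pos⟩) :
    ∃ e : G ⧸ H ≃ Fin c.N, (∀ (a : G) (q : G ⧸ H), e (a • q) = ρ a (e q)) ∧
      e ((1 : G) : G ⧸ H) = ⟨0, h.pos⟩ := by
  obtain ⟨hN, hNM, hinvc, hwr, hws, -⟩ := chkSmall_spec c h.small
  let act : ℕ → G ⧸ H → G ⧸ H := fun x p => (g x)⁻¹ • p
  let o : G ⧸ H := ((1 : G) : G ⧸ H)
  have hmem : ∀ a ∈ H, a • o = o := by
    intro a ha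
    show a • ((1 : G) : G ⧸ H) = ((1 : G) : G ⧸ H)
    rw [MulAction.Quotient.smul_mk, QuotientGroup.eq]
    simpa using ha
  have S : Sem c act o := by
    refine ⟨hinvc, ?_, ?_, ?_, ?_, ?_⟩
    · intro x hx p
      show (g (getL c.invc x))⁻¹ • (g x)⁻¹ • p = p
      rw [hginv x hx, inv_inv, smul_inv_smul]
    · intro k p
      rcases getW_mem c.rels k with hk | hk
      · rw [hk]; rfl
      · rw [walkQ_smul, hrel _ hk, inv_one, one_smul]
    · intro k
      rcases getW_mem c.subs k with hk | hk
      · rw [hk]; rfl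
      · rw [walkQ_smul]
        exact hmem _ (H.inv_mem (hsub _ hk))
    · intro k x hx
      rcases getW_mem c.rels k with hk | hk
      · rw [hk] at hx; exact absurd hx (by simp)
      · exact hwr _ hk x hx
    · intro k x hx
      rcases getW_mem c.subs k with hk | hk
      · rw [hk] at hx; exact absurd hx (by simp)
      · exact hws _ hk x hx
  have hG := good_all S h.hT
  -- the cosets `qv v`, `v < N`, are closed under the columns
  have hA : ∀ v < c.N, ∀ x < c.ncols, act x (qv c act o v) = qv c act o (stepF c x v) := by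
    intro v hv x hx
    obtain ⟨t, ht, hr, hn⟩ := finAt_spec c v c.ncols (h.hFin v hv) x hx
    obtain ⟨htM, e⟩ := (hG (c.mW + 1) v (lt_of_lt_of_le hv hNM)).1 x hx t ht hr
    have := (normR_spec (hG (c.mW + 1)) c.fuel t htM).2
    rw [hn] at this
    rw [e, this]
  -- the map to the points
  let z : Fin c.N := ⟨0, h.pos⟩
  let φ : G ⧸ H → Fin c.N := fun q => Quotient.liftOn' q (fun a => ρ a z) (by
    intro a b hab
    rw [QuotientGroup.leftRel_apply] at hab
    have : b = a * (a⁻¹ * b) := by group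
    show ρ a z = ρ b z
    rw [this, map_mul, Equiv.Perm.mul_apply, hH _ hab])
  have hφmk : ∀ a : G, φ (a : G ⧸ H) = ρ a z := fun a => rfl
  have hφ : ∀ (a : G) (q : G ⧸ H), φ (a • q) = ρ a (φ q) := by
    intro a q
    induction q using QuotientGroup.induction_on with
    | H b =>
      rw [MulAction.Quotient.smul_mk, hφmk, hφmk, smul_eq_mul, map_mul, Equiv.Perm.mul_apply]
  have hB : ∀ v, ∀ hv : v < c.N, φ (qv c act o v) = ⟨v, hv⟩ := by
    intro v
    induction v using Nat.strong_induction_on with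
    | _ v ih =>
      intro hv
      by_cases hv0 : v = 0
      · subst hv0
        rw [qv_zero]
        show ρ 1 z = _
        rw [map_one]
        rfl
      · obtain ⟨hp, hpc, hst⟩ := treeAt_spec c (chkVF_spec c (h.hF v hv)).2.2 hv0
        rw [qv_of_lt c act o hp]
        show φ ((g (pcolV c v))⁻¹ • qv c act o (parV c v)) = _
        rw [hφ, ih _ hp (lt_trans hp hv), map_inv, hρ _ hpc, inv_inv]
        apply Fin.ext
        rw [permF_apply h hpc]
        exact hst
  have hC : ∀ q : G ⧸ H, ∃ v, v < c.N ∧ q = qv c act o v := by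
    have key : ∀ a : G, (∀ v < c.N, ∃ v', v' < c.N ∧ a • qv c act o v = qv c act o v') ∧
        (∀ v < c.N, ∃ v', v' < c.N ∧ a⁻¹ • qv c act o v = qv c act o v') := by
      intro a
      have ha : a ∈ Subgroup.closure {y | ∃ x < c.ncols, y = g x} := by rw [hgen]; trivial
      refine Subgroup.closure_induction (p := fun (a : G) _ =>
        (∀ v < c.N, ∃ v', v' < c.N ∧ a • qv c act o v = qv c act o v') ∧
        (∀ v < c.N, ∃ v', v' < c.N ∧ a⁻¹ • qv c act o v = qv c act o v')) ?_ ?_ ?_ ?_ ha
      · rintro y ⟨x, hx, rfl⟩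
        constructor
        · intro v hv
          have hi := (hinvc x hx).1
          refine ⟨stepF c (getL c.invc x) v, h.stepF_lt hi hv, ?_⟩
          have this : (g (getL c.invc x))⁻¹ • qv c act o v =
              qv c act o (stepF c (getL c.invc x) v) := hA v hv _ hi
          rwa [hginv x hx, inv_inv] at this
        · intro v hv
          exact ⟨stepF c x v, h.stepF_lt hx hv, hA v hv x hx⟩
      · constructor
        · intro v hv; exact ⟨v, hv, one_smul _ _⟩
        · intro v hv; exact ⟨v, hv, by rw [inv_one, one_smul]⟩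
      · rintro a b - - ⟨ha1, ha2⟩ ⟨hb1, hb2⟩
        constructor
        · intro v hv
          obtain ⟨v1, hv1, e1⟩ := hb1 v hv
          obtain ⟨v2, hv2, e2⟩ := ha1 v1 hv1
          exact ⟨v2, hv2, by rw [mul_smul, e1, e2]⟩
        · intro v hv
          obtain ⟨v1, hv1, e1⟩ := ha2 v hv
          obtain ⟨v2, hv2, e2⟩ := hb2 v1 hv1
          exact ⟨v2, hv2, by rw [mul_inv_rev, mul_smul, e1, e2]⟩
      · rintro a - ⟨ha1, ha2⟩
        exact ⟨ha2, by simpa using ha1⟩
    intro q
    induction q using QuotientGroup.induction_on with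
    | H a =>
      obtain ⟨v', hv', e⟩ := (key a).1 0 hN
      refine ⟨v', hv', ?_⟩
      rw [← e, qv_zero]
      show (a : G ⧸ H) = a • ((1 : G) : G ⧸ H)
      rw [MulAction.Quotient.smul_mk, smul_eq_mul, mul_one]
  have hinj : Function.Injective φ := by
    intro q1 q2 e
    obtain ⟨v1, hv1, rfl⟩ := hC q1
    obtain ⟨v2, hv2, rfl⟩ := hC q2
    rw [hB v1 hv1, hB v2 hv2] at e
    have : v1 = v2 := by simpa using e
    rw [this]
  have hsurj : Function.Surjective φ := fun w => ⟨qv c act o w.1, hB w.1 w.2⟩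
  refine ⟨Equiv.ofBijective φ ⟨hinj, hsurj⟩, hφ, ?_⟩
  show φ ((1 : G) : G ⧸ H) = _
  rw [hφmk, map_one]
  rfl

end

end Cfsg.Agent.Helper17.TC
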