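import Mathlib
import Cfsg.Agent.Helper17.TCIndex

/-!
# Upper bound for the index of a subgroup from a checked certificate (helper17)

Only the replay part of a certificate is needed: in every group generated by elements that satisfy
the enumerated relators, the subgroup containing the enumerated subgroup generators has at most
`N` cosets.
-/

set_option autoImplicit false

namespace Cfsg.Agent.Helper17.TC

noncomputable section

variable {c : Cert}

/-- every coset is one of the `N` cosets of the final table -/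
theorem main_cover {G : Type*} [Group G] (H : Subgroup G) (g : ℕ → G) (h : Checked c)
    (hgen : Subgroup.closure {y | ∃ x < c.ncols, y = g x} = ⊤)
    (hginv : ∀ x < c.ncols, g (getL c.invc x) = (g x)⁻¹)
    (hrel : ∀ w ∈ c.rels, (w.map g).prod = 1)
    (hsub : ∀ w ∈ c.subs, (w.map g).prod ∈ H) :
    ∃ f : Fin c.N → G ⧸ H, Function.Surjective f := by
  obtain ⟨hN, hNM, hinvc, hwr, hws, -⟩ := chkSmall_spec c h.small
  let act : ℕ → G ⧸ H → G ⧸ H := fun x p => (g x)⁻¹ • p
  let o : G ⧸ H := ((1 : G) : G ⧸ H)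
  have hmem : ∀ a ∈ H, a • o = o := by
    intro a ha
    show a • ((1 : G) : G ⧸ H) = ((1 : G) : G ⧸ H)
    rw [MulAction.Quotient.smul_mk, QuotientGroup.eq]
    simpa using ha
  have S : Sem c act o := by
    refine ⟨hinvc, ?_, ?_, ?_, ?_, ?_⟩
    · intro x hx p
      show (g (getL c.invc x))⁻¹ • (g x)⁻¹ • p = p
      rw [hginv x hx, inv_inv, smul_inv_smul]
    · intro k p
      rcases getW_mem c.rels k with hk | hk
      · rw [hk]; rfl
      · rw [walkQ_smul, hrel _ hk, inv_one, one_smul]
    · intro k
      rcases getW_mem c.subs k with hk | hk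
      · rw [hk]; rfl
      · rw [walkQ_smul]
        exact hmem _ (H.inv_mem (hsub _ hk))
    · intro k x hx
      rcases getW_mem c.rels k with hk | hk
      · rw [hk] at hx; exact absurd hx (by simp)
      · exact hwr _ hk x hx
    · intro k x hx
      rcases getW_mem c.subs k with hk | hk
      · rw [hk] at hx; exact absurd hx (by simp)
      · exact hws _ hk x hx
  have hG := good_all S h.hT
  have hA : ∀ v < c.N, ∀ x < c.ncols, act x (qv c act o v) = qv c act o (stepF c x v) := by
    intro v hv x hx
    obtain ⟨t, ht, hr, hn⟩ := finAt_spec c v c.ncols (h.hFin v hv) x hx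
    obtain ⟨htM, e⟩ := (hG (c.mW + 1) v (lt_of_lt_of_le hv hNM)).1 x hx t ht hr
    have := (normR_spec (hG (c.mW + 1)) c.fuel t htM).2
    rw [hn] at this
    rw [e, this]
  have hC : ∀ q : G ⧸ H, ∃ v, v < c.N ∧ q = qv c act o v := by
    have key : ∀ a : G, (∀ v < c.N, ∃ v', v' < c.N ∧ a • qv c act o v = qv c act o v') ∧
        (∀ v < c.N, ∃ v', v' < c.N ∧ a⁻¹ • qv c act o v = qv c act o v') := by
      intro a
      have ha : a ∈ Subgroup.closure {y | ∃ x < c.ncols, y = g x} := by rw [hgen]; trivial
      refine Subgroup.closure_induction (p := fun (a : G) _ =>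
        (∀ v < c.N, ∃ v', v' < c.N ∧ a • qv c act o v = qv c act o v') ∧
        (∀ v < c.N, ∃ v', v' < c.N ∧ a⁻¹ • qv c act o v = qv c act o v')) ?_ ?_ ?_ ?_ ha
      · rintro y ⟨x, hx, rfl⟩
        constructor
        · intro v hv
          have hi := (hinvc x hx).1
          refine ⟨stepF c (getL c.invc x) v, h.stepF_lt hi hv, ?_⟩
          have this : (g (getL c.invc x))⁻¹ • qv c act o v =
              qv c act o (stepF c (getL c.invc x) v) := hA v hv _ hi
          rwa [hginv x hx, inv_inv] at this
        · intro v hv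
          exact ⟨stepF c x v, h.stepF_lt hx hv, hA v hv x hx⟩
      · constructor
        · intro v hv; exact ⟨v, hv, one_smul _ _⟩
        · intro v hv; exact ⟨v, hv, by rw [inv_one, one_smul]⟩
      · rintro a b - - ⟨ha1, ha2⟩ ⟨hb1, hb2⟩
        constructor
        · intro v hv
          obtain ⟨v1, hv1, e1⟩ := hb1 v hv
          obtain ⟨v2, hv2, e2⟩ := ha1 v1 hv1
          exact ⟨v2, hv2, by rw [mul_smul, e1, e2]⟩
        · intro v hv
          obtain ⟨v1, hv1, e1⟩ := ha2 v hv
          obtain ⟨v2, hv2, e2⟩ := hb2 v1 hv1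
          exact ⟨v2, hv2, by rw [mul_inv_rev, mul_smul, e1, e2]⟩
      · rintro a - ⟨ha1, ha2⟩
        exact ⟨ha2, by simpa using ha1⟩
    intro q
    induction q using QuotientGroup.induction_on with
    | H a =>
      obtain ⟨v', hv', e⟩ := (key a).1 0 hN
      refine ⟨v', hv', ?_⟩
      rw [← e, qv_zero]
      show (a : G ⧸ H) = a • ((1 : G) : G ⧸ H)
      rw [MulAction.Quotient.smul_mk, smul_eq_mul, mul_one]
  refine ⟨fun v => qv c act o v.1, ?_⟩
  intro q
  obtain ⟨v, hv, rfl⟩ := hC q
  exact ⟨⟨v, hv⟩, rfl⟩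

/-- the index is at most `N` (and the subgroup has finite index) -/
theorem index_le {G : Type*} [Group G] (H : Subgroup G) (g : ℕ → G) (h : Checked c)
    (hgen : Subgroup.closure {y | ∃ x < c.ncols, y = g x} = ⊤)
    (hginv : ∀ x < c.ncols, g (getL c.invc x) = (g x)⁻¹)
    (hrel : ∀ w ∈ c.rels, (w.map g).prod = 1)
    (hsub : ∀ w ∈ c.subs, (w.map g).prod ∈ H) :
    Finite (G ⧸ H) ∧ H.index ≤ c.N := by
  obtain ⟨f, hf⟩ := main_cover H g h hgen hginv hrel hsub
  have hfin : Finite (G ⧸ H) := Finite.of_surjective f hf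
  refine ⟨hfin, ?_⟩
  have := Nat.card_le_card_of_surjective f hf
  rw [Nat.card_fin] at this
  exact this

end

end Cfsg.Agent.Helper17.TC
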