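import Mathlib

/-!
# Metacyclic presentations: the order of the first generator (helper17)

`P M n R T = ⟨a, b | a^M, b^n a^{-T}, b a b⁻¹ a^{-R}⟩`.  If `R^n ≡ 1` and `T R ≡ T` modulo `M`, then
`a` has order exactly `M` (regular permutation model on `ZMod M × ZMod n`).
-/

set_option autoImplicit false

namespace Cfsg.Agent.Helper17.Meta

/-- Relators of the metacyclic presentation. -/
def rels (M n R T : ℕ) : Set (FreeGroup Bool) :=
  {FreeGroup.of true ^ M, (FreeGroup.of false) ^ n * (FreeGroup.of true ^ T)⁻¹,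
    FreeGroup.of false * FreeGroup.of true * (FreeGroup.of false)⁻¹ * (FreeGroup.of true ^ R)⁻¹}

/-- The presented metacyclic group. -/
abbrev P (M n R T : ℕ) := PresentedGroup (rels M n R T)

/-- first generator -/
def ga (M n R T : ℕ) : P M n R T := PresentedGroup.of true
/-- second generator -/
def gb (M n R T : ℕ) : P M n R T := PresentedGroup.of false

theorem ga_pow (M n R T : ℕ) : ga M n R T ^ M = 1 := by
  have h : (PresentedGroup.mk (rels M n R T)) (FreeGroup.of true ^ M) = 1 :=
    PresentedGroup.one_of_mem (by simp [rels])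
  rw [map_pow] at h
  exact h

theorem gb_pow (M n R T : ℕ) : gb M n R T ^ n = ga M n R T ^ T := by
  have h : (PresentedGroup.mk (rels M n R T))
      ((FreeGroup.of false) ^ n * (FreeGroup.of true ^ T)⁻¹) = 1 :=
    PresentedGroup.one_of_mem (by simp [rels])
  rw [map_mul, map_inv, map_pow, map_pow, mul_inv_eq_one] at h
  exact h

theorem gb_conj (M n R T : ℕ) :
    gb M n R T * ga M n R T * (gb M n R T)⁻¹ = ga M n R T ^ R := by
  have h : (PresentedGroup.mk (rels M n R T))
      (FreeGroup.of false * FreeGroup.of true * (FreeGroup.of false)⁻¹ * (FreeGroup.of true ^ R)⁻¹)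
        = 1 :=
    PresentedGroup.one_of_mem (by simp [rels])
  rw [map_mul, map_inv, map_pow, mul_inv_eq_one, map_mul, map_mul, map_inv] at h
  exact h

theorem closure_gen (M n R T : ℕ) :
    Subgroup.closure ({ga M n R T, gb M n R T} : Set (P M n R T)) = ⊤ := by
  rw [← PresentedGroup.closure_range_of (rels M n R T)]
  congr 1
  ext x
  constructor
  · rintro (rfl | rfl)
    · exact ⟨true, rfl⟩
    · exact ⟨false, rfl⟩
  · rintro ⟨b, rfl⟩
    cases b
    · right; rfl
    · left; rfl

section model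

variable (M n : ℕ) (u tT : ZMod M)

/-- the permutation `α : (i, j) ↦ (i + 1, j)` -/
def alpha : Equiv.Perm (ZMod M × ZMod n) where
  toFun p := (p.1 + 1, p.2)
  invFun p := (p.1 - 1, p.2)
  left_inv p := by simp
  right_inv p := by simp

/-- the permutation `β : (i, j) ↦ (u i + [j = -1] T, j + 1)` -/
def beta (hu : u ^ n = 1) (hn : 0 < n) : Equiv.Perm (ZMod M × ZMod n) where
  toFun p := (u * p.1 + (if p.2 = -1 then tT else 0), p.2 + 1)
  invFun p := (u ^ (n - 1) * (p.1 - (if p.2 = 0 then tT else 0)), p.2 - 1)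
  left_inv p := by
    have h1 : u ^ (n - 1) * u = 1 := by
      rw [← pow_succ, Nat.sub_add_cancel hn, hu]
    have h2 : (p.2 + 1 = 0) ↔ p.2 = -1 := add_eq_zero_iff_eq_neg
    ext
    · simp only [h2, add_sub_cancel_right]
      rw [← mul_assoc, h1, one_mul]
    · simp
  right_inv p := by
    have h1 : u * u ^ (n - 1) = 1 := by
      rw [← pow_succ', Nat.sub_add_cancel hn, hu]
    have h2 : (p.2 - 1 = -1) ↔ p.2 = 0 := by
      constructor
      · intro h
        have := congrArg (· + 1) h
        simpa using this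
      · intro h; rw [h]; simp
    ext
    · simp only [h2]
      rw [← mul_assoc, h1, one_mul, sub_add_cancel]
    · simp

theorem alpha_pow (k : ℕ) (p : ZMod M × ZMod n) :
    (alpha M n ^ k) p = (p.1 + k, p.2) := by
  induction k generalizing p with
  | zero => simp
  | succ k ih =>
    rw [pow_succ, Equiv.Perm.mul_apply, ih]
    simp [alpha]
    ring

theorem beta_sem (hu : u ^ n = 1) (hn : 0 < n) (hT : tT * u = tT) (i : ZMod M) (j : ℕ) :
    beta M n u tT hu hn (i + tT * ((j / n : ℕ) : ZMod M), (j : ZMod n)) =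
      (u * i + tT * (((j + 1) / n : ℕ) : ZMod M), ((j + 1 : ℕ) : ZMod n)) := by
  have h2 : ((j : ZMod n) = -1) ↔ n ∣ j + 1 := by
    rw [← (ZMod.natCast_eq_zero_iff (j + 1) n), ← add_eq_zero_iff_eq_neg]
    push_cast
    rfl
  have h3 : u * (tT * ((j / n : ℕ) : ZMod M)) = tT * ((j / n : ℕ) : ZMod M) := by
    rw [← mul_assoc, mul_comm u tT, hT]
  show (u * (i + tT * ((j / n : ℕ) : ZMod M)) + (if (j : ZMod n) = -1 then tT else 0),
      (j : ZMod n) + 1) = _
  rw [Nat.succ_div]
  by_cases h : n ∣ j + 1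
  · rw [if_pos (h2.2 h), if_pos h]
    ext
    · push_cast
      rw [mul_add, h3]
      ring
    · push_cast; rfl
  · rw [if_neg (fun h' => h (h2.1 h')), if_neg h]
    ext
    · push_cast
      rw [mul_add, h3]
      ring
    · push_cast; rfl

theorem beta_pow_sem (hu : u ^ n = 1) (hn : 0 < n) (hT : tT * u = tT) (k : ℕ) (i : ZMod M)
    (j : ℕ) :
    (beta M n u tT hu hn ^ k) (i + tT * ((j / n : ℕ) : ZMod M), (j : ZMod n)) =
      (u ^ k * i + tT * (((j + k) / n : ℕ) : ZMod M), ((j + k : ℕ) : ZMod n)) := by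
  induction k with
  | zero => simp
  | succ k ih =>
    rw [pow_succ', Equiv.Perm.mul_apply, ih, beta_sem M n u tT hu hn hT]
    rw [pow_succ', mul_assoc]
    rfl

theorem beta_pow_n (hu : u ^ n = 1) (hn : 0 < n) (hT : tT * u = tT) (T : ℕ)
    (hTT : (T : ZMod M) = tT) :
    beta M n u tT hu hn ^ n = alpha M n ^ T := by
  have : NeZero n := ⟨hn.ne'⟩
  ext p
  · obtain ⟨i, j⟩ := p
    have hj : ((j.val : ℕ) : ZMod n) = j := ZMod.natCast_zmod_val j
    have hq : j.val / n = 0 := Nat.div_eq_of_lt (ZMod.val_lt j)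
    have h := beta_pow_sem M n u tT hu hn hT n i j.val
    rw [hq, hj] at h
    simp only [Nat.cast_zero, mul_zero, add_zero] at h
    rw [h, alpha_pow, hu, one_mul]
    have : (j.val + n) / n = 1 := by
      rw [Nat.add_div_right _ hn, hq]
    rw [this]
    simp [hTT]
  · obtain ⟨i, j⟩ := p
    have hj : ((j.val : ℕ) : ZMod n) = j := ZMod.natCast_zmod_val j
    have hq : j.val / n = 0 := Nat.div_eq_of_lt (ZMod.val_lt j)
    have h := beta_pow_sem M n u tT hu hn hT n i j.val
    rw [hq, hj] at h
    simp only [Nat.cast_zero, mul_zero, add_zero] at h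
    rw [h, alpha_pow]
    simp [hj]

theorem beta_alpha (hu : u ^ n = 1) (hn : 0 < n) (R : ℕ) (hR : (R : ZMod M) = u) :
    beta M n u tT hu hn * alpha M n = alpha M n ^ R * beta M n u tT hu hn := by
  ext p
  · rw [Equiv.Perm.mul_apply, Equiv.Perm.mul_apply, alpha_pow]
    simp [alpha, beta, hR]
    ring
  · rw [Equiv.Perm.mul_apply, Equiv.Perm.mul_apply, alpha_pow]
    simp [alpha, beta]

end model

/-- In `P M n R T`, a power `a^i` is trivial only when `M ∣ i`. -/
theorem a_order (M n R T : ℕ) (hn : 0 < n) (hR : R ^ n ≡ 1 [MOD M]) (hT : T * R ≡ T [MOD M])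
    (i : ℕ) (h : ga M n R T ^ i = 1) : M ∣ i := by
  have hu : ((R : ℕ) : ZMod M) ^ n = 1 := by
    have := (ZMod.natCast_eq_natCast_iff _ _ M).2 hR
    push_cast at this
    exact this
  have hT' : ((T : ℕ) : ZMod M) * ((R : ℕ) : ZMod M) = (T : ZMod M) := by
    have := (ZMod.natCast_eq_natCast_iff _ _ M).2 hT
    push_cast at this
    exact this
  set A := alpha M n with hA
  set B := beta M n (R : ZMod M) (T : ZMod M) hu hn with hB
  have r1 : A ^ M = 1 := by
    ext p
    · rw [alpha_pow]; simp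
    · rw [alpha_pow]; simp
  have r2 : B ^ n = A ^ T := beta_pow_n M n _ _ hu hn hT' T rfl
  have r3 : B * A = A ^ R * B := beta_alpha M n _ _ hu hn R rfl
  have hrel : ∀ r ∈ rels M n R T,
      FreeGroup.lift (fun x : Bool => if x then A else B) r = 1 := by
    intro r hr
    simp only [rels, Set.mem_insert_iff, Set.mem_singleton_iff] at hr
    rcases hr with rfl | rfl | rfl
    · simp [r1]
    · simp [r2]
    · simp only [map_mul, map_inv, map_pow, FreeGroup.lift_apply_of, if_true, Bool.false_eq_true,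
        if_false]
      rw [r3]
      group
  let φ : P M n R T →* Equiv.Perm (ZMod M × ZMod n) := PresentedGroup.toGroup hrel
  have hφ : φ (ga M n R T) = A := by
    show PresentedGroup.toGroup hrel (PresentedGroup.of true) = A
    rw [PresentedGroup.toGroup.of]
    rfl
  have h1 : A ^ i = 1 := by
    rw [← hφ, ← map_pow, h, map_one]
  have h2 := congrArg (fun f : Equiv.Perm (ZMod M × ZMod n) => (f (0, 0)).1) h1
  simp only [hA, alpha_pow, Equiv.Perm.coe_one, id_eq, zero_add] at h2
  exact (ZMod.natCast_eq_zero_iff i M).1 h2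

end Cfsg.Agent.Helper17.Meta
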