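import Cfsg.Agent.Helper17.Meta

/-!
# Metacyclic presentations: finiteness (helper17)
-/

set_option autoImplicit false

namespace Cfsg.Agent.Helper17.Meta

open scoped Pointwise

section general

variable {Γ : Type*} [Group Γ]

theorem conj_pow_gen (a b : Γ) (R : ℕ) (hc : b * a * b⁻¹ = a ^ R) (k : ℕ) :
    b ^ k * a * (b ^ k)⁻¹ = a ^ (R ^ k) := by
  induction k with
  | zero => simp
  | succ k ih =>
    have : b ^ (k + 1) * a * (b ^ (k + 1))⁻¹ = b * (b ^ k * a * (b ^ k)⁻¹) * b⁻¹ := by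
      rw [pow_succ']; group
    rw [this, ih, ← conj_pow, hc, ← pow_mul, pow_succ']

theorem inv_conj_gen (a b : Γ) (n R T : ℕ) (hn : 0 < n) (hb : b ^ n = a ^ T)
    (hc : b * a * b⁻¹ = a ^ R) : b⁻¹ * a * b = a ^ (R ^ (n - 1)) := by
  have h1 : b⁻¹ = b ^ (n - 1) * (a ^ T)⁻¹ := by
    rw [← hb]
    conv_rhs => rw [show b ^ n = b ^ (n - 1) * b from by rw [← pow_succ, Nat.sub_add_cancel hn]]
    group
  have h3 : (a ^ T)⁻¹ * a * a ^ T = a := by
    have : Commute (a ^ T) a := (Commute.refl a).pow_left T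
    rw [mul_assoc, ← this.eq, ← mul_assoc, inv_mul_cancel, one_mul]
  have key : ∀ X : Γ, b⁻¹ = X * (a ^ T)⁻¹ →
      b⁻¹ * a * b = X * ((a ^ T)⁻¹ * a * a ^ T) * X⁻¹ := by
    intro X hX
    have hb' : b = a ^ T * X⁻¹ := by
      have := congrArg (·⁻¹) hX
      simpa using this
    calc b⁻¹ * a * b = (X * (a ^ T)⁻¹) * a * b := by rw [hX]
      _ = (X * (a ^ T)⁻¹) * a * (a ^ T * X⁻¹) := by rw [← hb']
      _ = _ := by group
  rw [key _ h1, h3, conj_pow_gen a b R hc]

theorem zpowers_normal_gen (a b : Γ) (hgen : Subgroup.closure ({a, b} : Set Γ) = ⊤)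
    (n R T : ℕ) (hn : 0 < n) (hb : b ^ n = a ^ T) (hc : b * a * b⁻¹ = a ^ R) :
    (Subgroup.zpowers a).Normal := by
  rw [← Subgroup.normalizer_eq_top_iff, eq_top_iff, ← hgen, Subgroup.closure_le]
  intro x hx
  rcases hx with hx | hx
  · rw [hx]
    exact Subgroup.le_normalizer (Subgroup.mem_zpowers a)
  · rw [Set.mem_singleton_iff] at hx
    rw [hx]
    clear hx
    generalize hxb : b = x at hb hc
    rw [SetLike.mem_coe, Subgroup.mem_normalizer_iff]
    intro h
    constructor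
    · rintro ⟨k, rfl⟩
      show x * a ^ k * x⁻¹ ∈ Subgroup.zpowers a
      rw [← conj_zpow, hc]
      exact Subgroup.zpow_mem _ (Subgroup.pow_mem _ (Subgroup.mem_zpowers a) _) _
    · rintro ⟨k, hk⟩
      have hk' : a ^ k = x * h * x⁻¹ := hk
      have : h = x⁻¹ * a ^ k * x := by rw [hk']; group
      rw [this]
      have h4 : x⁻¹ * a ^ k * x = (x⁻¹ * a * x) ^ k := by
        have := @conj_zpow Γ _ k x⁻¹ a
        rw [inv_inv] at this
        exact this.symm
      rw [h4, inv_conj_gen a x n R T hn hb hc]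
      exact Subgroup.zpow_mem _ (Subgroup.pow_mem _ (Subgroup.mem_zpowers a) _) _

theorem finite_gen (a b : Γ) (hgen : Subgroup.closure ({a, b} : Set Γ) = ⊤)
    (M n R T : ℕ) (hM : 0 < M) (hn : 0 < n) (ha : a ^ M = 1) (hb : b ^ n = a ^ T)
    (hc : b * a * b⁻¹ = a ^ R) : Finite Γ := by
  have := zpowers_normal_gen a b hgen n R T hn hb hc
  have hfa : IsOfFinOrder a := isOfFinOrder_iff_pow_eq_one.2 ⟨M, hM, ha⟩
  have hfb : IsOfFinOrder b := by
    refine isOfFinOrder_iff_pow_eq_one.2 ⟨n * M, Nat.mul_pos hn hM, ?_⟩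
    rw [pow_mul, hb, ← pow_mul, mul_comm, pow_mul, ha, one_pow]
  have hsup : Subgroup.zpowers b ⊔ Subgroup.zpowers a = ⊤ := by
    rw [eq_top_iff, ← hgen, Subgroup.closure_le]
    intro x hx
    rcases hx with hx | hx
    · rw [hx]
      exact (le_sup_right : Subgroup.zpowers a ≤ _) (Subgroup.mem_zpowers a)
    · rw [Set.mem_singleton_iff] at hx
      rw [hx]
      exact (le_sup_left : Subgroup.zpowers b ≤ _) (Subgroup.mem_zpowers b)
  have h1 : (Set.univ : Set Γ) = (Subgroup.zpowers b : Set Γ) * (Subgroup.zpowers a : Set Γ) := by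
    rw [← Subgroup.mul_normal, hsup]
    rfl
  have h2 : (Set.univ : Set Γ).Finite := by
    rw [h1]
    exact Set.Finite.mul hfb.finite_zpowers hfa.finite_zpowers
  exact Set.finite_univ_iff.1 h2

end general

theorem finite_P (M n R T : ℕ) (hM : 0 < M) (hn : 0 < n) : Finite (P M n R T) :=
  finite_gen (ga M n R T) (gb M n R T) (closure_gen M n R T) M n R T hM hn (ga_pow M n R T)
    (gb_pow M n R T) (gb_conj M n R T)

end Cfsg.Agent.Helper17.Meta
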