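import Mathlib

/-!
# Arithmetic for the metacyclic Schur multiplier (helper17)
-/

set_option autoImplicit false

namespace Cfsg.Agent.Helper17.Meta

theorem dvd_gcd_mul_gcd {m x y : ℕ} (h : m ∣ x * y) : m ∣ Nat.gcd m x * Nat.gcd m y := by
  rw [← Nat.gcd_mul_left]
  apply Nat.dvd_gcd
  · exact Dvd.intro_left _ rfl
  · rw [← Nat.gcd_mul_right]
    exact Nat.dvd_gcd (Dvd.intro _ rfl) h

theorem exists_coprime_add (x n m : ℕ) (hm : m ≠ 0) (hx : x.Coprime n) :
    ∃ k : ℕ, (x + k * n).Coprime m := by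
  let ps : Finset ℕ := {p ∈ m.primeFactors | ¬p ∣ x}
  use ps.prod id
  apply Nat.coprime_of_dvd
  intro p pp hp hpn
  by_cases hpx : p ∣ x
  · have h := Nat.dvd_sub hp hpx
    rw [add_comm, Nat.add_sub_cancel] at h
    rcases pp.dvd_mul.mp h with h | h
    · have ⟨q, hq, hq'⟩ := (pp.prime.dvd_finsetProd_iff id).mp h
      rw [Finset.mem_filter, Nat.mem_primeFactors,
        ← (Nat.prime_dvd_prime_iff_eq pp hq.1.1).mp hq'] at hq
      exact hq.2 hpx
    · exact Nat.Prime.not_coprime_iff_dvd.mpr ⟨p, pp, hpx, h⟩ hx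
  · have pps : p ∈ ps := Finset.mem_filter.mpr ⟨Nat.mem_primeFactors.mpr ⟨pp, hpn, hm⟩, hpx⟩
    have h := Nat.dvd_sub hp ((Finset.dvd_prod_of_mem id pps).mul_right n)
    rw [Nat.add_sub_cancel] at h
    contradiction

theorem add_pow_sq_zero {A : Type*} [CommRing A] (a e : A) (he : e * e = 0) (n : ℕ) :
    (a + e) ^ (n + 1) = a ^ (n + 1) + ((n + 1 : ℕ) : A) * a ^ n * e := by
  induction n with
  | zero => simp
  | succ n ih =>
    rw [pow_succ, ih]
    push_cast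
    linear_combination ((n : A) + 1) * a ^ n * he

/-- The basic divisibility facts. -/
theorem arith_main (m n r l : ℕ) (hm : 0 < m) (hr : 0 < r) (hrn : r ^ n ≡ 1 [MOD m]) :
    ∃ d m1 e1 h N : ℕ, d = Nat.gcd m (r - 1) ∧ N = ∑ i ∈ Finset.range n, r ^ i ∧
      h = d * Nat.gcd m N / m ∧ 0 < d ∧ 0 < m1 ∧
      m = d * m1 ∧ r = d * e1 + 1 ∧ Nat.Coprime m1 e1 ∧
      m1 * h = Nat.gcd m N ∧ m * l / d = m1 * l ∧ 0 < h ∧ h ∣ d ∧ h ∣ n ∧
      m * h ∣ (r - 1) * N := by
  have hd : 0 < Nat.gcd m (r - 1) := Nat.gcd_pos_of_pos_left _ hm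
  obtain ⟨m1, hm1⟩ : Nat.gcd m (r - 1) ∣ m := Nat.gcd_dvd_left _ _
  obtain ⟨e1, he1⟩ : Nat.gcd m (r - 1) ∣ r - 1 := Nat.gcd_dvd_right _ _
  generalize hdd : Nat.gcd m (r - 1) = d at hd hm1 he1
  generalize hNN : ∑ i ∈ Finset.range n, r ^ i = N
  have hr' : r = d * e1 + 1 := by omega
  have hm1pos : 0 < m1 := by
    rcases Nat.eq_zero_or_pos m1 with h0 | h0
    · rw [h0, mul_zero] at hm1; omega
    · exact h0
  have hcop : Nat.Coprime m1 e1 := by
    have := Nat.coprime_div_gcd_div_gcd (m := m) (n := r - 1) (by rw [hdd]; exact hd)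
    rw [hdd] at this
    have e1' : m / d = m1 := by rw [hm1]; exact Nat.mul_div_cancel_left _ hd
    have e2' : (r - 1) / d = e1 := by rw [he1]; exact Nat.mul_div_cancel_left _ hd
    rw [e1', e2'] at this
    exact this
  have hmN : m ∣ (r - 1) * N := by
    have h1 := Nat.modEq_iff_dvd.1 hrn
    have h2 : (((r - 1) * N : ℕ) : ℤ) = (r : ℤ) ^ n - 1 := by
      rw [← hNN, Nat.cast_mul, Nat.cast_sub hr, Nat.cast_sum]
      simp only [Nat.cast_pow, Nat.cast_one]
      exact mul_geom_sum _ _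
    rw [← Int.natCast_dvd_natCast, h2]
    have : (r : ℤ) ^ n - 1 = -(((1 : ℕ) : ℤ) - ((r ^ n : ℕ) : ℤ)) := by push_cast; ring
    rw [this]
    exact (dvd_neg).2 h1
  have hdiv : m ∣ d * Nat.gcd m N := by
    have := dvd_gcd_mul_gcd hmN
    rw [hdd] at this
    exact this
  have hh : d * Nat.gcd m N / m * m = d * Nat.gcd m N := Nat.div_mul_cancel hdiv
  generalize hhh : d * Nat.gcd m N / m = h at hh
  have h5 : m1 * h = Nat.gcd m N := by
    apply Nat.eq_of_mul_eq_mul_left hd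
    rw [← hh]
    conv_rhs => rw [hm1]
    ring
  have hgpos : 0 < Nat.gcd m N := Nat.gcd_pos_of_pos_left _ hm
  have hhpos : 0 < h := by
    rcases Nat.eq_zero_or_pos h with h0 | h0
    · rw [h0, mul_zero] at h5; omega
    · exact h0
  have h6 : h ∣ d := by
    have : m1 * h ∣ m1 * d := by
      rw [h5, mul_comm m1 d, ← hm1]
      exact Nat.gcd_dvd_left _ _
    exact Nat.dvd_of_mul_dvd_mul_left hm1pos this
  have h7 : h ∣ N := (Dvd.intro_left m1 h5).trans (Nat.gcd_dvd_right m N)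
  have h8 : h ∣ n := by
    have hr1 : ((r : ℕ) : ZMod h) = 1 := by
      rw [hr']
      push_cast
      rw [(ZMod.natCast_eq_zero_iff d h).2 h6]
      simp
    have hN0 : ((N : ℕ) : ZMod h) = 0 := (ZMod.natCast_eq_zero_iff N h).2 h7
    have hNn : ((N : ℕ) : ZMod h) = (n : ZMod h) := by
      rw [← hNN, Nat.cast_sum]
      simp [hr1]
    exact (ZMod.natCast_eq_zero_iff n h).1 (hNn ▸ hN0)
  have h9 : m * h ∣ (r - 1) * N := by
    rw [mul_comm m h, hh, he1, mul_assoc]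
    exact Nat.mul_dvd_mul_left d ((Nat.gcd_dvd_right m N).trans (Dvd.intro_left e1 rfl))
  have h10 : m * l / d = m1 * l := by
    rw [hm1, mul_assoc]
    exact Nat.mul_div_cancel_left _ hd
  exact ⟨d, m1, e1, h, N, rfl, rfl, hhh.symm, hd, hm1pos, hm1, hr', hcop, h5, h10, hhpos, h6, h8, h9⟩

/-- The choice of the twisted exponent `R = r + m k` for the cover. -/
theorem arith_choice (m n r l d m1 e1 g N t : ℕ) (hn : 0 < n) (hd : 0 < d) (hm1 : 0 < m1)
    (h1 : m = d * m1) (h2 : r = d * e1 + 1) (hcop : Nat.Coprime m1 e1)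
    (hN : N = ∑ i ∈ Finset.range n, r ^ i)
    (hg : 0 < g) (hgl : g ∣ l) (hgd : g ∣ d) (hgn : g ∣ n) (hmg : m * g ∣ (r - 1) * N)
    (ht : t = m1 * l) :
    ∃ k k' : ℕ, (r + m * k) ^ n ≡ 1 [MOD m * g] ∧ t * (r + m * k) ≡ t [MOD m * g] ∧
      (r + m * k - 1) * k' ≡ m [MOD m * g] ∧ g ∣ r + m * k - 1 := by
  obtain ⟨k, hk⟩ := exists_coprime_add e1 m1 (m1 * g) (Nat.mul_pos hm1 hg).ne' hcop.symm
  have hR1 : r + m * k - 1 = d * (e1 + k * m1) := by
    rw [h2, h1]
    have : d * e1 + 1 + d * m1 * k - 1 = d * e1 + d * m1 * k := by omega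
    rw [this]; ring
  obtain ⟨gl, hgl'⟩ := hgl
  obtain ⟨gd, hgd'⟩ := hgd
  obtain ⟨gn, hgn'⟩ := hgn
  refine ⟨k, ?_⟩
  have c1 : g ∣ r + m * k - 1 := by
    rw [hR1, hgd', mul_assoc]; exact Dvd.intro _ rfl
  have c2 : t * (r + m * k) ≡ t [MOD m * g] := by
    have hR : r + m * k = 1 + d * (e1 + k * m1) := by
      rw [← hR1]; omega
    have : t * (r + m * k) = t + (m * g) * (gl * (e1 + k * m1)) := by
      rw [hR, ht, h1, hgl']; ring
    show t * (r + m * k) % (m * g) = t % (m * g)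
    rw [this, Nat.add_mul_mod_self_left]
  have c3 : (r + m * k) ^ n ≡ 1 [MOD m * g] := by
    rw [← ZMod.natCast_eq_natCast_iff]
    push_cast
    have hr0 : ((r : ℕ) : ZMod (m * g)) ^ n = 1 := by
      have hz : (((r - 1) * N : ℕ) : ZMod (m * g)) = 0 := (ZMod.natCast_eq_zero_iff _ _).2 hmg
      have hr1 : 1 ≤ r := by omega
      rw [Nat.cast_mul, Nat.cast_sub hr1, hN, Nat.cast_sum] at hz
      simp only [Nat.cast_pow, Nat.cast_one] at hz
      rw [mul_geom_sum] at hz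
      exact sub_eq_zero.1 hz
    have he : ((m : ZMod (m * g)) * (k : ZMod (m * g))) * ((m : ZMod (m * g)) * k) = 0 := by
      have hgm : g ∣ m := ⟨gd * m1, by rw [h1, hgd']; ring⟩
      have : ((m * m : ℕ) : ZMod (m * g)) = 0 := by
        rw [ZMod.natCast_eq_zero_iff]
        exact Nat.mul_dvd_mul_left m hgm
      push_cast at this
      linear_combination (k : ZMod (m * g)) * k * this
    have hne : ((n : ZMod (m * g))) * ((m : ZMod (m * g)) * k) = 0 := by
      have : ((n * m : ℕ) : ZMod (m * g)) = 0 := by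
        rw [ZMod.natCast_eq_zero_iff, hgn']
        exact ⟨gn, by ring⟩
      push_cast at this
      linear_combination (k : ZMod (m * g)) * this
    obtain ⟨n', rfl⟩ : ∃ n', n = n' + 1 := ⟨n - 1, by omega⟩
    rw [add_pow_sq_zero _ _ he, hr0]
    have : (((n' + 1 : ℕ) : ZMod (m * g))) * (r : ZMod (m * g)) ^ n' * ((m : ZMod (m * g)) * k) =
        (r : ZMod (m * g)) ^ n' * ((((n' + 1 : ℕ) : ZMod (m * g))) * ((m : ZMod (m * g)) * k)) := by
      ring
    rw [this, hne, mul_zero, add_zero]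
  have c4 : ∃ k' : ℕ, (r + m * k - 1) * k' ≡ m [MOD m * g] := by
    rcases Nat.lt_or_ge 1 (m1 * g) with hlt | hle
    · obtain ⟨k0, -, hk0⟩ := Nat.exists_mul_mod_eq_one_of_coprime hk hlt
      have hk0' : (e1 + k * m1) * k0 ≡ 1 [MOD m1 * g] := by
        show _ % _ = 1 % _
        rw [hk0, Nat.mod_eq_of_lt hlt]
      refine ⟨k0 * m1, ?_⟩
      have e1' : (r + m * k - 1) * (k0 * m1) = m * ((e1 + k * m1) * k0) := by
        rw [hR1, h1]; ring
      rw [e1']
      have := Nat.ModEq.mul_left' m hk0'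
      rw [mul_one] at this
      exact Nat.ModEq.of_dvd ⟨m1, by ring⟩ this
    · have hmg1 : m1 * g = 1 := by
        have := Nat.mul_pos hm1 hg
        omega
      have hg1 : g = 1 := Nat.eq_one_of_mul_eq_one_left hmg1
      refine ⟨0, ?_⟩
      rw [hg1, mul_one, mul_zero]
      show 0 % m = m % m
      rw [Nat.mod_self, Nat.zero_mod]
  obtain ⟨k', hk'⟩ := c4
  exact ⟨k', c3, c2, hk', c1⟩

end Cfsg.Agent.Helper17.Meta
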