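import Cfsg.Agent.Helper17.Meta2
import Cfsg.Agent.Helper17.Meta3
import Cfsg.Prelude.Def_KGroupFacts

/-!
# Metacyclic Schur multiplier: the cover (helper17)
-/

set_option autoImplicit false

namespace Cfsg.Agent.Helper17.Meta

theorem pow_congr_mod {Γ : Type*} [Group Γ] (x : Γ) (M : ℕ) (hx : x ^ M = 1) {i j : ℕ}
    (h : i ≡ j [MOD M]) : x ^ i = x ^ j := by
  rw [pow_eq_pow_mod i hx, pow_eq_pow_mod j hx]
  congr 1

/-- The map between metacyclic presentations and its kernel. -/
theorem cover_stem (m n r g R t : ℕ) (hm : 0 < m) (hn : 0 < n)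
    (hRr : R ≡ r [MOD m]) (hRn : R ^ n ≡ 1 [MOD m * g]) (htR : t * R ≡ t [MOD m * g])
    (k' : ℕ) (hk' : (R - 1) * k' ≡ m [MOD m * g]) (hgR : g ∣ R - 1) (hR1 : 1 ≤ R) :
    ∃ σ : P (m * g) n R t →* P m n r t, Cfsg.IsStemExtension σ ∧
      Nonempty (σ.ker ≃* Multiplicative (ZMod g)) := by
  set A := ga (m * g) n R t with hA
  set B := gb (m * g) n R t with hB
  set a := ga m n r t with ha
  set b := gb m n r t with hb
  have hAM : A ^ (m * g) = 1 := ga_pow _ _ _ _
  have hBn : B ^ n = A ^ t := gb_pow _ _ _ _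
  have hBA : B * A * B⁻¹ = A ^ R := gb_conj _ _ _ _
  have ham : a ^ m = 1 := ga_pow _ _ _ _
  have hbn : b ^ n = a ^ t := gb_pow _ _ _ _
  have hba : b * a * b⁻¹ = a ^ r := gb_conj _ _ _ _
  -- the map σ
  have hrel : ∀ rel ∈ rels (m * g) n R t,
      FreeGroup.lift (fun x : Bool => if x then a else b) rel = 1 := by
    intro rel hr
    simp only [rels, Set.mem_insert_iff, Set.mem_singleton_iff] at hr
    rcases hr with rfl | rfl | rfl
    · simp [pow_mul, ham]
    · simp [hbn]
    · simp only [map_mul, map_inv, map_pow, FreeGroup.lift_apply_of, if_true, Bool.false_eq_true,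
        if_false]
      rw [hba, pow_congr_mod a m ham hRr, mul_inv_cancel]
  let σ : P (m * g) n R t →* P m n r t := PresentedGroup.toGroup hrel
  have hσA : σ A = a := by
    show PresentedGroup.toGroup hrel (PresentedGroup.of true) = a
    rw [PresentedGroup.toGroup.of]; rfl
  have hσB : σ B = b := by
    show PresentedGroup.toGroup hrel (PresentedGroup.of false) = b
    rw [PresentedGroup.toGroup.of]; rfl
  have hsurj : Function.Surjective σ := by
    rw [← MonoidHom.range_eq_top, eq_top_iff, ← closure_gen m n r t, Subgroup.closure_le]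
    intro x hx
    rcases hx with hx | hx
    · exact ⟨A, by rw [hσA, hx]⟩
    · rw [Set.mem_singleton_iff] at hx
      exact ⟨B, by rw [hσB, hx]⟩
  -- the central element
  have hcomB : B * A ^ m = A ^ m * B := by
    have h1 : B * A ^ m * B⁻¹ = A ^ m := by
      rw [← conj_pow, hBA, ← pow_mul]
      apply pow_congr_mod A (m * g) hAM
      have : R * m = m + (R - 1) * m := by
        obtain ⟨R', rfl⟩ : ∃ R', R = R' + 1 := ⟨R - 1, by omega⟩
        simp; ring
      rw [this]
      obtain ⟨c, hc⟩ := hgR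
      rw [hc]
      show (m + g * c * m) % (m * g) = m % (m * g)
      have : m + g * c * m = m + (m * g) * c := by ring
      rw [this, Nat.add_mul_mod_self_left]
    calc B * A ^ m = (B * A ^ m * B⁻¹) * B := by group
      _ = A ^ m * B := by rw [h1]
  have hcen : A ^ m ∈ Subgroup.center (P (m * g) n R t) := by
    rw [Subgroup.mem_center_iff]
    have : Subgroup.closure ({A, B} : Set (P (m * g) n R t)) ≤
        Subgroup.centralizer {A ^ m} := by
      rw [Subgroup.closure_le]
      intro x hx
      rw [SetLike.mem_coe, Subgroup.mem_centralizer_iff]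
      intro y hy
      rw [Set.mem_singleton_iff] at hy
      rw [hy]
      rcases hx with hx | hx
      · rw [hx]
        exact ((Commute.refl A).pow_left m).eq
      · rw [Set.mem_singleton_iff] at hx
        rw [hx]
        exact hcomB.symm
    intro x
    have hx : x ∈ Subgroup.centralizer {A ^ m} := this (by rw [closure_gen]; trivial)
    rw [Subgroup.mem_centralizer_iff] at hx
    exact (hx _ rfl).symm
  have hZc : Subgroup.zpowers (A ^ m) ≤ Subgroup.center (P (m * g) n R t) := by
    rw [Subgroup.zpowers_le]; exact hcen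
  have hZn : (Subgroup.zpowers (A ^ m)).Normal := by
    refine ⟨fun x hx y => ?_⟩
    have := Subgroup.mem_center_iff.1 (hZc hx) y
    have e : y * x * y⁻¹ = x := by rw [this]; group
    rw [e]; exact hx
  -- the kernel
  have hmkA : ((QuotientGroup.mk (A ^ m) : P (m * g) n R t ⧸ Subgroup.zpowers (A ^ m))) = 1 :=
    (QuotientGroup.eq_one_iff _).2 (Subgroup.mem_zpowers _)
  have hqA : ((QuotientGroup.mk A : P (m * g) n R t ⧸ Subgroup.zpowers (A ^ m))) ^ m = 1 := by
    rw [← QuotientGroup.mk_pow]; exact hmkA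
  have hrel2 : ∀ rel ∈ rels m n r t,
      FreeGroup.lift (fun x : Bool => if x then
        (QuotientGroup.mk A : P (m * g) n R t ⧸ Subgroup.zpowers (A ^ m))
        else QuotientGroup.mk B) rel = 1 := by
    intro rel hr
    simp only [rels, Set.mem_insert_iff, Set.mem_singleton_iff] at hr
    rcases hr with rfl | rfl | rfl
    · simp [hqA]
    · simp only [map_mul, map_inv, map_pow, FreeGroup.lift_apply_of, if_true, Bool.false_eq_true,
        if_false]
      rw [← QuotientGroup.mk_pow, ← QuotientGroup.mk_pow, hBn, mul_inv_cancel]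
    · simp only [map_mul, map_inv, map_pow, FreeGroup.lift_apply_of, if_true, Bool.false_eq_true,
        if_false]
      rw [← QuotientGroup.mk_inv, ← QuotientGroup.mk_mul, ← QuotientGroup.mk_mul, hBA,
        QuotientGroup.mk_pow, pow_congr_mod _ m hqA hRr, mul_inv_cancel]
  let τ : P m n r t →* P (m * g) n R t ⧸ Subgroup.zpowers (A ^ m) := PresentedGroup.toGroup hrel2
  have hτσ : τ.comp σ = QuotientGroup.mk' (Subgroup.zpowers (A ^ m)) := by
    apply PresentedGroup.ext
    intro x
    cases x
    · show τ (σ B) = QuotientGroup.mk B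
      rw [hσB]
      show PresentedGroup.toGroup hrel2 (PresentedGroup.of false) = _
      rw [PresentedGroup.toGroup.of]; rfl
    · show τ (σ A) = QuotientGroup.mk A
      rw [hσA]
      show PresentedGroup.toGroup hrel2 (PresentedGroup.of true) = _
      rw [PresentedGroup.toGroup.of]; rfl
  have hker : σ.ker = Subgroup.zpowers (A ^ m) := by
    apply le_antisymm
    · intro x hx
      rw [MonoidHom.mem_ker] at hx
      have : QuotientGroup.mk' (Subgroup.zpowers (A ^ m)) x = 1 := by
        rw [← hτσ, MonoidHom.comp_apply, hx, map_one]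
      exact (QuotientGroup.eq_one_iff x).1 this
    · rw [Subgroup.zpowers_le, MonoidHom.mem_ker, map_pow, hσA, ham]
  -- inside the commutator subgroup
  have hcomm : A ^ m ∈ commutator (P (m * g) n R t) := by
    have h1 : A ^ (R - 1) ∈ commutator (P (m * g) n R t) := by
      have h0 := Subgroup.commutator_mem_commutator
        (Subgroup.mem_top B : B ∈ (⊤ : Subgroup (P (m * g) n R t)))
        (Subgroup.mem_top A : A ∈ (⊤ : Subgroup (P (m * g) n R t)))
      rw [commutatorElement_def, hBA, ← commutator_def] at h0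
      have : A ^ (R - 1) = A ^ R * A⁻¹ := by
        obtain ⟨R', rfl⟩ : ∃ R', R = R' + 1 := ⟨R - 1, by omega⟩
        simp [pow_succ]
      rw [this]
      exact h0
    have h2 : A ^ m = (A ^ (R - 1)) ^ k' := by
      rw [← pow_mul]
      exact (pow_congr_mod A (m * g) hAM hk').symm
    rw [h2]
    exact Subgroup.pow_mem _ h1 _
  -- the order
  have hordA : orderOf A = m * g := by
    apply Nat.dvd_antisymm (orderOf_dvd_of_pow_eq_one hAM)
    exact a_order (m * g) n R t hn hRn htR _ (pow_orderOf_eq_one A)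
  have hord : orderOf (A ^ m) = g := by
    rw [orderOf_pow' A hm.ne', hordA, Nat.gcd_eq_right (Dvd.intro _ rfl)]
    exact Nat.mul_div_cancel_left g hm
  refine ⟨σ, ⟨hsurj, ?_, ?_⟩, ?_⟩
  · rw [hker]; exact hZc
  · rw [hker, Subgroup.zpowers_le]; exact hcomm
  · rw [hker]
    have hcard : Nat.card (Subgroup.zpowers (A ^ m)) = Nat.card (Multiplicative (ZMod g)) := by
      rw [Nat.card_zpowers, hord]
      exact (Nat.card_zmod g).symm
    exact ⟨mulEquivOfCyclicCardEq hcard⟩

/-- Existence half of the metacyclic multiplier statement. -/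
theorem cover_exists (m n r l : ℕ) (hm : 0 < m) (hn : 0 < n) (hr : 0 < r)
    (hrn : r ^ n ≡ 1 [MOD m]) :
    ∃ (Γ : Type) (_ : Group Γ) (_ : Finite Γ) (σ : Γ →* P m n r (m * l / Nat.gcd m (r - 1))),
      Cfsg.IsStemExtension σ ∧ Nonempty (σ.ker ≃* Multiplicative (ZMod (Nat.gcd l
        (Nat.gcd m (r - 1) * Nat.gcd m (∑ i ∈ Finset.range n, r ^ i) / m)))) := by
  obtain ⟨d, m1, e1, h, N, hd, hN, hh, hdpos, hm1pos, hmd, hrd, hcop, h5, h10, hhpos, h6, h8,
    h9⟩ := arith_main m n r l hm hr hrn
  rw [← hd, ← hN, ← hh]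
  have hgl : Nat.gcd l h ∣ l := Nat.gcd_dvd_left _ _
  have hgh : Nat.gcd l h ∣ h := Nat.gcd_dvd_right _ _
  have hgpos : 0 < Nat.gcd l h := Nat.gcd_pos_of_pos_right _ hhpos
  have hmg : m * Nat.gcd l h ∣ (r - 1) * N := (Nat.mul_dvd_mul_left m hgh).trans h9
  obtain ⟨k, k', c3, c2, c4, c1⟩ := arith_choice m n r l d m1 e1 (Nat.gcd l h) N (m * l / d) hn
    hdpos hm1pos hmd hrd hcop hN hgpos hgl (hgh.trans h6) (hgh.trans h8) hmg h10
  have hRr : r + m * k ≡ r [MOD m] := by
    show (r + m * k) % m = r % m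
    rw [Nat.add_mul_mod_self_left]
  obtain ⟨σ, hσ, hiso⟩ := cover_stem m n r (Nat.gcd l h) (r + m * k) (m * l / d) hm hn hRr c3 c2
    k' c4 c1 (by omega)
  exact ⟨P (m * Nat.gcd l h) n (r + m * k) (m * l / d), inferInstance,
    finite_P _ _ _ _ (Nat.mul_pos hm hgpos) hn, σ, hσ, hiso⟩

end Cfsg.Agent.Helper17.Meta
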