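import Mathlib
import Cfsg.Agent.Helper17.TGolayHex
import Cfsg.Agent.Helper17.MonoAut

/-!
# The monomial automorphism group of the ternary Golay code (helper17)

`2 × M₁₂`: the permutation parts are exactly the automorphisms of the hexad system, they act
sharply 5-transitively on the twelve points, and the diagonal part is `± 1`.
-/

set_option autoImplicit false

namespace Cfsg.Agent.Helper17.TGolay

open Cfsg Cfsg.Agent.Helper17.Mono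
open scoped Pointwise

/-- index of a point -/
def ixN (p : ArrayPt) : ℕ := 3 * p.1.val + ZMod.val p.2

/-- the point with a given index -/
def ptN (n : ℕ) : ArrayPt := (Fin.ofNat 4 (n / 3), ((n : ℕ) : ZMod 3))

def tR : List (List (List ℕ)) :=
  [[[0, 1, 2, 3, 4, 5, 6, 7, 8, 9, 10, 11],
    [1, 0, 2, 3, 4, 5, 11, 9, 10, 7, 8, 6],
    [2, 0, 1, 3, 4, 5, 8, 6, 7, 10, 11, 9],
    [3, 0, 1, 2, 4, 5, 10, 7, 6, 8, 9, 11],
    [4, 0, 1, 2, 3, 5, 6, 9, 10, 11, 7, 8],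
    [5, 0, 1, 2, 3, 4, 9, 6, 8, 7, 11, 10],
    [6, 0, 1, 2, 3, 9, 5, 4, 7, 10, 8, 11],
    [7, 0, 1, 2, 3, 11, 10, 8, 9, 4, 5, 6],
    [8, 0, 1, 2, 3, 10, 7, 11, 4, 6, 9, 5],
    [9, 0, 1, 2, 3, 6, 4, 5, 11, 8, 10, 7],
    [10, 0, 1, 2, 3, 8, 11, 7, 5, 9, 6, 4],
    [11, 0, 1, 2, 3, 7, 8, 10, 6, 5, 4, 9]],
   [[],
    [0, 1, 2, 3, 4, 5, 6, 7, 8, 9, 10, 11],
    [0, 2, 1, 3, 4, 5, 9, 10, 11, 6, 7, 8],
    [0, 3, 1, 2, 4, 5, 11, 8, 9, 7, 6, 10],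
    [0, 4, 1, 2, 3, 5, 8, 11, 7, 9, 10, 6],
    [0, 5, 1, 2, 3, 4, 10, 7, 11, 6, 8, 9],
    [0, 6, 1, 2, 3, 9, 11, 10, 8, 4, 7, 5],
    [0, 7, 1, 2, 3, 11, 6, 4, 5, 8, 9, 10],
    [0, 8, 1, 2, 3, 10, 5, 6, 9, 11, 4, 7],
    [0, 9, 1, 2, 3, 6, 7, 8, 10, 5, 11, 4],
    [0, 10, 1, 2, 3, 8, 4, 9, 6, 7, 5, 11],
    [0, 11, 1, 2, 3, 7, 9, 5, 4, 10, 6, 8]],
   [[],
    [],
    [0, 1, 2, 3, 4, 5, 6, 7, 8, 9, 10, 11],
    [0, 1, 3, 2, 4, 5, 7, 6, 10, 11, 8, 9],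
    [0, 1, 4, 2, 3, 5, 9, 10, 6, 8, 11, 7],
    [0, 1, 5, 2, 3, 4, 6, 8, 9, 10, 7, 11],
    [0, 1, 6, 2, 3, 9, 4, 7, 5, 11, 10, 8],
    [0, 1, 7, 2, 3, 11, 8, 9, 10, 6, 4, 5],
    [0, 1, 8, 2, 3, 10, 11, 4, 7, 5, 6, 9],
    [0, 1, 9, 2, 3, 6, 5, 11, 4, 7, 8, 10],
    [0, 1, 10, 2, 3, 8, 7, 5, 11, 4, 9, 6],
    [0, 1, 11, 2, 3, 7, 10, 6, 8, 9, 5, 4]],
   [[],
    [],
    [],
    [0, 1, 2, 3, 4, 5, 6, 7, 8, 9, 10, 11],
    [0, 1, 2, 4, 3, 5, 10, 9, 11, 7, 6, 8],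
    [0, 1, 2, 5, 3, 4, 8, 6, 7, 11, 9, 10],
    [0, 1, 2, 6, 3, 9, 7, 4, 10, 8, 5, 11],
    [0, 1, 2, 7, 3, 11, 9, 8, 4, 5, 10, 6],
    [0, 1, 2, 8, 3, 10, 4, 11, 6, 9, 7, 5],
    [0, 1, 2, 9, 3, 6, 11, 5, 8, 10, 4, 7],
    [0, 1, 2, 10, 3, 8, 5, 7, 9, 6, 11, 4],
    [0, 1, 2, 11, 3, 7, 6, 10, 5, 4, 8, 9]],
   [[],
    [],
    [],
    [],
    [0, 1, 2, 3, 4, 5, 6, 7, 8, 9, 10, 11],
    [0, 1, 2, 3, 5, 4, 9, 11, 10, 6, 8, 7],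
    [0, 1, 2, 3, 6, 9, 5, 8, 11, 4, 7, 10],
    [0, 1, 2, 3, 7, 11, 10, 5, 6, 8, 9, 4],
    [0, 1, 2, 3, 8, 10, 7, 9, 5, 11, 4, 6],
    [0, 1, 2, 3, 9, 6, 4, 10, 7, 5, 11, 8],
    [0, 1, 2, 3, 10, 8, 11, 6, 4, 7, 5, 9],
    [0, 1, 2, 3, 11, 7, 8, 4, 9, 10, 6, 5]]]

def tRi : List (List (List ℕ)) :=
  [[[0, 1, 2, 3, 4, 5, 6, 7, 8, 9, 10, 11],
    [1, 0, 2, 3, 4, 5, 11, 9, 10, 7, 8, 6],
    [1, 2, 0, 3, 4, 5, 7, 8, 6, 11, 9, 10],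
    [1, 2, 3, 0, 4, 5, 8, 7, 9, 10, 6, 11],
    [1, 2, 3, 4, 0, 5, 6, 10, 11, 7, 8, 9],
    [1, 2, 3, 4, 5, 0, 7, 9, 8, 6, 11, 10],
    [1, 2, 3, 4, 7, 6, 0, 8, 10, 5, 9, 11],
    [1, 2, 3, 4, 9, 10, 11, 0, 7, 8, 6, 5],
    [1, 2, 3, 4, 8, 11, 9, 6, 0, 10, 5, 7],
    [1, 2, 3, 4, 6, 7, 5, 11, 9, 0, 10, 8],
    [1, 2, 3, 4, 11, 8, 10, 7, 5, 9, 0, 6],
    [1, 2, 3, 4, 10, 9, 8, 5, 6, 11, 7, 0]],
   [[],
    [0, 1, 2, 3, 4, 5, 6, 7, 8, 9, 10, 11],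
    [0, 2, 1, 3, 4, 5, 9, 10, 11, 6, 7, 8],
    [0, 2, 3, 1, 4, 5, 10, 9, 7, 8, 11, 6],
    [0, 2, 3, 4, 1, 5, 11, 8, 6, 9, 10, 7],
    [0, 2, 3, 4, 5, 1, 9, 7, 10, 11, 6, 8],
    [0, 2, 3, 4, 9, 11, 1, 10, 8, 5, 7, 6],
    [0, 2, 3, 4, 7, 8, 6, 1, 9, 10, 11, 5],
    [0, 2, 3, 4, 10, 6, 7, 11, 1, 8, 5, 9],
    [0, 2, 3, 4, 11, 9, 5, 6, 7, 1, 8, 10],
    [0, 2, 3, 4, 6, 10, 8, 9, 5, 7, 1, 11],
    [0, 2, 3, 4, 8, 7, 10, 5, 11, 6, 9, 1]],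
   [[],
    [],
    [0, 1, 2, 3, 4, 5, 6, 7, 8, 9, 10, 11],
    [0, 1, 3, 2, 4, 5, 7, 6, 10, 11, 8, 9],
    [0, 1, 3, 4, 2, 5, 8, 11, 9, 6, 7, 10],
    [0, 1, 3, 4, 5, 2, 6, 10, 7, 8, 9, 11],
    [0, 1, 3, 4, 6, 8, 2, 7, 11, 5, 10, 9],
    [0, 1, 3, 4, 10, 11, 9, 2, 6, 7, 8, 5],
    [0, 1, 3, 4, 7, 9, 10, 8, 2, 11, 5, 6],
    [0, 1, 3, 4, 8, 6, 5, 9, 10, 2, 11, 7],
    [0, 1, 3, 4, 9, 7, 11, 6, 5, 10, 2, 8],
    [0, 1, 3, 4, 11, 10, 7, 5, 8, 9, 6, 2]],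
   [[],
    [],
    [],
    [0, 1, 2, 3, 4, 5, 6, 7, 8, 9, 10, 11],
    [0, 1, 2, 4, 3, 5, 10, 9, 11, 7, 6, 8],
    [0, 1, 2, 4, 5, 3, 7, 8, 6, 10, 11, 9],
    [0, 1, 2, 4, 7, 10, 3, 6, 9, 5, 8, 11],
    [0, 1, 2, 4, 8, 9, 11, 3, 7, 6, 10, 5],
    [0, 1, 2, 4, 6, 11, 8, 10, 3, 9, 5, 7],
    [0, 1, 2, 4, 10, 7, 5, 11, 8, 3, 9, 6],
    [0, 1, 2, 4, 11, 6, 9, 7, 5, 8, 3, 10],
    [0, 1, 2, 4, 9, 8, 6, 5, 10, 11, 7, 3]],
   [[],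
    [],
    [],
    [],
    [0, 1, 2, 3, 4, 5, 6, 7, 8, 9, 10, 11],
    [0, 1, 2, 3, 5, 4, 9, 11, 10, 6, 8, 7],
    [0, 1, 2, 3, 9, 6, 4, 10, 7, 5, 11, 8],
    [0, 1, 2, 3, 11, 7, 8, 4, 9, 10, 6, 5],
    [0, 1, 2, 3, 10, 8, 11, 6, 4, 7, 5, 9],
    [0, 1, 2, 3, 6, 9, 5, 8, 11, 4, 7, 10],
    [0, 1, 2, 3, 8, 10, 7, 9, 5, 11, 4, 6],
    [0, 1, 2, 3, 7, 11, 10, 5, 6, 8, 9, 4]]]

def tC : List (List (List ℕ)) :=
  [[[1, 1, 1, 1, 1, 1, 1, 1, 1, 1, 1, 1],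
    [1, 1, 1, 1, 1, 1, 1, 1, 1, 1, 1, 1],
    [1, 1, 1, 1, 1, 1, 1, 1, 1, 1, 1, 1],
    [2, 2, 1, 1, 2, 2, 1, 1, 2, 1, 2, 1],
    [1, 1, 2, 1, 2, 1, 1, 2, 2, 2, 2, 1],
    [2, 2, 1, 2, 2, 1, 1, 2, 1, 2, 1, 1],
    [2, 1, 2, 2, 1, 2, 1, 1, 1, 2, 2, 1],
    [2, 1, 1, 1, 1, 2, 2, 2, 2, 2, 1, 1],
    [1, 1, 1, 2, 1, 1, 2, 2, 1, 1, 2, 1],
    [2, 1, 2, 2, 2, 1, 2, 1, 2, 1, 1, 1],
    [2, 2, 2, 1, 2, 2, 2, 2, 1, 1, 2, 1],
    [1, 2, 2, 2, 1, 2, 1, 2, 2, 1, 1, 1]],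
   [[],
    [1, 1, 1, 1, 1, 1, 1, 1, 1, 1, 1, 1],
    [1, 1, 1, 1, 1, 1, 1, 1, 1, 1, 1, 1],
    [2, 2, 1, 1, 2, 2, 1, 1, 2, 1, 2, 1],
    [1, 1, 2, 1, 2, 1, 1, 2, 2, 2, 2, 1],
    [2, 2, 1, 2, 2, 1, 1, 2, 1, 2, 1, 1],
    [2, 1, 2, 2, 1, 2, 1, 1, 1, 2, 2, 1],
    [2, 1, 1, 1, 1, 2, 2, 2, 2, 2, 1, 1],
    [1, 1, 1, 2, 1, 1, 2, 2, 1, 1, 2, 1],
    [2, 1, 2, 2, 2, 1, 2, 1, 2, 1, 1, 1],
    [2, 2, 2, 1, 2, 2, 2, 2, 1, 1, 2, 1],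
    [1, 2, 2, 2, 1, 2, 1, 2, 2, 1, 1, 1]],
   [[],
    [],
    [1, 1, 1, 1, 1, 1, 1, 1, 1, 1, 1, 1],
    [2, 2, 1, 1, 2, 2, 1, 1, 2, 1, 2, 1],
    [1, 1, 2, 1, 2, 1, 1, 2, 2, 2, 2, 1],
    [2, 2, 1, 2, 2, 1, 1, 2, 1, 2, 1, 1],
    [2, 1, 2, 2, 1, 2, 1, 1, 1, 2, 2, 1],
    [2, 1, 1, 1, 1, 2, 2, 2, 2, 2, 1, 1],
    [1, 1, 1, 2, 1, 1, 2, 2, 1, 1, 2, 1],
    [2, 1, 2, 2, 2, 1, 2, 1, 2, 1, 1, 1],
    [2, 2, 2, 1, 2, 2, 2, 2, 1, 1, 2, 1],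
    [1, 2, 2, 2, 1, 2, 1, 2, 2, 1, 1, 1]],
   [[],
    [],
    [],
    [1, 1, 1, 1, 1, 1, 1, 1, 1, 1, 1, 1],
    [1, 1, 1, 1, 1, 1, 1, 1, 1, 1, 1, 1],
    [1, 1, 1, 1, 1, 1, 1, 1, 1, 1, 1, 1],
    [1, 2, 2, 1, 1, 1, 1, 1, 1, 1, 1, 1],
    [2, 1, 2, 1, 1, 1, 1, 1, 1, 1, 1, 1],
    [2, 2, 1, 1, 1, 1, 1, 1, 1, 1, 1, 1],
    [1, 2, 2, 1, 1, 1, 1, 1, 1, 1, 1, 1],
    [2, 2, 1, 1, 1, 1, 1, 1, 1, 1, 1, 1],
    [2, 1, 2, 1, 1, 1, 1, 1, 1, 1, 1, 1]],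
   [[],
    [],
    [],
    [],
    [1, 1, 1, 1, 1, 1, 1, 1, 1, 1, 1, 1],
    [1, 1, 1, 1, 1, 1, 1, 1, 1, 1, 1, 1],
    [1, 2, 2, 1, 1, 1, 1, 1, 1, 1, 1, 1],
    [2, 1, 2, 1, 1, 1, 1, 1, 1, 1, 1, 1],
    [2, 2, 1, 1, 1, 1, 1, 1, 1, 1, 1, 1],
    [1, 2, 2, 1, 1, 1, 1, 1, 1, 1, 1, 1],
    [2, 2, 1, 1, 1, 1, 1, 1, 1, 1, 1, 1],
    [2, 1, 2, 1, 1, 1, 1, 1, 1, 1, 1, 1]]]

def maskList : List ℕ :=
  [63, 222, 237, 243, 347, 366, 373, 413, 427, 438, 455, 504, 591, 630, 633, 667, 679, 700, 725, 746, 791, 813, 826, 860, 867, 910, 945, 969, 978, 996, 1117, 1127, 1146, 1175, 1198, 1209, 1227, 1268, 1295, 1331, 1340, 1366, 1385, 1434, 1445, 1484, 1489, 1506, 1566, 1579, 1589, 1619, 1644, 1677, 1714, 1734, 1752, 1761, 1817, 1830, 1861, 1866, 1904, 1923, 1940, 1960, 2135, 2155, 2172, 2191, 2229, 2234, 2265, 2278, 2334, 2343, 2361, 2381, 2418, 2451, 2476,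 2506, 2516, 2529, 2589, 2606, 2611, 2650, 2661, 2710, 2729, 2755, 2764, 2800, 2827, 2868, 2886, 2897, 2920, 2949, 2968, 2978, 3099, 3117, 3126, 3150, 3185, 3228, 3235, 3269, 3282, 3304, 3349, 3370, 3395, 3416, 3428, 3462, 3465, 3504, 3591, 3640, 3657, 3668, 3682, 3722, 3729, 3748, 3852, 3858, 3873, 4032]

/-- coset representatives of the stabiliser chain: permutation, its inverse, and the signs -/
def Rf (k q : ℕ) (p : ArrayPt) : ArrayPt := ptN (((tR.getD k []).getD q []).getD (ixN p) 0)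

def Rif (k q : ℕ) (p : ArrayPt) : ArrayPt := ptN (((tRi.getD k []).getD q []).getD (ixN p) 0)

def Cf (k q : ℕ) (p : ArrayPt) : (ZMod 3)ˣ :=
  if ((tC.getD k []).getD q []).getD (ixN p) 0 = 2 then -1 else 1

/-- the five base points -/
def Pb : Fin 5 → ArrayPt := ![(0, 0), (0, 1), (0, 2), (1, 0), (1, 1)]

set_option maxHeartbeats 0 in
theorem chain_data : ∀ k : Fin 5, ∀ q : ArrayPt, (∀ i : Fin 5, i < k → Pb i ≠ q) →
    (∀ p : ArrayPt, Rif k (ixN q) (Rf k (ixN q) p) = p ∧ Rf k (ixN q) (Rif k (ixN q) p) = p) ∧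
    (∀ i : Fin 5, i < k → Rf k (ixN q) (Pb i) = Pb i) ∧ Rf k (ixN q) (Pb k) = q ∧
    (∀ j : Fin 6, ∀ p : ArrayPt,
      enc (info (fun p => (Cf k (ixN q) p : ZMod 3) * G j (Rif k (ixN q) p))) p =
        (Cf k (ixN q) p : ZMod 3) * G j (Rif k (ixN q) p)) := by
  decide +kernel

theorem code_eq_span : ternaryGolayCode = Submodule.span (ZMod 3) (Set.range G) := by
  apply le_antisymm
  · intro x hx
    rw [← enc_info hx, enc_eq]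
    have hG : ∀ j, G j ∈ Submodule.span (ZMod 3) (Set.range G) := fun j =>
      Submodule.subset_span ⟨j, rfl⟩
    exact Submodule.add_mem _ (Submodule.add_mem _ (Submodule.add_mem _ (Submodule.add_mem _
      (Submodule.add_mem _ (Submodule.smul_mem _ _ (hG 0)) (Submodule.smul_mem _ _ (hG 1)))
      (Submodule.smul_mem _ _ (hG 2))) (Submodule.smul_mem _ _ (hG 3)))
      (Submodule.smul_mem _ _ (hG 4))) (Submodule.smul_mem _ _ (hG 5))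
  · rw [Submodule.span_le]
    rintro x ⟨j, rfl⟩
    exact G_mem j

theorem chain (k : Fin 5) (q : ArrayPt) (hq : ∀ i : Fin 5, i < k → Pb i ≠ q) :
    ∃ σ ∈ Kgrp ternaryGolayCode, (∀ i : Fin 5, i < k → σ (Pb i) = Pb i) ∧ σ (Pb k) = q := by
  obtain ⟨h1, h2, h3, h4⟩ := chain_data k q hq
  let σ : Equiv.Perm ArrayPt :=
    ⟨Rf k (ixN q), Rif k (ixN q), fun p => (h1 p).1, fun p => (h1 p).2⟩
  refine ⟨σ, ⟨Cf k (ixN q), ?_⟩, h2, h3⟩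
  apply pres_of_span code_eq_span
  rintro x ⟨j, rfl⟩
  rw [mem_iff]
  refine ⟨info (monomialMap σ (Cf k (ixN q)) (G j)), ?_⟩
  funext p
  exact h4 j p

theorem exists_map (e : Fin 5 → ArrayPt) (he : Function.Injective e) :
    ∀ k : ℕ, k ≤ 5 → ∃ σ ∈ Kgrp ternaryGolayCode, ∀ i : Fin 5, i.val < k → σ (Pb i) = e i := by
  intro k
  induction k with
  | zero => intro _; exact ⟨1, Subgroup.one_mem _, fun i hi => absurd hi (Nat.not_lt_zero _)⟩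
  | succ k ih =>
    intro hk
    obtain ⟨σ, hσ, hfix⟩ := ih (by omega)
    let kk : Fin 5 := ⟨k, by omega⟩
    have hq : ∀ i : Fin 5, i < kk → Pb i ≠ σ.symm (e kk) := by
      intro i hi h
      have h1 : σ (Pb i) = e kk := by rw [h]; simp
      rw [hfix i hi] at h1
      exact absurd (he h1) (ne_of_lt hi)
    obtain ⟨ρ, hρ, hρfix, hρk⟩ := chain kk _ hq
    refine ⟨σ * ρ, Subgroup.mul_mem _ hσ hρ, fun i hi => ?_⟩
    rcases Nat.lt_succ_iff_lt_or_eq.mp hi with h | h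
    · show σ (ρ (Pb i)) = e i
      rw [hρfix i h, hfix i h]
    · have h2 : i = kk := Fin.ext h
      subst h2
      show σ (ρ (Pb kk)) = e kk
      rw [hρk]; simp

/-- the hexads -/
abbrev Hex : Set (Finset ArrayPt) :=
  {h : Finset ArrayPt | ∃ x ∈ ternaryGolayCode, ternarySupport x = h ∧ h.card = 6}

theorem mem_supp (x : ArrayPt → ZMod 3) (p : ArrayPt) : p ∈ ternarySupport x ↔ x p ≠ 0 := by
  simp [ternarySupport]

theorem Hex_eq : Hex = (HF : Set (Finset ArrayPt)) := hexads_eq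

theorem supp_mm (σ : Equiv.Perm ArrayPt) (c : ArrayPt → (ZMod 3)ˣ) (x : ArrayPt → ZMod 3) :
    ternarySupport (monomialMap σ c x) = σ • ternarySupport x := by
  ext p
  rw [Finset.mem_smul_finset, mem_supp, mm_apply]
  constructor
  · intro h
    refine ⟨σ.symm p, (mem_supp _ _).mpr (right_ne_zero_of_mul h), ?_⟩
    simp [Equiv.Perm.smul_def]
  · rintro ⟨y, hy, rfl⟩
    rw [Equiv.Perm.smul_def, Equiv.symm_apply_apply]
    exact mul_ne_zero (Units.ne_zero _) ((mem_supp _ _).mp hy)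

theorem K_le : Kgrp ternaryGolayCode ≤ setSystemAut Hex := by
  have sub : ∀ τ ∈ Kgrp ternaryGolayCode, τ • Hex ⊆ Hex := by
    rintro τ ⟨c, hc⟩ h hh
    obtain ⟨h0, ⟨x, hx, rfl, hcard⟩, rfl⟩ := hh
    refine ⟨monomialMap τ c x, hc x hx, supp_mm τ c x, ?_⟩
    rw [Finset.card_smul_finset]; exact hcard
  intro σ hσ
  rw [MulAction.mem_stabilizer_iff]
  apply Set.Subset.antisymm (sub σ hσ)
  have h1 := sub σ⁻¹ (Subgroup.inv_mem _ hσ)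
  intro h hh
  rw [Set.mem_smul_set_iff_inv_smul_mem]
  exact h1 (Set.smul_mem_smul_set hh)

theorem aut_mem_HF {σ : Equiv.Perm ArrayPt} (hσ : σ ∈ setSystemAut Hex) {h : Finset ArrayPt}
    (hh : h ∈ HF) : h.image σ ∈ HF := by
  rw [MulAction.mem_stabilizer_iff] at hσ
  have h1 : σ • h ∈ σ • Hex := Set.smul_mem_smul_set (by rw [Hex_eq]; exact hh)
  rw [hσ, Hex_eq] at h1
  have h2 : σ • h = h.image σ := rfl
  rw [← h2]
  exact h1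

/-- the hexad through the base points -/
def b0 : Finset ArrayPt := Finset.univ.filter fun p : ArrayPt => p.1.val < 2

def qs : Fin 6 → ArrayPt := ![(2, 0), (2, 1), (2, 2), (3, 0), (3, 1), (3, 2)]

def qidx (p : ArrayPt) : Fin 6 := Fin.ofNat 6 (3 * (p.1.val - 2) + ZMod.val p.2)

/-- extension of a map of the last six points by the identity on the first six -/
def Ext (τ : Fin 6 → Fin 6) (p : ArrayPt) : ArrayPt := if p.1.val < 2 then p else qs (τ (qidx p))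

def mask (s : Finset ArrayPt) : ℕ := ∑ p ∈ s, 2 ^ ixN p

theorem mem_b0 (p : ArrayPt) : p ∈ b0 ↔ p.1.val < 2 := by
  unfold b0
  rw [Finset.mem_filter]
  exact and_iff_right (Finset.mem_univ _)

theorem mem_HF_iff (h : Finset ArrayPt) :
    h ∈ HF ↔ ∃ t : T6, (ternarySupport (enc t)).card = 6 ∧ ternarySupport (enc t) = h := by
  simp only [HF, Finset.mem_image, Finset.mem_filter, Finset.mem_univ, true_and]

set_option maxHeartbeats 0 in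
theorem HF_mask' : ∀ t : T6, (ternarySupport (enc t)).card = 6 →
    mask (ternarySupport (enc t)) ∈ maskList := by decide +kernel

theorem HF_mask : ∀ h ∈ HF, mask h ∈ maskList := by
  intro h hh
  obtain ⟨t, ht, rfl⟩ := (mem_HF_iff h).mp hh
  exact HF_mask' t ht

set_option maxHeartbeats 0 in
theorem b0_unique' : ∀ t : T6, (ternarySupport (enc t)).card = 6 →
    (∀ i : Fin 5, Pb i ∈ ternarySupport (enc t)) → ternarySupport (enc t) = b0 := by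
  decide +kernel

theorem b0_unique : ∀ h ∈ HF, (∀ i : Fin 5, Pb i ∈ h) → h = b0 := by
  intro h hh
  obtain ⟨t, ht, rfl⟩ := (mem_HF_iff h).mp hh
  exact b0_unique' t ht

theorem b0_mem : b0 ∈ HF := by
  rw [mem_HF_iff]
  exact ⟨(1, 1, 1, 2, 2, 0), by decide +kernel, by decide +kernel⟩

theorem b0_pts : ∀ p : ArrayPt, p.1.val < 2 → (∃ i, Pb i = p) ∨ p = (1, 2) := by decide

theorem Pb_ne : ∀ i : Fin 5, Pb i ≠ (1, 2) := by decide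

theorem Pb_b0 : ∀ i : Fin 5, (Pb i).1.val < 2 := by decide

theorem Pb_inj : Function.Injective Pb := by decide

theorem qs_qidx : ∀ p : ArrayPt, ¬ p.1.val < 2 → qs (qidx p) = p := by decide

theorem qs_inj : Function.Injective qs := by decide

set_option maxHeartbeats 0 in
set_option synthInstance.maxSize 100000 in
set_option synthInstance.maxHeartbeats 0 in
theorem stab_data : ∀ a b : Fin 6, a ≠ b → ∀ c : Fin 6, c ≠ a → c ≠ b →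
    ∀ d : Fin 6, d ≠ a → d ≠ b → d ≠ c → ∀ e : Fin 6, e ≠ a → e ≠ b → e ≠ c → e ≠ d →
    ∀ f : Fin 6, f ≠ a → f ≠ b → f ≠ c → f ≠ d → f ≠ e →
    (∀ t : T6, (ternarySupport (enc t)).card = 6 →
      mask ((ternarySupport (enc t)).image (Ext ![a, b, c, d, e, f])) ∈ maskList) →
    a = 0 ∧ b = 1 ∧ c = 2 ∧ d = 3 ∧ e = 4 ∧ f = 5 := by
  decide +kernel

theorem qs_out : ∀ j : Fin 6, ¬ (qs j).1.val < 2 := by decide

theorem stab5_trivial {σ : Equiv.Perm ArrayPt} (hσ : σ ∈ setSystemAut Hex)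
    (hfix : ∀ i : Fin 5, σ (Pb i) = Pb i) : σ = 1 := by
  have hb0 : b0.image σ = b0 := by
    apply b0_unique _ (aut_mem_HF hσ b0_mem)
    intro i
    rw [Finset.mem_image]
    exact ⟨Pb i, (mem_b0 _).mpr (Pb_b0 i), hfix i⟩
  have hin : ∀ p : ArrayPt, p.1.val < 2 → (σ p).1.val < 2 := by
    intro p hp
    have h1 : σ p ∈ b0.image σ := Finset.mem_image_of_mem _ ((mem_b0 _).mpr hp)
    rw [hb0] at h1
    exact (mem_b0 _).mp h1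
  have hfixb : ∀ p : ArrayPt, p.1.val < 2 → σ p = p := by
    intro p hp
    rcases b0_pts p hp with ⟨i, rfl⟩ | rfl
    · exact hfix i
    · rcases b0_pts _ (hin _ hp) with ⟨i, hi⟩ | h
      · exfalso
        have h2 : σ (Pb i) = σ (1, 2) := by rw [hfix i, hi]
        exact Pb_ne i (σ.injective h2)
      · exact h
  have hout : ∀ p : ArrayPt, ¬ p.1.val < 2 → ¬ (σ p).1.val < 2 := by
    intro p hp h
    have h2 := hfixb _ h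
    have h3 : σ p = p := σ.injective h2
    rw [h3] at h
    exact hp h
  let τ : Fin 6 → Fin 6 := fun j => qidx (σ (qs j))
  have hτ : ∀ j, σ (qs j) = qs (τ j) := fun j => (qs_qidx _ (hout _ (qs_out j))).symm
  have hτinj : Function.Injective τ := by
    intro j j' h
    apply qs_inj
    apply σ.injective
    rw [hτ, hτ, h]
  have hE : ∀ p, σ p = Ext τ p := by
    intro p
    unfold Ext
    split_ifs with hp
    · exact hfixb p hp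
    · have h1 := hτ (qidx p)
      rw [qs_qidx p hp] at h1
      exact h1
  have hvec : (![τ 0, τ 1, τ 2, τ 3, τ 4, τ 5] : Fin 6 → Fin 6) = τ := by
    funext j; fin_cases j <;> rfl
  have hne : ∀ i j : Fin 6, i ≠ j → τ i ≠ τ j := fun i j hij h => hij (hτinj h)
  have hmask : ∀ t : T6, (ternarySupport (enc t)).card = 6 →
      mask ((ternarySupport (enc t)).image (Ext ![τ 0, τ 1, τ 2, τ 3, τ 4, τ 5])) ∈ maskList := by
    intro t ht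
    rw [hvec]
    have h1 : (ternarySupport (enc t)).image (Ext τ) = (ternarySupport (enc t)).image σ :=
      Finset.image_congr (fun p _ => (hE p).symm)
    rw [h1]
    exact HF_mask _ (aut_mem_HF hσ ((mem_HF_iff _).mpr ⟨t, ht, rfl⟩))
  obtain ⟨h0, h1, h2, h3, h4, h5⟩ := stab_data (τ 0) (τ 1) (hne _ _ (by decide))
    (τ 2) (hne _ _ (by decide)) (hne _ _ (by decide))
    (τ 3) (hne _ _ (by decide)) (hne _ _ (by decide)) (hne _ _ (by decide))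
    (τ 4) (hne _ _ (by decide)) (hne _ _ (by decide)) (hne _ _ (by decide)) (hne _ _ (by decide))
    (τ 5) (hne _ _ (by decide)) (hne _ _ (by decide)) (hne _ _ (by decide)) (hne _ _ (by decide))
    (hne _ _ (by decide)) hmask
  have hτid : ∀ j, τ j = j := by
    intro j; fin_cases j <;> assumption
  apply Equiv.ext
  intro p
  rw [hE p]
  unfold Ext
  split_ifs with hp
  · rfl
  · rw [hτid, qs_qidx p hp]; rfl

theorem aut_eq_of_agree {σ ρ : Equiv.Perm ArrayPt} (hσ : σ ∈ setSystemAut Hex)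
    (hρ : ρ ∈ setSystemAut Hex) (h : ∀ i, σ (Pb i) = ρ (Pb i)) : σ = ρ := by
  have h1 : ρ⁻¹ * σ = 1 :=
    stab5_trivial (Subgroup.mul_mem _ (Subgroup.inv_mem _ hρ) hσ) (fun i => by
      show ρ⁻¹ (σ (Pb i)) = Pb i
      rw [h i]; simp)
  exact (inv_mul_eq_one.mp h1).symm

theorem K_eq : (Kgrp ternaryGolayCode : Set (Equiv.Perm ArrayPt)) = setSystemAut Hex := by
  apply Set.Subset.antisymm K_le
  intro σ hσ
  obtain ⟨ρ, hρ, hρe⟩ := exists_map (fun i => σ (Pb i)) (σ.injective.comp Pb_inj) 5 le_rfl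
  have h1 : σ = ρ := aut_eq_of_agree hσ (K_le hρ) (fun i => (hρe i i.isLt).symm)
  rw [h1]; exact hρ

theorem card_K : Nat.card (Kgrp ternaryGolayCode) = 95040 := by
  have hbij : Function.Bijective (fun σ : Kgrp ternaryGolayCode =>
      (⟨fun i => σ.1 (Pb i), σ.1.injective.comp Pb_inj⟩ : Fin 5 ↪ ArrayPt)) := by
    constructor
    · intro σ ρ h
      apply Subtype.ext
      apply aut_eq_of_agree (K_le σ.2) (K_le ρ.2)
      intro i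
      exact congrFun (congrArg (fun e : Fin 5 ↪ ArrayPt => (e : Fin 5 → ArrayPt)) h) i
    · intro e
      obtain ⟨ρ, hρ, hρe⟩ := exists_map e e.injective 5 le_rfl
      exact ⟨⟨ρ, hρ⟩, Function.Embedding.ext (fun i => hρe i i.isLt)⟩
  rw [Nat.card_congr (Equiv.ofBijective _ hbij), Nat.card_eq_fintype_card,
    Fintype.card_embedding_eq]
  simp [Nat.descFactorial]

theorem card_diag : Nat.card {c : ArrayPt → (ZMod 3)ˣ //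
    ((1 : Equiv.Perm ArrayPt), c) ∈ Pres ternaryGolayCode} = 2 := by
  rw [Nat.card_eq_two_iff]
  have hneg : ((1 : Equiv.Perm ArrayPt), fun _ : ArrayPt => (-1 : (ZMod 3)ˣ)) ∈
      Pres ternaryGolayCode := by
    intro x hx
    have h1 : monomialMap (1 : Equiv.Perm ArrayPt) (fun _ => (-1 : (ZMod 3)ˣ)) x = -x := by
      funext p
      show ((-1 : (ZMod 3)ˣ) : ZMod 3) * x p = -x p
      simp
    show monomialMap (1 : Equiv.Perm ArrayPt) (fun _ => (-1 : (ZMod 3)ˣ)) x ∈ ternaryGolayCode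
    rw [h1]; exact Submodule.neg_mem _ hx
  refine ⟨⟨fun _ => 1, pres_one⟩, ⟨fun _ => -1, hneg⟩, ?_, ?_⟩
  · intro h
    have h1 : (1 : (ZMod 3)ˣ) = -1 := congrFun (congrArg Subtype.val h) (0, 0)
    have h2 : ((1 : (ZMod 3)ˣ) : ZMod 3) = ((-1 : (ZMod 3)ˣ) : ZMod 3) := congrArg Units.val h1
    rw [Units.val_one, Units.val_neg, Units.val_one] at h2
    exact absurd h2 (by decide)
  · ext ⟨c, hc⟩
    simp only [Set.mem_insert_iff, Set.mem_singleton_iff, Set.mem_univ, iff_true]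
    rcases diag_kernel c hc with h | h
    · left; apply Subtype.ext; funext p; exact h p
    · right; apply Subtype.ext; funext p; exact h p

theorem aut_group :
    Nat.card {f : Equiv.Perm ArrayPt × (ArrayPt → (ZMod 3)ˣ) //
      (∀ x ∈ ternaryGolayCode, monomialMap f.1 f.2 x ∈ ternaryGolayCode)} = 190080 ∧
    {σ : Equiv.Perm ArrayPt | ∃ c : ArrayPt → (ZMod 3)ˣ,
      (∀ x ∈ ternaryGolayCode, monomialMap σ c x ∈ ternaryGolayCode)} =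
      (setSystemAut {h : Finset ArrayPt | ∃ x ∈ ternaryGolayCode, ternarySupport x = h ∧ h.card = 6} :
        Set (Equiv.Perm ArrayPt)) := by
  refine ⟨?_, K_eq⟩
  have h := card_pres (C := ternaryGolayCode)
  rw [card_K, card_diag] at h
  exact h

end Cfsg.Agent.Helper17.TGolay
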